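import Groth.Agent.AmpleVan.Uniform
import Groth.Agent.AmpleVan.Criterion
import Groth.Agent.AmpleX.Rel
import Groth.Agent.QCoh.OpenSub
import Groth.Agent.QCoh.RpushModel
import Groth.Agent.QCoh.RpushProper
import Groth.Agent.QCoh.RpushAbGod

/-!
# Relative ampleness and vanishing of higher direct images
-/

noncomputable section

universe u

open CategoryTheory CategoryTheory.Limits AlgebraicGeometry TopologicalSpace Opposite
open Groth.Agent Groth.Agent.H23.PicMul Groth.Agent.QCoh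

set_option linter.style.haveILetI false
set_option maxHeartbeats 800000
set_option backward.isDefEq.respectTransparency false
set_option backward.isDefEq.respectTransparency.types false

namespace Groth.Agent.NormX

variable {X S : Scheme.{u}} (f : X ⟶ S) [IsProper f] [AlgebraicGeometry.IsNoetherian S]

theorem isZero_Rpush_iff [HasInjectiveResolutions X.Modules] {M : X.Modules} (hM : Coh.IsQCoh M) (p : ℕ) :
    IsZero ((Coh.Rpush f p).obj M) ↔
      ∀ V : S.affineOpens, Subsingleton (Coh.HH _ (M.restrict (f ⁻¹ᵁ V.1).ι) p) := by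
  constructor
  · intro h V
    obtain ⟨e⟩ := QCoh.nonempty_sections_HH (f := f) hM V.2 p
    haveI : Subsingleton Γ((Coh.Rpush f p).obj M, V.1) := subsingleton_of_forall_eq 0 fun z =>
      (congr(($((IsZero.iff_id_eq_zero _).1 h)).app V.1 z) :)
    exact e.symm.toEquiv.subsingleton
  · intro h
    refine QCoh.isZero_of_app_eq_zero (QCoh.isQCoh_Rpush f hM p) fun V x => ?_
    obtain ⟨e⟩ := QCoh.nonempty_sections_HH (f := f) hM V.2 p
    haveI := h V
    exact e.injective (Subsingleton.elim _ _)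

omit [IsProper f] [AlgebraicGeometry.IsNoetherian S] in
theorem nonempty_restrict_twist (U : X.Opens) (N L : X.Modules) (n : ℕ) :
    Nonempty ((CohB1.tensorMod N (CohB1.tensorPow L n)).restrict U.ι ≅
      CohB1.tensorMod (N.restrict U.ι) (CohB1.tensorPow (L.restrict U.ι) n)) :=
  cl_eq_iff.1 (by
    rw [cl_tensor, cl_tensorPow, AmpleX.cl_restrict, AmpleX.cl_restrict, AmpleX.cl_restrict, cl_tensor,
      cl_tensorPow, pullCl_mul, pullCl_pow])

omit [IsProper f] [AlgebraicGeometry.IsNoetherian S] in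
theorem isQCoh_twist {I L : X.Modules} (hI : Coh.IsQCoh I) (hL : PicF.IsInvertible L) (n : ℕ) :
    Coh.IsQCoh (CohB1.tensorMod I (CohB1.tensorPow L n)) :=
  KFlatLib.isQCoh_tensor hI (ProjUPX.isQCoh_of_isInvertible (InvX.isInvertible_tensorPow hL n))

theorem exists_vanishing_Rpush [HasInjectiveResolutions X.Modules] {L : X.Modules}
    (hA : ∀ V : S.affineOpens, CohB1.IsAmple (L.restrict (f ⁻¹ᵁ V.1).ι)) (hL : PicF.IsInvertible L)
    {M : X.Modules} (hM : Coh.IsCoh M) :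
    ∃ n₀, ∀ n, n₀ ≤ n → ∀ q : ℕ,
      IsZero ((Coh.Rpush f (q + 1)).obj (CohB1.tensorMod M (CohB1.tensorPow L n))) := by
  classical
  haveI : IsLocallyNoetherian X := LocallyOfFiniteType.isLocallyNoetherian f
  have hd : ∀ V : S.affineOpens, ∃ d₀, ∀ n, d₀ ≤ n → ∀ q, Subsingleton (Coh.HH _
      ((CohB1.tensorMod M (CohB1.tensorPow L n)).restrict (f ⁻¹ᵁ V.1).ι) (q + 1)) := by
    intro V
    letI : ((f ⁻¹ᵁ V.1 : X.Opens) : Scheme.{u}).Over (Spec Γ(S, V.1)) := ⟨QCoh.overSpec f V.2⟩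
    haveI : IsProper (((f ⁻¹ᵁ V.1 : X.Opens) : Scheme.{u}) ↘ Spec Γ(S, V.1)) :=
      MorphismProperty.of_isPullback (QCoh.isPullback_overSpec (f := f) V.2) ‹IsProper f›
    haveI : IsNoetherianRing Γ(S, V.1) := IsLocallyNoetherian.component_noetherian V
    obtain ⟨d₀, hd⟩ := AmpleVan.exists_vanishing (A := Γ(S, V.1)) (hA V) (QCoh.isCoh_restrict_open hM)
    refine ⟨d₀, fun n hn q => ?_⟩
    obtain ⟨e⟩ := nonempty_restrict_twist (f ⁻¹ᵁ V.1) M L n
    exact QCoh.subsingleton_HH_of_iso e.symm _ (hd n hn q)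
  choose d hd using hd
  obtain ⟨T, hT⟩ := isCompact_univ.elim_finite_subcover (fun V : S.affineOpens => (V.1 : Set S))
    (fun V => V.1.2) (fun y _ => by
      obtain ⟨_, ⟨V, hV, rfl⟩, hyV, -⟩ :=
        S.isBasis_affineOpens.exists_subset_of_mem_open (Set.mem_univ y) isOpen_univ
      exact Set.mem_iUnion.2 ⟨⟨V, hV⟩, hyV⟩)
  refine ⟨T.sup d, fun n hn q => ?_⟩
  have hq : Coh.IsQCoh (CohB1.tensorMod M (CohB1.tensorPow L n)) :=
    KFlatLib.isQCoh_tensor hM.1 (ProjUPX.isQCoh_of_isInvertible (InvX.isInvertible_tensorPow hL n))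
  refine QCoh.isZero_of_cover (QCoh.isQCoh_Rpush f hq _) (fun V : T => V.1.1) (fun V => V.1.2)
    (fun y => let ⟨V, hV, hyV⟩ := Set.mem_iUnion₂.1 (hT (Set.mem_univ y)); ⟨⟨V, hV⟩, hyV⟩) fun V => ?_
  obtain ⟨e⟩ := QCoh.nonempty_sections_HH (f := f) hq V.1.2 (q + 1)
  haveI := hd V.1 n ((Finset.le_sup (f := d) V.2).trans hn) q
  exact e.toEquiv.subsingleton

theorem isRelAmple_of_vanishing [HasInjectiveResolutions X.Modules] {L : X.Modules} (hL : PicF.IsInvertible L)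
    (h : ∀ (J : X.Modules) (ι : J ⟶ Coh.structureModule X), Mono ι → Coh.IsCoh J →
      ∃ N : ℕ, ∀ n : ℕ, N ≤ n → IsZero ((Coh.Rpush f 1).obj (CohB1.tensorMod J (CohB1.tensorPow L n)))) :
    RelAmple.IsRelAmple f L := by
  haveI : IsLocallyNoetherian X := LocallyOfFiniteType.isLocallyNoetherian f
  refine ⟨inferInstance, fun V => ?_⟩
  haveI : CompactSpace ((f ⁻¹ᵁ V.1 : X.Opens) : Scheme.{u}) :=
    isCompact_iff_compactSpace.mp (f.isCompact_preimage V.2.isCompact)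
  refine AmpleVan.isAmple_of_HH_one (AmpleX.isInvertible_restrict _ hL) fun Z _ => ?_
  obtain ⟨I, ι, hι, hI, ⟨e⟩⟩ := QCoh.exists_extend_ideal (f ⁻¹ᵁ V.1).ι (QCoh.vanIdeal Z).ι
    (QCoh.isQCoh_vanIdeal Z)
  haveI := hι
  obtain ⟨N, hN⟩ := h I ι hι (QCoh.isCoh_of_mono ι QCoh.isCoh_structureModule' hI)
  refine ⟨N, ?_⟩
  have hz := (isZero_Rpush_iff f (isQCoh_twist hI hL (N + 1)) 1).1 (hN (N + 1) (Nat.le_succ _)) V
  obtain ⟨θ⟩ : Nonempty ((CohB1.tensorMod I (CohB1.tensorPow L (N + 1))).restrict (f ⁻¹ᵁ V.1).ι ≅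
      CohB1.tensorMod (QCoh.vanIdeal Z).toModules (CohB1.tensorPow (L.restrict (f ⁻¹ᵁ V.1).ι) (N + 1))) := by
    obtain ⟨θ⟩ := nonempty_restrict_twist (f ⁻¹ᵁ V.1) I L (N + 1)
    refine cl_eq_iff.1 ?_
    rw [cl_eq_iff.2 ⟨θ⟩, cl_tensor, cl_tensor, cl_eq_iff.2 ⟨e⟩]
  exact QCoh.subsingleton_HH_of_iso θ 1 hz

end Groth.Agent.NormX
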