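import Groth.Agent.NormX.Build
import Groth.Prelude.Def_FlatMod2

/-!
# Norms from locally free direct images
-/

noncomputable section

universe u

open CategoryTheory AlgebraicGeometry TopologicalSpace Opposite
open Groth.Agent Groth.Agent.GrpdLib Groth.Agent.AModX

set_option backward.isDefEq.respectTransparency false
set_option backward.isDefEq.respectTransparency.types false

namespace Groth.Agent.NormX

variable {X Y : Scheme.{u}} (π : X ⟶ Y)

theorem exists_frame_of_restrict {U V : Y.Opens} (hV : IsAffineOpen V) (hle : V ≤ U) {n : ℕ}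
    (e : ((Coh.push π).obj (Coh.structureModule X)).restrict U.ι ≅ FlatMod.freeMod (U : Scheme.{u}) n) :
    ∃ F : Frame (π.app V).hom n, F.mat 1 = 1 := by
  classical
  obtain ⟨l⟩ := QCoh.free_sections hV hle e
  let lf : Γ(X, π ⁻¹ᵁ V) ≃+ (ULift.{u} (Fin n) →₀ Γ(Y, V)) := l.toAddEquiv
  have hsmul : ∀ (a : Γ(Y, V)) (x : Γ(X, π ⁻¹ᵁ V)), lf (π.app V a * x) = a • lf x := fun a x => l.map_smul a x
  let F : Frame (π.app V).hom n :=
    { u := fun i => lf.symm (Finsupp.single ⟨i⟩ 1)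
      v := fun i => (Finsupp.applyAddHom (ULift.up i)).comp lf.toAddMonoidHom
      v_smul := fun i a x => by
        show (lf (π.app V a * x)) ⟨i⟩ = a * lf x ⟨i⟩
        rw [hsmul]
        rfl
      sum_v := fun x => lf.injective (by
        rw [map_sum]
        ext ⟨j⟩ : 1
        rw [Finsupp.finsetSum_apply, Finset.sum_eq_single j]
        · show (lf (π.app V (lf x ⟨j⟩) * lf.symm (Finsupp.single ⟨j⟩ 1))) ⟨j⟩ = _
          rw [hsmul, AddEquiv.apply_symm_apply, Finsupp.smul_apply, Finsupp.single_eq_same, smul_eq_mul, mul_one]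
        · intro i _ hij
          show (lf (π.app V (lf x ⟨i⟩) * lf.symm (Finsupp.single ⟨i⟩ 1))) ⟨j⟩ = _
          rw [hsmul, AddEquiv.apply_symm_apply, Finsupp.smul_apply,
            Finsupp.single_eq_of_ne (fun h => hij (ULift.up.inj h).symm), smul_zero]
        · exact fun h => absurd (Finset.mem_univ j) h) }
  refine ⟨F, ?_⟩
  ext i j
  show (lf (1 * lf.symm (Finsupp.single ⟨j⟩ 1))) ⟨i⟩ = _
  rw [one_mul, AddEquiv.apply_symm_apply, Matrix.one_apply]
  by_cases h : i = j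
  · rw [h, if_pos rfl, Finsupp.single_eq_same]
  · rw [if_neg h, Finsupp.single_eq_of_ne (fun h' => h (ULift.up.inj h'))]

theorem frame_ne_zero [Surjective π] {V : Y.Opens} {n : ℕ} (F : Frame (π.app V).hom n) {y : Y} (hy : y ∈ V) :
    n ≠ 0 := by
  rintro rfl
  obtain ⟨x, rfl⟩ := π.surjective y
  have h := F.sum_v 1
  rw [Finset.univ_eq_empty, Finset.sum_empty] at h
  have h2 := congrArg (X.presheaf.germ (π ⁻¹ᵁ V) x hy) h
  rw [map_zero, map_one] at h2
  exact zero_ne_one h2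

theorem exists_hasNorm_of_isFinLocFree [IsAffineHom π] [Surjective π] [CompactSpace Y]
    (hfree : FlatMod.IsFinLocFree ((Coh.push π).obj (Coh.structureModule X))) : ∃ D, Nrm.HasNorm π D := by
  classical
  have h : ∀ y : Y, ∃ (V : Y.Opens) (n : ℕ), y ∈ V ∧ IsAffineOpen V ∧ 0 < n ∧
      ∃ F : Frame (π.app V).hom n, F.mat 1 = 1 := fun y => by
    obtain ⟨U, n, hyU, ⟨e⟩⟩ := hfree y
    obtain ⟨_, ⟨V, hV, rfl⟩, hyV, hle⟩ :=
      Y.isBasis_affineOpens.exists_subset_of_mem_open (show y ∈ U from hyU) U.2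
    obtain ⟨F, hF⟩ := exists_frame_of_restrict π hV hle e
    exact ⟨V, n, hyV, hV, Nat.pos_of_ne_zero (frame_ne_zero π F hyV), F, hF⟩
  choose V n hyV hV hn F hF using h
  obtain ⟨S, hS⟩ := isCompact_univ.elim_finite_subcover (fun y : Y => (V y : Set Y)) (fun y => (V y).2)
    (fun y _ => Set.mem_iUnion.2 ⟨y, hyV y⟩)
  refine ⟨∏ y ∈ S, n y, exists_norm (fun y => ?_) (Finset.prod_pos fun y _ => hn y)⟩
  obtain ⟨z, hz, hyz⟩ := Set.mem_iUnion₂.1 (hS (Set.mem_univ y))
  exact ⟨V z, hyz, hV z, n z, Finset.dvd_prod_of_mem _ hz, F z, hF z⟩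

end Groth.Agent.NormX
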