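import Groth.Agent.NormX.Section
import Groth.Agent.H23.CocycleMod
import Groth.Agent.InvUfdLib.Semilocal

/-!
# The norm of an invertible module
-/

noncomputable section

universe u

open CategoryTheory AlgebraicGeometry TopologicalSpace Opposite
open Groth.Agent Groth.Agent.AModX Groth.Agent.AmpleX Groth.Agent.H23.PicMul

set_option linter.style.haveILetI false
set_option backward.isDefEq.respectTransparency false
set_option backward.isDefEq.respectTransparency.types false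

namespace Groth.Agent.NormX

variable {X Y : Scheme.{u}} {π : X ⟶ Y} {d : ℕ} [IsFinite π] {L : X.Modules}

/-- An invertible module upstairs has frames over the preimages of a cover. -/
theorem exists_frame_preimage (hL : PicF.IsInvertible L) (y : Y) :
    ∃ (W : Y.Opens) (e : Γ(L, π ⁻¹ᵁ W)), y ∈ W ∧ InvX.IsFrame e := by
  obtain ⟨_, ⟨V₀, hV₀, rfl⟩, hyV₀, -⟩ :=
    Y.isBasis_affineOpens.exists_subset_of_mem_open (Set.mem_univ y) isOpen_univ
  have hd : ∀ x ∈ π ⁻¹' {y}, ∀ x' ∈ π ⁻¹' {y}, x ⤳ x' → x = x' := by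
    intro x hx x' hx' h
    have := (π.isDiscrete_preimage_singleton y).1
    have h' : (⟨x, hx⟩ : π ⁻¹' {y}) ⤳ ⟨x', hx'⟩ := (subtype_specializes_iff _ _).2 h
    exact congrArg Subtype.val h'.eq
  obtain ⟨O, s, hFO, hs⟩ := InvUfdLib.exists_frame_finset hL (hV₀.preimage π) (π ⁻¹' {y})
    (π.finite_preimage_singleton y) (fun x (hx : π x = y) => show π x ∈ V₀ from hx ▸ hyV₀) hd
  obtain ⟨W, hyW, hW⟩ := exists_open_fibre O fun x hx => hFO hx
  exact ⟨W, res L hW s, hyW, hs.res hW⟩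

theorem exists_normLine (N : WNorm π) (hL : PicF.IsInvertible L) :
    ∃ M : Y.Modules, PicF.IsInvertible M ∧ ∀ (m : ℕ) (O : Y.Opens) (a : Γ(CohB1.tensorPow L m, π ⁻¹ᵁ O)),
      ∃ b : Γ(CohB1.tensorPow M m, O), ∀ y, y ∈ locus b ↔ y ∈ O ∧ ∀ x, π x = y → x ∈ locus a := by
  classical
  let ι : Type u := Σ W : Y.Opens, {e : Γ(L, π ⁻¹ᵁ W) // InvX.IsFrame e}
  let U : ι → Y.Opens := fun i => i.1
  have hcov : ∀ y, ∃ i, y ∈ U i := fun y => by
    obtain ⟨W, e, hyW, he⟩ := exists_frame_preimage (π := π) hL y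
    exact ⟨⟨W, e, he⟩, hyW⟩
  have n1 : ∀ {V W : Y.Opens} (h : W ≤ V) (c : Γ(X, π ⁻¹ᵁ V)),
      resR h (N.norm V c) = N.norm W (resR (π.preimage_mono h) c) := fun h c => N.norm_res (homOfLE h) c
  choose c hc using fun i j : ι => j.2.2.exists_coord (π.preimage_mono (inf_le_right : U i ⊓ U j ≤ U j))
    (res L (π.preimage_mono (inf_le_left : U i ⊓ U j ≤ U i)) i.2.1)
  have hcW : ∀ (i j : ι) (W : Y.Opens) (hi : W ≤ U i) (hj : W ≤ U j),
      res L (π.preimage_mono hi) i.2.1 =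
        resR (π.preimage_mono (le_inf hi hj)) (c i j) • res L (π.preimage_mono hj) j.2.1 := by
    intro i j W hi hj
    have h := congrArg (res L (π.preimage_mono (le_inf hi hj))) (hc i j)
    rw [res_smul, res_res, res_res] at h
    exact h
  have hunit : ∀ i j, IsUnit (N.norm _ (c i j)) := fun i j => by
    refine IsUnit.map _ (IsUnit.of_mul_eq_one
      (resR (π.preimage_mono (le_inf inf_le_right inf_le_left : U i ⊓ U j ≤ U j ⊓ U i)) (c j i)) ?_)
    refine j.2.2.coord_unique (π.preimage_mono (inf_le_right : U i ⊓ U j ≤ U j)) ?_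
    rw [one_smul, mul_comm, mul_smul, ← hc i j, ← hcW j i _ inf_le_right inf_le_left]
  let t : H23.CocycleMod.Cocycle U :=
    { g := fun i j => (hunit i j).unit
      trans := fun i j k W hi hj hk => by
        rw [IsUnit.unit_spec, IsUnit.unit_spec, IsUnit.unit_spec, n1, n1, n1, ← map_mul]
        refine congrArg _ (k.2.2.coord_unique (π.preimage_mono hk) ?_)
        rw [mul_comm, mul_smul, ← hcW i k W hi hk, ← hcW j k W hj hk, ← hcW i j W hi hj] }
  let M := H23.CocycleMod.mod t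
  let f : ∀ i, Γ(M, U i) := fun i => H23.CocycleMod.frame t i
  have hf : ∀ i, InvX.IsFrame (f i) := H23.CocycleMod.isFrame_frame t
  have hM : PicF.IsInvertible M :=
    H23.CocycleMod.isInvertible t (eq_top_iff.2 fun p _ => Opens.mem_iSup.2 (hcov p))
  have hfW : ∀ (i j : ι) (W : Y.Opens) (hi : W ≤ U i) (hj : W ≤ U j),
      res M hi (f i) = N.norm W (resR (π.preimage_mono (le_inf hi hj)) (c i j)) • res M hj (f j) := by
    intro i j W hi hj
    have h := congrArg (res M (le_inf hi hj)) (H23.CocycleMod.res_frame t i j)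
    rw [res_smul, res_res, res_res] at h
    refine h.trans (congrArg (· • res M hj (f j)) ?_)
    show resR _ ((hunit i j).unit : Γ(Y, U i ⊓ U j)) = _
    rw [IsUnit.unit_spec, n1]
  refine ⟨M, hM, fun m O a => ?_⟩
  choose γ hγ using fun i : ι => (isFrame_powElt i.2.2 m).exists_coord
    (π.preimage_mono (inf_le_left : U i ⊓ O ≤ U i)) (res _ (π.preimage_mono (inf_le_right : U i ⊓ O ≤ O)) a)
  have hcompat : ∀ i j : ι,
      res (CohB1.tensorPow M m) (inf_le_left : (U i ⊓ O) ⊓ (U j ⊓ O) ≤ U i ⊓ O)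
        (N.norm _ (γ i) • res _ inf_le_left (powElt (f i) m)) =
      res (CohB1.tensorPow M m) (inf_le_right : (U i ⊓ O) ⊓ (U j ⊓ O) ≤ U j ⊓ O)
        (N.norm _ (γ j) • res _ inf_le_left (powElt (f j) m)) := by
    intro i j
    let W := (U i ⊓ O) ⊓ (U j ⊓ O)
    have hi : W ≤ U i := inf_le_left.trans inf_le_left
    have hj : W ≤ U j := inf_le_right.trans inf_le_left
    have e2 : resR (π.preimage_mono (inf_le_left : W ≤ U i ⊓ O)) (γ i) *
        resR (π.preimage_mono (le_inf hi hj)) (c i j) ^ m =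
          resR (π.preimage_mono (inf_le_right : W ≤ U j ⊓ O)) (γ j) := by
      refine (isFrame_powElt j.2.2 m).coord_unique (π.preimage_mono hj) ?_
      have a1 := congrArg (res (CohB1.tensorPow L m) (π.preimage_mono (inf_le_left : W ≤ U i ⊓ O))) (hγ i)
      have a2 := congrArg (res (CohB1.tensorPow L m) (π.preimage_mono (inf_le_right : W ≤ U j ⊓ O))) (hγ j)
      rw [res_smul, res_res, res_res] at a1 a2
      rw [← a2, a1, mul_smul, res_powElt, res_powElt, hcW i j W hi hj, powElt_smul]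
    rw [res_smul, res_smul, res_res, res_res, res_powElt, res_powElt, hfW i j W hi hj, powElt_smul, smul_smul,
      n1, n1, ← e2, map_mul, map_pow]
  obtain ⟨b, hb, -⟩ := AModX.existsUnique_glue (M := CohB1.tensorPow M m) (fun i : ι => U i ⊓ O)
    (fun i => inf_le_right)
    (fun y hy => (hcov y).imp fun i hi => ⟨hi, hy⟩)
    (fun i => N.norm _ (γ i) • res _ inf_le_left (powElt (f i) m)) hcompat
  refine ⟨b, fun y => ?_⟩
  by_cases hy : y ∈ O
  swap
  · exact ⟨fun h => absurd (locus_le b h) hy, fun h => absurd h.1 hy⟩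
  obtain ⟨i, hi⟩ := hcov y
  have hyU : y ∈ U i ⊓ O := ⟨hi, hy⟩
  have h1 := locus_inf b (inf_le_right : U i ⊓ O ≤ O) ((isFrame_powElt (hf i) m).res inf_le_left) (hb i)
  have h2 := locus_inf a (π.preimage_mono (inf_le_right : U i ⊓ O ≤ O))
    ((isFrame_powElt i.2.2 m).res (π.preimage_mono inf_le_left)) (hγ i)
  rw [and_iff_right hy]
  constructor
  · intro h x hx
    have hxU : x ∈ π ⁻¹ᵁ (U i ⊓ O) := show π x ∈ U i ⊓ O from hx ▸ hyU
    exact (h2.ge ((mem_basicOpen_wnorm N (γ i) y hyU).1 (h1.le ⟨h, hyU⟩) x hx)).1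
  · intro h
    refine (h1.ge ((mem_basicOpen_wnorm N (γ i) y hyU).2 fun x hx => h2.le ⟨h x hx, ?_⟩)).1
    exact show π x ∈ U i ⊓ O from hx ▸ hyU

theorem exists_isAmple_of_norm (N : Nrm.NormOfDegree π d) (h : CohB1.IsAmple L) :
    ∃ M : Y.Modules, CohB1.IsAmple M := by
  haveI := h.2.1
  haveI := isSeparated_of_isAmple h
  have hsurj : Function.Surjective π.base := surjective_of_norm N
  obtain ⟨M, hM, hsec⟩ := exists_normLine (WNorm.ofNorm N) h.1
  refine ⟨M, isAmple_iff.2 ⟨hM, hsurj.compactSpace π.continuous, fun y => ?_⟩⟩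
  obtain ⟨_, ⟨W, hW, rfl⟩, hyW, -⟩ :=
    Y.isBasis_affineOpens.exists_subset_of_mem_open (Set.mem_univ y) isOpen_univ
  obtain ⟨n, s, hZ, hsW, -⟩ := exists_finite_nhd h (Z := π ⁻¹' {y}) (π.finite_preimage_singleton y)
    (U := π ⁻¹ᵁ W) fun x hx => show π x ∈ W from (show π x = y from hx) ▸ hyW
  obtain ⟨b, hb⟩ := hsec (n + 1) ⊤
    (show Γ(CohB1.tensorPow L (n + 1), π ⁻¹ᵁ (⊤ : Y.Opens)) from InvX.one s)
  rw [genLocus_eq_locus] at hZ hsW
  refine ⟨n + 1, n.succ_pos, InvX.ofSect b, ?_⟩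
  rw [genLocus_eq_locus, InvX.one_ofSect]
  have hle : locus b ≤ W := fun y' hy' => by
    obtain ⟨x, rfl⟩ := hsurj y'
    exact hsW (((hb _).1 hy').2 x rfl)
  refine ⟨(hb y).2 ⟨trivial, fun x hx => hZ hx⟩, ?_⟩
  rw [← inf_eq_right.2 hle]
  exact isAffineOpen_inf_locus (InvX.isInvertible_tensorPow hM _) hW b le_top

end Groth.Agent.NormX
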