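import Groth.Agent.NormX.FromFree
import Groth.Agent.AmpleX.Comp

/-!
# Norms on the restriction to a compact open; pullback and restriction
-/

noncomputable section

universe u

open CategoryTheory AlgebraicGeometry TopologicalSpace Opposite
open Groth.Agent Groth.Agent.GrpdLib Groth.Agent.AModX

set_option linter.style.haveILetI false
set_option backward.isDefEq.respectTransparency false
set_option backward.isDefEq.respectTransparency.types false

namespace Groth.Agent.NormX

theorem exists_frame_comp {A B B' : Type u} [CommRing A] [CommRing B] [CommRing B'] {α : A →+* B} {n : ℕ}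
    (F : Frame α n) (hF : F.mat 1 = 1) (e : B ≃+* B') :
    ∃ F' : Frame ((e : B →+* B').comp α) n, F'.mat 1 = 1 := by
  let F' : Frame ((e : B →+* B').comp α) n :=
    { u := fun i => e (F.u i)
      v := fun i => (F.v i).comp (e.symm : B' →+* B).toAddMonoidHom
      v_smul := fun i a x => by
        show F.v i (e.symm (e (α a) * x)) = a * F.v i (e.symm x)
        rw [map_mul, e.symm_apply_apply, F.v_smul]
      sum_v := fun x => by
        have h := congrArg e (F.sum_v (e.symm x))
        rw [map_sum, e.apply_symm_apply] at h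
        refine Eq.trans (Finset.sum_congr rfl fun i _ => ?_) h
        show e (α (F.v i (e.symm x))) * e (F.u i) = _
        rw [map_mul] }
  refine ⟨F', ?_⟩
  ext i j
  show F.v i (e.symm (1 * e (F.u j))) = _
  rw [one_mul, e.symm_apply_apply, ← hF, Frame.mat_apply, one_mul]

variable {X Y : Scheme.{u}} (π : X ⟶ Y)

theorem exists_hasNorm_restrict [IsAffineHom π] [Surjective π] (O : Y.Opens) (hO : IsCompact (O : Set Y))
    (hfree : FlatMod.IsFinLocFree ((Coh.push π).obj (Coh.structureModule X))) :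
    ∃ D, Nrm.HasNorm (π ∣_ O) D := by
  classical
  have h : ∀ y : (O : Scheme.{u}), ∃ (V : (O : Scheme.{u}).Opens) (n : ℕ), y ∈ V ∧ IsAffineOpen V ∧ 0 < n ∧
      ∃ F : Frame ((π ∣_ O).app V).hom n, F.mat 1 = 1 := fun y => by
    obtain ⟨U, n, hyU, ⟨e⟩⟩ := hfree (O.ι y)
    obtain ⟨_, ⟨V, hV, rfl⟩, hyV, hle⟩ :=
      Y.isBasis_affineOpens.exists_subset_of_mem_open (show O.ι y ∈ U ⊓ O from ⟨hyU, y.2⟩) (U ⊓ O).2
    let V' : (O : Scheme.{u}).Opens := O.ι ⁻¹ᵁ V
    have hVO : V ≤ O := hle.trans inf_le_right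
    have hV' : IsAffineOpen V' := by
      rw [← O.ι.isAffineOpen_iff_of_isOpenImmersion, Scheme.Hom.image_preimage_eq_opensRange_inf,
        Scheme.Opens.opensRange_ι, inf_eq_right.2 hVO]
      exact hV
    have himg : O.ι ''ᵁ V' ≤ U := by
      rintro _ ⟨z, hz, rfl⟩
      exact (hle hz).1
    obtain ⟨F, hF⟩ := exists_frame_of_restrict π (hV'.image_of_isOpenImmersion O.ι) himg e
    refine ⟨V', n, hyV, hV', Nat.pos_of_ne_zero (frame_ne_zero π F (y := O.ι y) ⟨y, hyV, rfl⟩), ?_⟩
    rw [morphismRestrict_app]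
    obtain ⟨F'', hF''⟩ := exists_frame_comp F hF
      (X.presheaf.mapIso (eqToIso (image_morphismRestrict_preimage π O V')).op).commRingCatIsoToRingEquiv
    exact ⟨F'', hF''⟩
  choose V n hyV hV hn F hF using h
  haveI : IsAffineHom (π ∣_ O) := IsZariskiLocalAtTarget.restrict ‹_› O
  haveI : CompactSpace (O : Scheme.{u}) := isCompact_iff_compactSpace.mp hO
  obtain ⟨S, hS⟩ := isCompact_univ.elim_finite_subcover (fun y : (O : Scheme.{u}) => (V y : Set (O : Scheme.{u})))
    (fun y => (V y).2) (fun y _ => Set.mem_iUnion.2 ⟨y, hyV y⟩)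
  refine ⟨∏ y ∈ S, n y, exists_norm (fun y => ?_) (Finset.prod_pos fun y _ => hn y)⟩
  obtain ⟨z, hz, hyz⟩ := Set.mem_iUnion₂.1 (hS (Set.mem_univ y))
  exact ⟨V z, hyz, hV z, n z, Finset.dvd_prod_of_mem _ hz, F z, hF z⟩

/-- Restriction commutes with pullback. -/
theorem nonempty_pullback_restrict_iso (O : Y.Opens) (M : Y.Modules) :
    Nonempty ((Scheme.Modules.pullback (π ∣_ O)).obj (M.restrict O.ι) ≅
      ((Scheme.Modules.pullback π).obj M).restrict (π ⁻¹ᵁ O).ι) :=
  ⟨(Scheme.Modules.pullback (π ∣_ O)).mapIso ((Scheme.Modules.restrictFunctorIsoPullback O.ι).app M) ≪≫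
    (Scheme.Modules.pullbackComp (π ∣_ O) O.ι).app M ≪≫
    (Scheme.Modules.pullbackCongr (morphismRestrict_ι π O)).app M ≪≫
    ((Scheme.Modules.pullbackComp (π ⁻¹ᵁ O).ι π).app M).symm ≪≫
    ((Scheme.Modules.restrictFunctorIsoPullback (π ⁻¹ᵁ O).ι).app _).symm⟩

theorem mor2_isQuasiAffine_of_isAffineHom [IsAffineHom π] : Mor2.IsQuasiAffine π :=
  ⟨inferInstance, fun V hV => by
    have : IsAffine (π ⁻¹ᵁ V : Scheme.{u}) := hV.preimage π
    infer_instance⟩

end Groth.Agent.NormX
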