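import Groth.Agent.NormX.Normal
import Groth.Agent.NormX.Line
import Groth.Agent.NormX.Restrict
import Groth.Agent.AmpleX.RelAffine
import Groth.Agent.QCoh.Devissage

/-!
# Ampleness descends along finite surjections onto normal schemes
-/

noncomputable section

universe u

open CategoryTheory CategoryTheory.Limits AlgebraicGeometry TopologicalSpace
open Groth.Agent

set_option linter.style.haveILetI false
set_option backward.isDefEq.respectTransparency false
set_option backward.isDefEq.respectTransparency.types false

namespace Groth.Agent.NormX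

theorem isAmple_pullback_affine {X Z : Scheme.{u}} (i : Z ⟶ X) [IsAffineHom i] {L : X.Modules}
    (h : CohB1.IsAmple L) : CohB1.IsAmple ((Scheme.Modules.pullback i).obj L) := by
  haveI := h.2.1
  let f := terminal.from X
  haveI : QuasiCompact f := quasiCompact_iff_compactSpace f |>.2 inferInstance
  exact (AmpleX.isRelAmple_iff_isAmple (i ≫ f) _).1 (AmpleX.isRelAmple_pullback_quasiAffine f i
    (mor2_isQuasiAffine_of_isAffineHom i) ((AmpleX.isRelAmple_iff_isAmple f L).2 h))

theorem exists_isAmple_of_normal {X Y : Scheme.{u}} (π : X ⟶ Y) [IsFinite π] [Surjective π]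
    [IsIntegral Y] (hY : Pi1.IsNormalScheme Y) {L : X.Modules} (hL : CohB1.IsAmple L) :
    ∃ M : Y.Modules, CohB1.IsAmple M := by
  obtain ⟨ξ, hξ⟩ := π.surjective (genericPoint Y)
  let J := Scheme.IdealSheafData.vanishingIdeal (Closeds.closure {ξ})
  haveI : IsIntegral J.subscheme := QCoh.isIntegral_closure_point ξ
  obtain ⟨z, hz⟩ : ξ ∈ Set.range J.subschemeι := by
    rw [H23.RedSub.range_vanishingIdeal]
    exact subset_closure rfl
  haveI : Surjective (J.subschemeι ≫ π) := ⟨fun y => by
    have hcl := (J.subschemeι ≫ π).isClosedMap.isClosed_range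
    have hη : genericPoint Y ∈ Set.range (J.subschemeι ≫ π) := ⟨z, by rw [Scheme.Hom.comp_apply, hz, hξ]⟩
    exact hcl.closure_subset_iff.2 (Set.singleton_subset_iff.2 hη)
      (((genericPoint_spec Y).specializes trivial).mem_closure)⟩
  obtain ⟨d, ⟨N⟩⟩ := exists_hasNorm_of_normal (J.subschemeι ≫ π) hY
  exact exists_isAmple_of_norm N (isAmple_pullback_affine J.subschemeι hL)

end Groth.Agent.NormX
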