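import Groth.Agent.ChevAffine.Main

/-!
# The ideal times a push forward
-/

universe u

open CategoryTheory CategoryTheory.Limits AlgebraicGeometry TopologicalSpace Opposite
open Groth.Agent Groth.Agent.QCoh

set_option autoImplicit false
set_option backward.isDefEq.respectTransparency.types false

namespace Groth.Agent.NormX

variable {X : Scheme.{u}}

/-- For an ideal sheaf `J` not passing through `ξ`, the submodule `J G` of a push forward `G` of a coherent
module is again the push forward of a coherent module. -/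
theorem exists_idealMul_push' {Y : Scheme.{u}} [IsLocallyNoetherian Y] (f : Y ⟶ X) [IsAffineHom f] (ξ : X)
    {M : Y.Modules} (hMc : Coh.IsCoh M) (J : X.IdealSheafData) (hJ : ξ ∉ (J.support : Set X)) :
    ∃ (K : Y.Modules) (G' : X.Modules) (l : G' ⟶ (Coh.push f).obj M), Mono l ∧ Coh.IsCoh K ∧
      ∃ _ : G' ≅ (Coh.push f).obj K,
      l ≫ (Scheme.Modules.pullbackPushforwardAdjunction J.subschemeι).unit.app ((Coh.push f).obj M) = 0 ∧
      Function.Surjective ((TopCat.Presheaf.stalkFunctor _ ξ).map l.mapPresheaf) := by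
  have hM := hMc.1
  let J' := J.comap f
  let v := (Scheme.Modules.pullbackPushforwardAdjunction J'.subschemeι).unit.app M
  have hpb : Coh.IsQCoh ((Scheme.Modules.pullback J'.subschemeι).obj M) := isQCoh_pullback _ hM
  have hK : Coh.IsQCoh (kernel v) := isQCoh_kernel hM (isQCoh_pushforward J'.subschemeι hpb) v
  let l := (Coh.push f).map (kernel.ι v)
  have hG : Coh.IsQCoh ((Coh.push f).obj M) := isQCoh_pushforward f hM
  have hideal : ∀ U : X.affineOpens, J'.ideal ⟨f ⁻¹ᵁ U.1, U.2.preimage f⟩ = (J.ideal U).map (f.app U.1).hom :=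
    fun U => by
      rw [ModPairLib.ideal_comap J f U ⟨f ⁻¹ᵁ U.1, U.2.preimage f⟩ le_rfl, ← Scheme.Hom.app_eq_appLE]
  refine ⟨kernel v, (Coh.push f).obj (kernel v), l, Functor.map_mono _ _,
    isCoh_of_mono (kernel.ι v) hMc hK, Iso.refl _, ?_, ?_⟩
  · refine hom_eq_zero_of_affine _ fun U hU x => ?_
    refine ((unit_app_closed J.subschemeι hG hU).2 (l.app U x)).2 ?_
    rw [Scheme.IdealSheafData.ker_subschemeι]
    have h0 : v.app (f ⁻¹ᵁ U) ((kernel.ι v).app (f ⁻¹ᵁ U) x) = 0 :=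
      congr(($(kernel.condition v)).app (f ⁻¹ᵁ U) x)
    have h1 := ((unit_app_closed J'.subschemeι hM (hU.preimage f)).2 _).1 h0
    rw [Scheme.IdealSheafData.ker_subschemeι, hideal ⟨U, hU⟩] at h1
    refine Submodule.smul_induction_on (p := fun (z : Γ(M, f ⁻¹ᵁ U)) =>
      (show Γ((Coh.push f).obj M, U) from z) ∈ J.ideal ⟨U, hU⟩ • (⊤ : Submodule Γ(X, U) Γ((Coh.push f).obj M, U)))
      h1 (fun b hb m _ => ?_) fun z z' hz hz' => add_mem hz hz'
    refine Submodule.span_induction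
      (p := fun b _ => ∀ m : Γ(M, f ⁻¹ᵁ U), (show Γ((Coh.push f).obj M, U) from (show Γ(M, f ⁻¹ᵁ U) from b • m)) ∈
        J.ideal ⟨U, hU⟩ • (⊤ : Submodule Γ(X, U) Γ((Coh.push f).obj M, U))) ?_ ?_ ?_ ?_ hb m
    · rintro _ ⟨a, ha, rfl⟩ m
      exact Submodule.smul_mem_smul ha (Submodule.mem_top (x := (show Γ((Coh.push f).obj M, U) from m)))
    · intro m; rw [zero_smul]; exact zero_mem _
    · intro b b' _ _ hb hb' m; rw [add_smul]; exact add_mem (hb m) (hb' m)
    · intro c b _ hb m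
      rw [smul_eq_mul, mul_comm, mul_smul]
      exact hb (c • m)
  · intro z
    obtain ⟨U₀, hξ₀, y, rfl⟩ := TopCat.Presheaf.exists_germ_eq ((Coh.push f).obj M).presheaf z
    obtain ⟨_, ⟨U, hU, rfl⟩, hξU, hUsub⟩ := X.isBasis_affineOpens.exists_subset_of_mem_open
      (show ξ ∈ ((U₀ : Set X) ∩ (J.support : Set X)ᶜ) from ⟨hξ₀, hJ⟩)
      (U₀.2.inter J.support.2.isOpen_compl)
    have hle : U ≤ U₀ := fun x hx => (hUsub hx).1
    have hzero : X.zeroLocus (U := U) (J.ideal ⟨U, hU⟩) ∩ U = ∅ := by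
      rw [← Scheme.IdealSheafData.coe_support_inter J ⟨U, hU⟩]
      exact Set.eq_empty_of_forall_notMem fun x hx => (hUsub hx.2).2 hx.1
    have htop : J.ideal ⟨U, hU⟩ = ⊤ := by
      rw [← Ideal.span_eq (J.ideal ⟨U, hU⟩), ← hU.iSup_basicOpen_eq_self_iff]
      refine le_antisymm (iSup_le fun g => X.basicOpen_le _) fun x hx => ?_
      by_contra hne
      refine (Set.eq_empty_iff_forall_notMem.1 hzero x) ⟨(Scheme.mem_zeroLocus_iff _ _ _).2 fun g hg hxg => hne ?_, hx⟩
      exact Opens.mem_iSup.2 ⟨⟨g, hg⟩, hxg⟩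
    let y' : Γ(M, f ⁻¹ᵁ U) := ((Coh.push f).obj M).presheaf.map (homOfLE hle).op y
    have hy' : v.app (f ⁻¹ᵁ U) y' = 0 := by
      refine ((unit_app_closed J'.subschemeι hM (hU.preimage f)).2 _).2 ?_
      rw [Scheme.IdealSheafData.ker_subschemeι, hideal ⟨U, hU⟩, htop, Ideal.map_top, Submodule.top_smul]
      trivial
    obtain ⟨x, hx⟩ := exists_app_f_eq
      (S := ShortComplex.mk (kernel.ι v) (Abelian.coimage.π v) (cokernel.condition _))
      (.mk' (ShortComplex.exact_of_g_is_cokernel _ (cokernelIsCokernel _)) inferInstance inferInstance)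
      (f ⁻¹ᵁ U) y' (app_injective (Abelian.factorThruCoimage v) (f ⁻¹ᵁ U) (by
        rw [map_zero]
        exact (congr(($(Abelian.coimage.fac v)).app (f ⁻¹ᵁ U) y') : _).trans hy'))
    refine ⟨((Coh.push f).obj (kernel v)).presheaf.germ U ξ hξU x, ?_⟩
    rw [TopCat.Presheaf.stalkFunctor_map_germ_apply]
    refine Eq.trans ?_ (((Coh.push f).obj M).presheaf.germ_res_apply (homOfLE hle) ξ hξU y)
    exact congrArg _ hx

end Groth.Agent.NormX
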