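import Groth.Agent.NormX.NormalAmple
import Groth.Agent.AmpleVan.Uniform
import Groth.Agent.AmpleVan.Criterion
import Groth.Agent.NormX.IdealMulPush
import Groth.Agent.KFlatLib.Scheme.ProjLocFree

/-!
# Descent of ampleness along finite surjections of proper schemes
-/

noncomputable section

universe u

open CategoryTheory CategoryTheory.Limits AlgebraicGeometry TopologicalSpace Opposite
open Groth.Agent Groth.Agent.H23.PicMul Groth.Agent.QCoh

set_option linter.style.haveILetI false
set_option linter.unusedSectionVars false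
set_option backward.isDefEq.respectTransparency false
set_option backward.isDefEq.respectTransparency.types false

namespace Groth.Agent.NormX

variable {X : Scheme.{u}} (L : X.Modules)

/-- Vanishing of the first cohomology of high twists. -/
def TwVan (N : X.Modules) : Prop :=
  ∃ n₀, ∀ n, n₀ ≤ n → Subsingleton (Coh.HH X (CohB1.tensorMod N (CohB1.tensorPow L n)) 1)

variable {L}

theorem twVan_iso {M N : X.Modules} (e : M ≅ N) (h : TwVan L M) : TwVan L N := by
  obtain ⟨n₀, h⟩ := h
  exact ⟨n₀, fun n hn => QCoh.subsingleton_HH_of_iso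
    ((AmpleVan.tw (CohB1.tensorPow L n)).mapIso e) 1 (h n hn)⟩

theorem twVan_decomposition {ι : Type u} [Fintype ι] {N : X.Modules} (E : ι → X.Modules)
    (p : ∀ s, N ⟶ E s) (j : ∀ s, E s ⟶ N) (htot : ∑ s, p s ≫ j s = 𝟙 N) (hL : PicF.IsInvertible L)
    (h : ∀ s, TwVan L (E s)) : TwVan L N := by
  classical
  choose n₀ hn using h
  refine ⟨Finset.univ.sup n₀, fun n hn' => ?_⟩
  let T := AmpleVan.tw (CohB1.tensorPow L n)
  haveI : T.IsEquivalence := AmpleVan.isEquivalence_tw (InvX.isInvertible_tensorPow hL n)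
  haveI : T.Additive := Functor.additive_of_preserves_binary_products T
  refine PnCoh.Finite.subsingleton_HH_of_decomposition (fun s => T.obj (E s))
    (fun s => T.map (p s)) (fun s => T.map (j s)) ?_ 1 fun s =>
      hn s n ((Finset.le_sup (f := n₀) (Finset.mem_univ s)).trans hn')
  simp only [← Functor.map_comp, ← Functor.map_sum]
  rw [htot, CategoryTheory.Functor.map_id]

theorem twVan_X₂ (hL : PicF.IsInvertible L) {S : ShortComplex X.Modules} (hS : S.ShortExact)
    (h₁ : TwVan L S.X₁) (h₃ : TwVan L S.X₃) : TwVan L S.X₂ := by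
  obtain ⟨a, ha⟩ := h₁
  obtain ⟨b, hb⟩ := h₃
  refine ⟨max a b, fun n hn => ?_⟩
  let T := AmpleVan.tw (CohB1.tensorPow L n)
  haveI : T.IsEquivalence := AmpleVan.isEquivalence_tw (InvX.isInvertible_tensorPow hL n)
  haveI : T.Additive := Functor.additive_of_preserves_binary_products T
  exact subsingleton_HH_X₂ (hS.map_of_exact T) 1 (ha n (le_of_max_le_left hn)) (hb n (le_of_max_le_right hn))

theorem twVan_push {A : Type u} [CommRing A] [IsNoetherianRing A] (gX : X ⟶ Spec (CommRingCat.of A))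
    [IsProper gX] {W : Scheme.{u}} (φ : W ⟶ X) [IsFinite φ] (hL : PicF.IsInvertible L)
    (hA : CohB1.IsAmple ((Scheme.Modules.pullback φ).obj L)) {M : W.Modules} (hM : Coh.IsCoh M) :
    TwVan L ((Coh.push φ).obj M) := by
  letI : W.Over (Spec (CommRingCat.of A)) := ⟨φ ≫ gX⟩
  haveI : IsProper (W ↘ Spec (CommRingCat.of A)) := inferInstanceAs (IsProper (φ ≫ gX))
  obtain ⟨d₀, hd⟩ := AmpleVan.exists_vanishing (A := A) hA hM
  refine ⟨d₀, fun n hn => ?_⟩
  have hn' := hd n hn 0
  let Q := CohB1.tensorPow ((Scheme.Modules.pullback φ).obj L) n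
  have hq : Coh.IsQCoh (CohB1.tensorMod M Q) :=
    KFlatLib.isQCoh_tensor hM.1 (ProjUPX.isQCoh_of_isInvertible (InvX.isInvertible_tensorPow hA.1 n))
  obtain ⟨e⟩ := QCoh.HH_push_of_isAffineHom φ hq 1
  haveI : Subsingleton (Coh.HH X ((Coh.push φ).obj (CohB1.tensorMod M Q)) 1) := e.symm.toEquiv.subsingleton
  obtain ⟨P⟩ := KFlatLib.nonempty_rpush_tensor_finLocFree φ M (CohB1.tensorPow L n)
    (H23.PullPush.isFinLocFree_of_isInvertible (InvX.isInvertible_tensorPow hL n)) 0
  obtain ⟨c₁⟩ : Nonempty (CohB1.tensorMod (CohB1.tensorPow L n) ((Coh.Rpush φ 0).obj M) ≅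
      CohB1.tensorMod ((Coh.push φ).obj M) (CohB1.tensorPow L n)) := cl_eq_iff.1 (by
    rw [cl_tensor, cl_tensor, mul_comm]
    exact congrArg (· * _) (cl_eq_iff.2 ⟨(Coh.push φ).rightDerivedZeroIsoSelf.app M⟩))
  obtain ⟨c₂⟩ : Nonempty (CohB1.tensorMod ((Scheme.Modules.pullback φ).obj (CohB1.tensorPow L n)) M ≅
      CohB1.tensorMod M Q) := cl_eq_iff.1 (by
    rw [cl_tensor, cl_tensor, mul_comm, cl_tensorPow,
      show PicF.cl ((Scheme.Modules.pullback φ).obj (CohB1.tensorPow L n)) =
        PicF.pullCl φ (PicF.cl (CohB1.tensorPow L n)) from rfl, cl_tensorPow, pullCl_pow]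
    rfl)
  refine QCoh.subsingleton_HH_of_iso (M := (Coh.push φ).obj (CohB1.tensorMod M Q)) ?_ 1 ‹_›
  exact (Coh.push φ).mapIso c₂.symm ≪≫
    ((Coh.push φ).rightDerivedZeroIsoSelf.app _).symm ≪≫ P.symm ≪≫ c₁

variable [IsNoetherian X]

theorem twVan_of_finite_surjective {A : Type u} [CommRing A] [IsNoetherianRing A] (gX : X ⟶ Spec (CommRingCat.of A))
    [IsProper gX] {Y : Scheme.{u}} (f : Y ⟶ X) [IsFinite f] [Surjective f] (hL : PicF.IsInvertible L)
    (hA : CohB1.IsAmple ((Scheme.Modules.pullback f).obj L)) {M : X.Modules} (hM : Coh.IsCoh M) :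
    TwVan L M := by
  haveI := hasFiniteBiproducts X
  refine devissage_ideals (TwVan L) (fun A B ⟨e⟩ h => twVan_iso e h)
    (fun N h => twVan_decomposition (ι := PEmpty.{u+1}) (fun j => j.elim) (fun j => j.elim) (fun j => j.elim)
      (by simpa using (IsZero.iff_id_eq_zero N).1 h |>.symm) hL fun j => j.elim)
    Set.univ (fun S hS _ _ _ h₁ h₃ => twVan_X₂ hL hS h₁ h₃) ?_ hM (Set.subset_univ _)
  intro y _ hsmall Z i _ _ hr I ι hι hI hI0
  haveI := hι
  haveI : IsNoetherian Z :=
    { __ := LocallyOfFiniteType.isLocallyNoetherian i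
      __ := QuasiCompact.compactSpace_of_compactSpace i }
  let q : pullback f i ⟶ Z := pullback.snd f i
  haveI : IsFinite q := MorphismProperty.pullback_snd (P := (@IsFinite : MorphismProperty Scheme.{u})) _ _ ‹_›
  haveI : Surjective q := MorphismProperty.pullback_snd (P := (@Surjective : MorphismProperty Scheme.{u})) _ _ ‹_›
  haveI : IsLocallyNoetherian (pullback f i) := LocallyOfFiniteType.isLocallyNoetherian (q ≫ i)
  haveI : IsAffineHom (pullback.fst f i) := inferInstance
  have hAW : CohB1.IsAmple ((Scheme.Modules.pullback (q ≫ i)).obj L) := by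
    rw [show q ≫ i = pullback.fst f i ≫ f from pullback.condition.symm]
    exact AmpleX.isAmple_of_iso ((Scheme.Modules.pullbackComp (pullback.fst f i) f).app L)
      (isAmple_pullback_affine (pullback.fst f i) hA)
  have hGc : Coh.IsCoh ((Coh.push (q ≫ i)).obj (Coh.structureModule (pullback f i))) :=
    isCoh_pushforward_finite (q ≫ i) isCoh_structureModule'
  have hIc : Coh.IsCoh I := isCoh_of_mono ι isCoh_structureModule' hI
  obtain ⟨r, hr0, J, u, hJ, hu, hmain⟩ := exists_ideal_mul hGc i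
    (ChevAffine.mem_support_push_structure i q) (fun a ha m => ChevAffine.smul_eq_zero_of_mem_maximalIdeal i q a ha m)
    ι hIc hI0
  obtain ⟨K, G', l, hl, hK, eG, hlu, hls⟩ :=
    exists_idealMul_push' (q ≫ i) (i (genericPoint Z)) (isCoh_structureModule' (X := pullback f i)) J hJ
  haveI := hl
  have hG' : Coh.IsQCoh G' := (QCoh.isQCoh_iff_iso eG).2 (QCoh.isQCoh_pushforward _ hK.1)
  obtain ⟨t, ht, hc⟩ := hmain G' l hl hG' (by rw [hu]; exact hlu) hls
  haveI := ht
  have hS := isCoh_biproduct (fun _ : ULift.{u} (Fin r) => (Coh.push i).obj I) fun _ => isCoh_push i hIc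
  have hC := isCoh_cokernel hG' hS t
  have hsum : TwVan L (⨁ fun _ : ULift.{u} (Fin r) => (Coh.push i).obj I) := by
    refine twVan_X₂ hL (S := ShortComplex.mk t (cokernel.π t) (cokernel.condition t))
      (.mk' (ShortComplex.exact_of_g_is_cokernel _ (cokernelIsCokernel t)) ht inferInstance)
      (twVan_iso eG.symm (twVan_push gX (q ≫ i) hL hAW hK))
      (hsmall _ hC ?_ ?_)
    · refine (support_of_epi hS.1 hC.1 (cokernel.π t)).trans fun x hx => ?_
      by_contra hx'
      obtain ⟨W, hW, hxW⟩ := exists_affine_mem x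
      refine ((notMem_support_iff hS.1 hW hxW).2 fun m => ?_) hx
      have hAx := (notMem_support_iff (isCoh_push i hIc).1 hW hxW).1
        (fun h => hx' (hr.le (support_push_subset i hI h)))
      choose g hg hg0 using fun k => hAx
        ((biproduct.π (fun _ : ULift.{u} (Fin r) => (Coh.push i).obj I) k).app W m)
      refine ⟨∏ k, g k, ?_, ?_⟩
      · rw [X.mem_basicOpen _ x hxW, map_prod]
        exact IsUnit.prod_univ_iff.2 fun k => (X.mem_basicOpen (g k) x hxW).1 (hg k)
      · rw [biproduct_app_decomp _ W m, Finset.smul_sum]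
        refine Finset.sum_eq_zero fun k _ => ?_
        classical
        rw [← Scheme.Modules.Hom.app_smul, ← Finset.mul_prod_erase _ g (Finset.mem_univ k), mul_comm,
          mul_smul, hg0 k, smul_zero, map_zero]
    · have hy : i (genericPoint Z) = y :=
        (inseparable_iff_closure_eq.2 ((range_eq_closure i).symm.trans hr)).eq
      exact hy ▸ hc
  exact twVan_decomposition (ι := PUnit.{u+1})
    (fun _ => ⨁ fun _ : ULift.{u} (Fin r) => (Coh.push i).obj I)
    (fun _ => biproduct.ι (fun _ : ULift.{u} (Fin r) => (Coh.push i).obj I) ⟨⟨0, hr0⟩⟩)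
    (fun _ => biproduct.π (fun _ : ULift.{u} (Fin r) => (Coh.push i).obj I) ⟨⟨0, hr0⟩⟩)
    (by simp) hL fun _ => hsum

omit [AlgebraicGeometry.IsNoetherian X] in
theorem isAmple_of_finite_surjective {A : Type u} [CommRing A] [IsNoetherianRing A]
    (gX : X ⟶ Spec (CommRingCat.of A)) [IsProper gX] {Y : Scheme.{u}} (f : Y ⟶ X) [IsFinite f] [Surjective f]
    (hL : PicF.IsInvertible L) (hA : CohB1.IsAmple ((Scheme.Modules.pullback f).obj L)) : CohB1.IsAmple L := by
  haveI : CompactSpace X := QuasiCompact.compactSpace_of_compactSpace gX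
  haveI : IsLocallyNoetherian X := LocallyOfFiniteType.isLocallyNoetherian gX
  haveI : IsNoetherian X := { __ := ‹IsLocallyNoetherian X›, __ := ‹CompactSpace X› }
  refine AmpleVan.isAmple_of_HH_one hL fun Z _ => ?_
  obtain ⟨n₀, hn⟩ := twVan_of_finite_surjective gX f hL hA
    (isCoh_of_mono (QCoh.vanIdeal Z).ι isCoh_structureModule' (isQCoh_vanIdeal Z))
  exact ⟨n₀, hn (n₀ + 1) (Nat.le_succ _)⟩

end Groth.Agent.NormX
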