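import Groth.Agent.NormX.FibreVanishing
import Groth.Agent.QCoh.RpushStalk
import Groth.Agent.QCoh.RpushAbGod

/-!
# The fibre inside the localised base
-/

noncomputable section

universe u

open CategoryTheory CategoryTheory.Limits AlgebraicGeometry TopologicalSpace Opposite
open Groth.Agent Groth.Agent.H23.PicMul

set_option linter.style.haveILetI false
set_option maxHeartbeats 800000
set_option backward.isDefEq.respectTransparency false
set_option backward.isDefEq.respectTransparency.types false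

namespace Groth.Agent.NormX

variable {X Y : Scheme.{u}} (f : X ⟶ Y) (y : Y)

/-- The scheme over the local ring at a point. -/
abbrev locX : Scheme.{u} := pullback f (Y.fromSpecStalk y)

instance locOver : (locX f y).Over (Spec (CommRingCat.of (Y.presheaf.stalk y))) := ⟨pullback.snd f (Y.fromSpecStalk y)⟩

/-- The inclusion of the scheme over the local ring. -/
abbrev locι : locX f y ⟶ X := pullback.fst f (Y.fromSpecStalk y)

theorem exists_iso_fiber : ∃ e : CohB1.thick (locX f y ↘ Spec (CommRingCat.of (Y.presheaf.stalk y)))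
      (IsLocalRing.maximalIdeal (Y.presheaf.stalk y)) 0 ≅ f.fiber y,
    e.hom ≫ f.fiberι y = CohB1.thickι (locX f y ↘ Spec (CommRingCat.of (Y.presheaf.stalk y)))
      (IsLocalRing.maximalIdeal (Y.presheaf.stalk y)) 0 ≫ locι f y := by
  let A := Y.presheaf.stalk y
  let J := IsLocalRing.maximalIdeal A
  let τ : CommRingCat.of (A ⧸ J) ≅ CommRingCat.of (A ⧸ J ^ (0 + 1)) :=
    (Ideal.quotEquivOfEq (by rw [zero_add, pow_one] : J = J ^ (0 + 1))).toCommRingCatIso
  have h0 : IsPullback (CohB1.thickι (locX f y ↘ Spec (CommRingCat.of A)) J 0 ≫ locι f y)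
      (pullback.snd (locX f y ↘ Spec (CommRingCat.of A)) (CohB1.specQuot J 0)) f (CohB1.specQuot J 0 ≫ Y.fromSpecStalk y) :=
    (IsPullback.of_hasPullback _ _).paste_horiz (IsPullback.of_hasPullback f (Y.fromSpecStalk y))
  have h1 : IsPullback (CohB1.thickι (locX f y ↘ Spec (CommRingCat.of A)) J 0 ≫ locι f y)
      (pullback.snd (locX f y ↘ Spec (CommRingCat.of A)) (CohB1.specQuot J 0) ≫ Spec.map τ.hom) f
      (Y.fromSpecResidueField y) := by
    refine h0.of_iso (Iso.refl _) (Iso.refl _) (asIso (Spec.map τ.hom)) (Iso.refl _) (by simp) (by simp) (by simp) ?_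
    simp only [Iso.refl_hom, Category.comp_id, asIso_hom]
    show CohB1.specQuot J 0 ≫ Y.fromSpecStalk y = Spec.map τ.hom ≫ Spec.map (Y.residue y) ≫ Y.fromSpecStalk y
    rw [← Category.assoc, ← Spec.map_comp]
    rfl
  exact ⟨h1.isoIsPullback _ _ (IsPullback.of_hasPullback f (Y.fromSpecResidueField y)),
    IsPullback.isoIsPullback_hom_fst _ _ h1 _⟩

theorem isAmple_closedFibre {L : X.Modules}
    (hy : CohB1.IsAmple ((Scheme.Modules.pullback (f.fiberι y)).obj L)) :
    CohB1.IsAmple ((Scheme.Modules.pullback (CohB1.thickι (locX f y ↘ Spec (CommRingCat.of (Y.presheaf.stalk y)))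
      (IsLocalRing.maximalIdeal (Y.presheaf.stalk y)) 0)).obj ((Scheme.Modules.pullback (locι f y)).obj L)) := by
  obtain ⟨e, he⟩ := exists_iso_fiber f y
  exact AmpleX.isAmple_of_iso ((Scheme.Modules.pullbackComp e.hom (f.fiberι y)).app L ≪≫
    (Scheme.Modules.pullbackCongr he).app L ≪≫ ((Scheme.Modules.pullbackComp _ _).app L).symm)
    (isAmple_pullback_affine e.hom hy)

instance isProper_loc [IsProper f] : IsProper (locX f y ↘ Spec (CommRingCat.of (Y.presheaf.stalk y))) :=
  inferInstanceAs (IsProper (pullback.snd f (Y.fromSpecStalk y)))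

theorem exists_vanishing_loc [IsProper f] [IsLocallyNoetherian Y] {L M : X.Modules} (hL : PicF.IsInvertible L)
    (hM : Coh.IsCoh M) (hy : CohB1.IsAmple ((Scheme.Modules.pullback (f.fiberι y)).obj L)) :
    ∃ n₀, ∀ n, n₀ ≤ n → ∀ q : ℕ, Subsingleton (Coh.HH (locX f y)
      ((Scheme.Modules.pullback (locι f y)).obj (CohB1.tensorMod M (CohB1.tensorPow L n))) (q + 1)) := by
  obtain ⟨n₀, h⟩ := exists_vanishing_of_closedFibre (A := Y.presheaf.stalk y) (X := locX f y)
    (M := (Scheme.Modules.pullback (locι f y)).obj M)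
    (PicLoc.isInvertible_pullback _ hL) (ZClosLib.isCoh_pullback _ hM) (isAmple_closedFibre f y hy)
  refine ⟨n₀, fun n hn q => ?_⟩
  obtain ⟨e⟩ : Nonempty ((Scheme.Modules.pullback (locι f y)).obj (CohB1.tensorMod M (CohB1.tensorPow L n)) ≅
      CohB1.tensorMod ((Scheme.Modules.pullback (locι f y)).obj M)
        (CohB1.tensorPow ((Scheme.Modules.pullback (locι f y)).obj L) n)) := cl_eq_iff.1 (by
    rw [← PicLoc.pullCl_cl, cl_tensor, cl_tensor, cl_tensorPow, cl_tensorPow, pullCl_mul, pullCl_pow]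
    rfl)
  exact QCoh.subsingleton_HH_of_iso e.symm (q + 1) (h n hn q)

end Groth.Agent.NormX
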