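import Groth.Agent.NormX.AmpleSpread
import Groth.Agent.NormX.StalkFibre
import Groth.Agent.AmpleVan.Pull

/-!
# Ampleness on a fibre spreads to a neighbourhood
-/

noncomputable section

universe u

open CategoryTheory CategoryTheory.Limits AlgebraicGeometry TopologicalSpace Opposite
open Groth.Agent Groth.Agent.H23.PicMul

set_option linter.style.haveILetI false
set_option maxHeartbeats 1000000
set_option backward.isDefEq.respectTransparency false
set_option backward.isDefEq.respectTransparency.types false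

namespace Groth.Agent.NormX

/-- Over a noetherian local ring, a module ample on the closed fibre is ample. -/
theorem isAmple_of_closedFibre {A : Type u} [CommRing A] [IsNoetherianRing A] [IsLocalRing A] {X : Scheme.{u}}
    [X.Over (Spec (CommRingCat.of A))] [IsProper (X ↘ Spec (CommRingCat.of A))] {L : X.Modules}
    (hL : PicF.IsInvertible L) (ha : CohB1.IsAmple ((Scheme.Modules.pullback
      (CohB1.thickι (X ↘ Spec (CommRingCat.of A)) (IsLocalRing.maximalIdeal A) 0)).obj L)) :
    CohB1.IsAmple L := by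
  haveI : CompactSpace X := QuasiCompact.compactSpace_of_compactSpace (X ↘ Spec (CommRingCat.of A))
  haveI : IsLocallyNoetherian X := LocallyOfFiniteType.isLocallyNoetherian (X ↘ Spec (CommRingCat.of A))
  refine AmpleVan.isAmple_of_HH_one hL fun Z _ => ?_
  obtain ⟨n₀, h⟩ := exists_vanishing_of_closedFibre (M := (QCoh.vanIdeal Z).toModules) hL
    (QCoh.isCoh_of_mono (QCoh.vanIdeal Z).ι QCoh.isCoh_structureModule' (QCoh.isQCoh_vanIdeal Z)) ha
  exact ⟨n₀, h (n₀ + 1) (Nat.le_succ _) 0⟩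

/-- Ampleness on a fibre of a proper morphism spreads to a neighbourhood. -/
theorem exists_isAmple_nhd {X Y : Scheme.{u}} (f : X ⟶ Y) [IsProper f] [IsLocallyNoetherian Y] {L : X.Modules}
    (hL : PicF.IsInvertible L) (y : Y) (hy : CohB1.IsAmple ((Scheme.Modules.pullback (f.fiberι y)).obj L)) :
    ∃ V : Y.Opens, y ∈ V ∧ ∀ W : Y.Opens, W ≤ V → IsAffineOpen W →
      CohB1.IsAmple (L.restrict (f ⁻¹ᵁ W).ι) := by
  obtain ⟨_, ⟨V, hV₀, rfl⟩, hyV, -⟩ :=
    Y.isBasis_affineOpens.exists_subset_of_mem_open (Set.mem_univ y) isOpen_univ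
  have hV : IsAffineOpen V := hV₀
  let B := Γ(Y, V)
  haveI : IsNoetherianRing B := IsLocallyNoetherian.component_noetherian ⟨V, hV⟩
  let U := f ⁻¹ᵁ V
  letI : (U : Scheme.{u}).Over (Spec (CommRingCat.of B)) := ⟨QCoh.overSpec f hV⟩
  haveI : IsProper ((U : Scheme.{u}) ↘ Spec (CommRingCat.of B)) := by
    show IsProper ((f ∣_ V) ≫ hV.isoSpec.hom)
    infer_instance
  let A := Y.presheaf.stalk y
  letI : Algebra B A := QCoh.stalkAlg hyV
  let p := hV.primeIdealOf ⟨y, hyV⟩
  haveI : IsLocalization p.asIdeal.primeCompl A := QCoh.isLocalization_stalk' hV hyV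
  let loc := Spec.map (CommRingCat.ofHom (algebraMap B A))
  have hloc : loc ≫ hV.fromSpec = Y.fromSpecStalk y := hV.fromSpecStalk_eq_fromSpecStalk hyV
  have hpb := AmpleVan.isPullback_overSpec' f hV
  have hbig : IsPullback (locι f y) (locX f y ↘ Spec (CommRingCat.of A)) f (loc ≫ hV.fromSpec) := by
    rw [hloc]; exact IsPullback.of_hasPullback _ _
  let g : locX f y ⟶ (U : Scheme.{u}) :=
    hpb.lift (locι f y) ((locX f y ↘ Spec (CommRingCat.of A)) ≫ loc) (by rw [Category.assoc]; exact hbig.w)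
  have hg : g ≫ U.ι = locι f y := hpb.lift_fst _ _ _
  have sq : IsPullback g (locX f y ↘ Spec (CommRingCat.of A)) ((U : Scheme.{u}) ↘ Spec (CommRingCat.of B)) loc :=
    IsPullback.of_right (by rw [hg]; exact hbig) (hpb.lift_snd _ _ _) hpb
  have hA : CohB1.IsAmple ((Scheme.Modules.pullback g).obj (L.restrict U.ι)) :=
    AmpleX.isAmple_of_iso (((Scheme.Modules.pullback g).mapIso ((Scheme.Modules.restrictFunctorIsoPullback U.ι).app L) ≪≫
      (Scheme.Modules.pullbackComp g U.ι).app L ≪≫ (Scheme.Modules.pullbackCongr hg).app L).symm)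
      (isAmple_of_closedFibre (PicLoc.isInvertible_pullback _ hL) (isAmple_closedFibre f y hy))
  obtain ⟨b, hb, hamp⟩ := exists_isAmple_basicOpen p sq (AmpleX.isInvertible_restrict U.ι hL) hA
  refine ⟨Y.basicOpen b, ?_, fun W hW hWa => ?_⟩
  · rw [← hV.fromSpec_image_basicOpen]
    exact ⟨p, hb, hV.fromSpec_primeIdealOf ⟨y, hyV⟩⟩
  · let D := ((U : Scheme.{u}) ↘ Spec (CommRingCat.of B)) ⁻¹ᵁ PrimeSpectrum.basicOpen b
    have hD : (D.ι ≫ U.ι).opensRange = (f ⁻¹ᵁ Y.basicOpen b).ι.opensRange := by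
      rw [Scheme.Hom.opensRange_comp, Scheme.Opens.opensRange_ι, Scheme.Opens.opensRange_ι,
        ← hV.fromSpec_image_basicOpen]
      refine Opens.ext (Set.ext fun z => ⟨?_, ?_⟩)
      · rintro ⟨u, hu, rfl⟩
        exact ⟨_, hu, (congr($(hpb.w) u)).symm⟩
      · rintro ⟨q, hq, hqz⟩
        have hzU : z ∈ U := by
          show f z ∈ V
          have hr : hV.fromSpec q ∈ Set.range hV.fromSpec := ⟨q, rfl⟩
          rw [hV.range_fromSpec] at hr
          exact hqz ▸ hr
        refine ⟨⟨z, hzU⟩, ?_, rfl⟩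
        show ((U : Scheme.{u}) ↘ Spec (CommRingCat.of B)) ⟨z, hzU⟩ ∈ PrimeSpectrum.basicOpen b
        rw [show ((U : Scheme.{u}) ↘ Spec (CommRingCat.of B)) ⟨z, hzU⟩ = q from
          hV.fromSpec.isOpenEmbedding.injective ((congr($(hpb.w) (⟨z, hzU⟩ : U))).symm.trans hqz.symm)]
        exact hq
    have hrc : CohB1.IsAmple (L.restrict (D.ι ≫ U.ι)) :=
      AmpleX.isAmple_of_iso ((Scheme.Modules.restrictFunctorComp D.ι U.ι).app L).symm hamp
    have hV' := AmpleX.isAmple_restrict_congr _ (f ⁻¹ᵁ Y.basicOpen b).ι hL hD hrc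
    haveI : CompactSpace ((f ⁻¹ᵁ W : X.Opens) : Scheme.{u}) :=
      isCompact_iff_compactSpace.mp (f.isCompact_preimage hWa.isCompact)
    let j := X.homOfLE (f.preimage_mono hW)
    exact AmpleX.isAmple_of_iso
      ((Scheme.Modules.pullback j).mapIso ((Scheme.Modules.restrictFunctorIsoPullback _).app L) ≪≫
        (Scheme.Modules.pullbackComp j (f ⁻¹ᵁ Y.basicOpen b).ι).app L ≪≫
        (Scheme.Modules.pullbackCongr (X.homOfLE_ι _)).app L ≪≫
        ((Scheme.Modules.restrictFunctorIsoPullback _).app L).symm)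
      (AmpleVan.isAmple_pullback_of_isEmbedding j j.isOpenEmbedding.isEmbedding hV')

end Groth.Agent.NormX
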