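import Groth.Agent.Boundary.Glue
import Groth.Agent.AmpleX.Rel
import Groth.Agent.InvX.GenLocusPull

/-!
# Extending a descent datum across an open where the morphism is an isomorphism
-/

noncomputable section

universe u

open CategoryTheory CategoryTheory.Limits AlgebraicGeometry TopologicalSpace Opposite
open Groth.Agent Groth.Agent.AModX Groth.Agent.InvX

set_option linter.style.haveILetI false
set_option maxHeartbeats 1000000
set_option backward.isDefEq.respectTransparency false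
set_option backward.isDefEq.respectTransparency.types false

namespace Groth.Agent.NormX

variable {X Y O : Scheme.{u}} (j : Y ⟶ X) (a : O ⟶ Y) [IsOpenImmersion a]

/-- The comparison from the direct image to that of the restriction. -/
def toOverlap (N : Y.Modules) :
    (Scheme.Modules.pushforward j).obj N ⟶ (Scheme.Modules.pushforward (a ≫ j)).obj (N.restrict a) :=
  (Scheme.Modules.pushforward j).map ((Scheme.Modules.restrictAdjunction a).unit.app N) ≫
    ((Scheme.Modules.pushforwardComp a j).hom.app (N.restrict a))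

theorem toOverlap_app (N : Y.Modules) (W : X.Opens) (s : Γ(N, j ⁻¹ᵁ W)) :
    (toOverlap j a N).app W s = res N (a.image_preimage_le (j ⁻¹ᵁ W)) s := rfl

theorem bijective_toOverlap (N : Y.Modules) {W : X.Opens} (hW : j ⁻¹ᵁ W ≤ a.opensRange) :
    Function.Bijective ((toOverlap j a N).app W) := by
  have he : j ⁻¹ᵁ W ≤ a ''ᵁ (a ⁻¹ᵁ (j ⁻¹ᵁ W)) := by
    rw [Scheme.Hom.image_preimage_eq_opensRange_inf, inf_eq_right.2 hW]
  haveI : IsIso (homOfLE (a.image_preimage_le (j ⁻¹ᵁ W))) :=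
    ⟨⟨homOfLE he, Subsingleton.elim _ _, Subsingleton.elim _ _⟩⟩
  haveI : IsIso ((toOverlap j a N).app W) := by
    show IsIso (((Scheme.Modules.restrictAdjunction a).unit.app N).app (j ⁻¹ᵁ W) ≫ 𝟙 _)
    rw [Category.comp_id, Scheme.Modules.restrictAdjunction_unit_app_app]
    infer_instance
  exact (ConcreteCategory.isIso_iff_bijective _).1 inferInstance

theorem bijective_app_of_isIso_restrict (f : Y ⟶ X) (W : X.Opens) [IsIso (f ∣_ W)] {V : X.Opens} (hV : V ≤ W) :
    Function.Bijective (f.app V) := by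
  have h : IsIso ((f ∣_ W).app (W.ι ⁻¹ᵁ V)) := inferInstance
  rw [morphismRestrict_app] at h
  haveI := @IsIso.of_isIso_comp_right _ _ _ _ _ _ _ _ h
  have hVe : W.ι ''ᵁ (W.ι ⁻¹ᵁ V) = V := by
    rw [Scheme.Hom.image_preimage_eq_opensRange_inf, Scheme.Opens.opensRange_ι, inf_eq_right.2 hV]
  exact hVe ▸ (ConcreteCategory.isIso_iff_bijective _).1 this

/-- A frame on a preimage gives a frame of the direct image when functions do not change. -/
theorem isFrame_pushforward (f : Y ⟶ X) (N : Y.Modules) {W : X.Opens}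
    (hb : ∀ V : X.Opens, V ≤ W → Function.Bijective (f.app V)) {e : Γ(N, f ⁻¹ᵁ W)} (he : IsFrame e) :
    IsFrame (M := (Scheme.Modules.pushforward f).obj N) (U := W) e := fun V hV => by
  have h := (he (f ⁻¹ᵁ V) (f.preimage_mono hV)).comp (hb V hV)
  refine Iff.mp (Iff.of_eq (congrArg Function.Bijective (funext fun r => ?_))) h
  exact (QCoh.pushforward_smul f V r _).symm

/-- An invertible module on an open `Uo` whose inverse image is the restriction of `N̄` extends to one pulling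
back to `N̄`, if the morphism is an isomorphism over the rest of the cover. -/
theorem exists_glue_descent {M : Scheme.{u}} (c : M ⟶ X) (Uo Vo : X.Opens) (hcov : ∀ x, x ∈ Uo ∨ x ∈ Vo)
    [IsIso (c ∣_ Vo)] {N₁ : (Uo : Scheme.{u}).Modules} (hN₁ : PicF.IsInvertible N₁) {Nbar : M.Modules}
    (hNbar : PicF.IsInvertible Nbar)
    (φ : (Scheme.Modules.pullback (c ∣_ Uo)).obj N₁ ≅ Nbar.restrict (c ⁻¹ᵁ Uo).ι) :
    ∃ L : X.Modules, PicF.IsInvertible L ∧ Nonempty (L.restrict Uo.ι ≅ N₁) ∧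
      Nonempty ((Scheme.Modules.pullback c).obj L ≅ Nbar) := by
  classical
  let c₁ := c ∣_ Uo
  let Ũ := c ⁻¹ᵁ Uo
  let θ := (Scheme.Modules.pullbackPushforwardAdjunction c₁).homEquiv _ _ φ.hom
  have hw : c₁ ≫ Uo.ι = Ũ.ι ≫ c := morphismRestrict_ι c Uo
  let u₁ : (Scheme.Modules.pushforward Uo.ι).obj N₁ ⟶
      (Scheme.Modules.pushforward (Ũ.ι ≫ c)).obj (Nbar.restrict Ũ.ι) :=
    (Scheme.Modules.pushforward Uo.ι).map θ ≫ (Scheme.Modules.pushforwardComp c₁ Uo.ι).hom.app _ ≫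
      (Scheme.Modules.pushforwardCongr hw).hom.app _
  let u₂ := toOverlap c Ũ.ι Nbar
  have hu₂ : ∀ W : X.Opens, W ≤ Uo → Function.Bijective (u₂.app W) := fun W hW =>
    bijective_toOverlap c Ũ.ι Nbar (by rw [Scheme.Opens.opensRange_ι]; exact c.preimage_mono hW)
  -- `u₁` is bijective over `Vo`
  have hθ : ∀ (W : (Uo : Scheme.{u}).Opens) (e : Γ(N₁, W)), IsFrame e → IsFrame (M := Nbar.restrict Ũ.ι)
      (U := c₁ ⁻¹ᵁ W) (θ.app W e) := fun W e he =>
    (InvX.isFrame_pullElt c₁ he).map_iso φ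
  haveI hiso₁ : IsIso (c₁ ∣_ (Uo.ι ⁻¹ᵁ Vo)) := by
    refine ((MorphismProperty.isomorphisms Scheme.{u}).arrow_mk_iso_iff
      (morphismRestrictRestrict c Uo (Uo.ι ⁻¹ᵁ Vo))).2 ?_
    have hle : Uo.ι ''ᵁ (Uo.ι ⁻¹ᵁ Vo) ≤ Vo := Uo.ι.image_preimage_le Vo
    refine ((MorphismProperty.isomorphisms Scheme.{u}).arrow_mk_iso_iff ?_).1
      (show MorphismProperty.isomorphisms Scheme.{u} ((c ∣_ Vo) ∣_ (Vo.ι ⁻¹ᵁ (Uo.ι ''ᵁ (Uo.ι ⁻¹ᵁ Vo)))) from
        inferInstanceAs (IsIso ((c ∣_ Vo) ∣_ _)))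
    refine morphismRestrictRestrict c Vo _ ≪≫ morphismRestrictEq c ?_
    rw [Scheme.Hom.image_preimage_eq_opensRange_inf, Scheme.Opens.opensRange_ι, inf_eq_right.2 hle]
  have hu₁ : ∀ W : X.Opens, W ≤ Vo → Function.Bijective (u₁.app W) := fun W hW => by
    have hb : Function.Bijective (θ.app (Uo.ι ⁻¹ᵁ W)) := by
      have hl : ∀ z : (Uo.ι ⁻¹ᵁ W : (Uo : Scheme.{u}).Opens), ∃ (V : (Uo : Scheme.{u}).Opens) (e : Γ(N₁, V)),
          z.1 ∈ V ∧ V ≤ Uo.ι ⁻¹ᵁ Vo ∧ IsFrame e := fun z => by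
        obtain ⟨V, hzV, e, he⟩ := InvX.exists_frame hN₁ z.1
        exact ⟨V ⊓ Uo.ι ⁻¹ᵁ Vo, AModX.res N₁ inf_le_left e, ⟨hzV, hW z.2⟩, inf_le_right, he.res _⟩
      choose V e hzV hVo he using hl
      refine Boundary.bijective_app_of_locally θ V (fun p hp => ⟨⟨p, hp⟩, hzV ⟨p, hp⟩⟩) fun i V' hV' => ?_
      refine Boundary.bijective_app_of_frame θ (he i) ?_ hV'
      exact isFrame_pushforward c₁ _ (fun V'' hV'' => bijective_app_of_isIso_restrict c₁ (Uo.ι ⁻¹ᵁ Vo)
        (hV''.trans (hVo i))) (hθ _ _ (he i))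
    haveI : IsIso (((Scheme.Modules.pushforward Uo.ι).map θ).app W) :=
      (ConcreteCategory.isIso_iff_bijective _).2 hb
    haveI : IsIso (((Scheme.Modules.pushforwardComp c₁ Uo.ι).hom.app _ ≫
        (Scheme.Modules.pushforwardCongr hw).hom.app (Nbar.restrict Ũ.ι)).app W) :=
      Scheme.Modules.Hom.isIso_iff_isIso_app.1 inferInstance W
    exact (ConcreteCategory.isIso_iff_bijective (((Scheme.Modules.pushforward Uo.ι).map θ).app W ≫
      ((Scheme.Modules.pushforwardComp c₁ Uo.ι).hom.app _ ≫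
        (Scheme.Modules.pushforwardCongr hw).hom.app (Nbar.restrict Ũ.ι)).app W)).1 inferInstance
  let L := pullback u₁ u₂
  have hp : ∀ W : X.Opens, IsPullback ((pullback.fst u₁ u₂).app W) ((pullback.snd u₁ u₂).app W) (u₁.app W) (u₂.app W) :=
    fun W => ((IsPullback.of_hasPullback u₁ u₂).map (Scheme.Modules.toPresheaf X)).map ((evaluation _ _).obj (op W))
  have hfst : ∀ W : X.Opens, W ≤ Uo → Function.Bijective ((pullback.fst u₁ u₂).app W) := fun W hW => by
    haveI : IsIso (u₂.app W) := (ConcreteCategory.isIso_iff_bijective _).2 (hu₂ W hW)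
    haveI := (hp W).isIso_fst_of_isIso
    exact (ConcreteCategory.isIso_iff_bijective _).1 inferInstance
  have hsnd : ∀ W : X.Opens, W ≤ Vo → Function.Bijective ((pullback.snd u₁ u₂).app W) := fun W hW => by
    haveI : IsIso (u₁.app W) := (ConcreteCategory.isIso_iff_bijective _).2 (hu₁ W hW)
    haveI := (hp W).isIso_snd_of_isIso
    exact (ConcreteCategory.isIso_iff_bijective _).1 inferInstance
  -- frames of `L` sent to frames of `Nbar`
  have hfr : ∀ x : X, ∃ (W : X.Opens) (e : Γ(L, W)), x ∈ W ∧ IsFrame e ∧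
      IsFrame (M := Nbar) (U := c ⁻¹ᵁ W) ((pullback.snd u₁ u₂).app W e) := fun x => by
    rcases hcov x with hx | hx
    · obtain ⟨V, hxV, n, hn⟩ := InvX.exists_frame hN₁ ⟨x, hx⟩
      let W := Uo.ι ''ᵁ V
      have hWU : W ≤ Uo := Uo.ι_image_le V
      let n' : Γ(N₁, Uo.ι ⁻¹ᵁ W) := AModX.res N₁ (Uo.ι.preimage_image_eq V).le n
      have hn' : IsFrame n' := hn.res _
      obtain ⟨e, he⟩ := (hfst W hWU).2 n'
      refine ⟨W, e, ⟨⟨x, hx⟩, hxV, rfl⟩, ?_, ?_⟩
      · have hpf : IsFrame (M := (Scheme.Modules.pushforward Uo.ι).obj N₁) (U := W) n' :=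
          Boundary.isFrame_push Uo N₁ hWU n' hn'
        intro V' hV'
        refine ((hfst V' (hV'.trans hWU)).of_comp_iff' _).1 ?_
        have h := hpf V' hV'
        rw [← he] at h
        exact Iff.mp (Iff.of_eq (congrArg Function.Bijective (funext fun r => by
          rw [Function.comp_apply, Scheme.Modules.Hom.app_smul, AModX.app_res]))) h
      · have hcomm : u₁.app W n' = u₂.app W ((pullback.snd u₁ u₂).app W e) := by
          rw [← he]
          exact ConcreteCategory.congr_hom (congrArg (fun ψ => Scheme.Modules.Hom.app ψ W)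
            (pullback.condition (f := u₁) (g := u₂))) e
        have hfr' := hθ _ _ hn'
        have hkey : IsFrame (M := Nbar.restrict Ũ.ι) (U := Ũ.ι ⁻¹ᵁ (c ⁻¹ᵁ W))
            (u₂.app W ((pullback.snd u₁ u₂).app W e)) := by
          rw [← hcomm]
          exact hfr'.res (le_of_eq (show Ũ.ι ⁻¹ᵁ (c ⁻¹ᵁ W) = c₁ ⁻¹ᵁ (Uo.ι ⁻¹ᵁ W) by
            rw [← Scheme.Hom.comp_preimage, ← Scheme.Hom.comp_preimage, hw]))
        have h2 := (AmpleX.isFrame_restrict_iff Ũ.ι _).1 hkey
        rw [toOverlap_app] at h2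
        have he' : c ⁻¹ᵁ W ≤ Ũ.ι ''ᵁ (Ũ.ι ⁻¹ᵁ (c ⁻¹ᵁ W)) := by
          rw [Scheme.Hom.image_preimage_eq_opensRange_inf, Scheme.Opens.opensRange_ι,
            inf_eq_right.2 (c.preimage_mono hWU)]
        have h3 := h2.res he'
        rwa [AModX.res_res, AModX.res_self] at h3
    · obtain ⟨m, hm⟩ := (c ∣_ Vo).homeomorph.surjective ⟨x, hx⟩
      obtain ⟨V, hmV, n, hn⟩ := InvX.exists_frame hNbar m.1
      have hopen : IsOpen (Vo.ι '' ((c ∣_ Vo) '' ((c ⁻¹ᵁ Vo).ι ⁻¹' (V : Set M)))) :=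
        Vo.ι.isOpenEmbedding.isOpenMap _ ((c ∣_ Vo).homeomorph.isOpenMap _ (V.2.preimage (c ⁻¹ᵁ Vo).ι.continuous))
      let W : X.Opens := ⟨_, hopen⟩
      have hWV : W ≤ Vo := by
        rintro _ ⟨v, -, rfl⟩
        exact v.2
      have hpre : c ⁻¹ᵁ W ≤ V := by
        rintro z ⟨v, ⟨w, hw', hwv⟩, hvz⟩
        have hzV : z ∈ c ⁻¹ᵁ Vo := show c z ∈ Vo from hvz ▸ v.2
        have : w = ⟨z, hzV⟩ := (c ∣_ Vo).homeomorph.injective (by
          show (c ∣_ Vo) w = (c ∣_ Vo) ⟨z, hzV⟩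
          refine Vo.ι.isOpenEmbedding.injective ?_
          rw [hwv, hvz, ← Scheme.Hom.comp_apply, morphismRestrict_ι]
          rfl)
        rw [this] at hw'; exact hw'
      obtain ⟨e, he⟩ := (hsnd W hWV).2 (AModX.res Nbar hpre n)
      refine ⟨W, e, ⟨⟨x, hx⟩, ⟨m, hmV, hm⟩, rfl⟩, ?_, he ▸ hn.res _⟩
      have hpf : IsFrame (M := (Scheme.Modules.pushforward c).obj Nbar) (U := W) (AModX.res Nbar hpre n) :=
        isFrame_pushforward c Nbar (fun V' hV' => bijective_app_of_isIso_restrict c Vo (hV'.trans hWV)) (hn.res _)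
      intro V' hV'
      refine ((hsnd V' (hV'.trans hWV)).of_comp_iff' _).1 ?_
      have h := hpf V' hV'
      rw [← he] at h
      exact Iff.mp (Iff.of_eq (congrArg Function.Bijective (funext fun r => by
        rw [Function.comp_apply, Scheme.Modules.Hom.app_smul, AModX.app_res]))) h
  choose W e hxW he hse using hfr
  have hL : PicF.IsInvertible L := InvX.isInvertible_of_frames fun x => ⟨W x, hxW x, e x, he x⟩
  refine ⟨L, hL, Boundary.nonempty_restrict_iso Uo (pullback.fst u₁ u₂) hfst, ?_⟩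
  let ψ := ((Scheme.Modules.pullbackPushforwardAdjunction c).homEquiv L Nbar).symm (pullback.snd u₁ u₂)
  have hψ : ∀ x, ψ.app (c ⁻¹ᵁ W x) (InvX.pullElt c (e x)) = (pullback.snd u₁ u₂).app (W x) (e x) := fun x => by
    have h := congrArg (fun φ => Scheme.Modules.Hom.app φ (W x))
      (((Scheme.Modules.pullbackPushforwardAdjunction c).homEquiv L Nbar).apply_symm_apply (pullback.snd u₁ u₂))
    exact ConcreteCategory.congr_hom h (e x)
  haveI : IsIso ψ := Scheme.Modules.Hom.isIso_iff_isIso_app.2 fun V => (ConcreteCategory.isIso_iff_bijective _).2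
    (Boundary.bijective_app_of_locally ψ (fun z : M => c ⁻¹ᵁ W (c z)) (fun p _ => ⟨p, hxW (c p)⟩) fun z V' hV' =>
      Boundary.bijective_app_of_frame ψ (InvX.isFrame_pullElt c (he (c z))) (by rw [hψ]; exact hse (c z)) hV')
  exact ⟨asIso ψ⟩

end Groth.Agent.NormX
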