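import Groth.Agent.NormX.FromFree
import Groth.Agent.QCoh.Qcqs
import Groth.Agent.QCoh.VanIdeal
import Groth.Prelude.Def_Mor2

/-!
# Norms of finite flat morphisms of constant rank
-/

noncomputable section

universe u

open CategoryTheory CategoryTheory.Limits AlgebraicGeometry TopologicalSpace Opposite
open Groth.Agent Groth.Agent.GrpdLib Groth.Agent.AModX

set_option linter.style.haveILetI false
set_option linter.unusedSectionVars false
set_option backward.isDefEq.respectTransparency false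
set_option backward.isDefEq.respectTransparency.types false

namespace Groth.Agent.NormX

variable {X Y : Scheme.{u}} (π : X ⟶ Y) [IsFinite π] [Flat π] [LocallyOfFinitePresentation π]

theorem finrank_eq_of_frame_affine {V : Y.Opens} (hV : IsAffineOpen V) {n : ℕ}
    (e : letI : Algebra Γ(Y, V) Γ(X, π ⁻¹ᵁ V) := (π.app V).hom.toAlgebra
      Γ(X, π ⁻¹ᵁ V) ≃ₗ[Γ(Y, V)] (ULift.{u} (Fin n) →₀ Γ(Y, V))) {y : Y} (hy : y ∈ V) :
    π.finrank y = n := by
  letI : Algebra Γ(Y, V) Γ(X, π ⁻¹ᵁ V) := (π.app V).hom.toAlgebra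
  haveI hfin : Module.Finite Γ(Y, V) Γ(X, π ⁻¹ᵁ V) := π.finite_app _ hV
  haveI hflat : Module.Flat Γ(Y, V) Γ(X, π ⁻¹ᵁ V) := by
    have := π.flat_appLE hV (hV.preimage π) le_rfl
    rwa [Scheme.Hom.appLE_eq_app] at this
  haveI : Module.Free Γ(Y, V) Γ(X, π ⁻¹ᵁ V) := Module.Free.of_equiv e.symm
  haveI : Nontrivial Γ(Y, V) := (Y.presheaf.germ V y hy).hom.domain_nontrivial
  have hsq : IsPullback (hV.preimage π).fromSpec (Spec.map (π.app V)) π hV.fromSpec := by
    refine IsPullback.flip (IsOpenImmersion.isPullback _ _ _ _ ?_ ?_)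
    · rw [← IsAffineOpen.SpecMap_appLE_fromSpec π hV (hV.preimage π) le_rfl, Scheme.Hom.appLE_eq_app]
    · apply Opens.ext
      simp only [Scheme.Hom.coe_opensRange, Scheme.Hom.coe_preimage, IsAffineOpen.range_fromSpec]
  obtain ⟨p, rfl⟩ : y ∈ Set.range hV.fromSpec := by rw [hV.range_fromSpec]; exact hy
  rw [← Scheme.Hom.finrank_of_isPullback _ _ _ _ hsq p]
  refine (Scheme.Hom.finrank_SpecMap_algebraMap Γ(Y, V) Γ(X, π ⁻¹ᵁ V) p).trans ?_
  rw [Module.rankAtStalk_eq_finrank_of_free, Pi.natCast_apply, Nat.cast_id, e.finrank_eq,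
    Module.finrank_finsupp_self, Fintype.card_ulift, Fintype.card_fin]

theorem exists_frame_finrank (y : Y) :
    ∃ W : Y.Opens, y ∈ W ∧ IsAffineOpen W ∧ ∃ F : Frame (π.app W).hom (π.finrank y), F.mat 1 = 1 := by
  obtain ⟨_, ⟨V, hV, rfl⟩, hyV, -⟩ :=
    Y.isBasis_affineOpens.exists_subset_of_mem_open (Set.mem_univ y) isOpen_univ
  have hV' : IsAffineOpen V := hV
  let M := (Coh.push π).obj (Coh.structureModule X)
  letI : Algebra Γ(Y, V) Γ(X, π ⁻¹ᵁ V) := (π.app V).hom.toAlgebra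
  haveI : Algebra.FinitePresentation Γ(Y, V) Γ(X, π ⁻¹ᵁ V) := by
    have := π.finitePresentation_appLE hV' (hV'.preimage π) le_rfl
    rwa [Scheme.Hom.appLE_eq_app] at this
  haveI hfin : Module.Finite Γ(Y, V) Γ(X, π ⁻¹ᵁ V) := π.finite_app _ hV'
  haveI hflat : Module.Flat Γ(Y, V) Γ(X, π ⁻¹ᵁ V) := by
    have := π.flat_appLE hV' (hV'.preimage π) le_rfl
    rwa [Scheme.Hom.appLE_eq_app] at this
  haveI := Module.FinitePresentation.of_finite_of_finitePresentation (R := Γ(Y, V)) (S := Γ(X, π ⁻¹ᵁ V))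
  let p := hV'.primeIdealOf ⟨y, hyV⟩
  let g := LocalizedModule.mkLinearMap p.asIdeal.primeCompl Γ(X, π ⁻¹ᵁ V)
  haveI : Module.Finite (Localization.AtPrime p.asIdeal) (LocalizedModule p.asIdeal.primeCompl Γ(X, π ⁻¹ᵁ V)) :=
    Module.Finite.of_isLocalizedModule p.asIdeal.primeCompl g
  haveI : Module.Free (Localization.AtPrime p.asIdeal) (LocalizedModule p.asIdeal.primeCompl Γ(X, π ⁻¹ᵁ V)) :=
    Module.free_of_flat_of_isLocalRing
  obtain ⟨r, hr, hfree, -⟩ := Module.FinitePresentation.exists_free_localizedModule_powers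
    p.asIdeal.primeCompl g (Localization.AtPrime p.asIdeal)
  have hM : Coh.IsQCoh M := QCoh.isQCoh_pushforward π QCoh.isQCoh_structureModule
  haveI : Module.Finite Γ(Y, V) Γ(M, V) := hfin
  obtain ⟨n, ⟨e⟩⟩ := QCoh.exists_free_nhd hM hV' r hfree
  have hyW : y ∈ Y.basicOpen r := (QCoh.mem_basicOpen_iff_notMem hV' hyV r).2 hr
  obtain ⟨l⟩ := QCoh.free_sections (hV'.basicOpen r) le_rfl e
  obtain ⟨F, hF⟩ := exists_frame_of_restrict π (hV'.basicOpen r) le_rfl e
  refine ⟨Y.basicOpen r, hyW, hV'.basicOpen r, ?_⟩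
  rw [finrank_eq_of_frame_affine π (hV'.basicOpen r) l hyW]
  exact ⟨F, hF⟩

theorem exists_hasNorm_of_finrank (d : ℕ) (hd : 1 ≤ d) (h : ∀ y : Y, π.finrank y = d) : Nrm.HasNorm π d := by
  refine exists_norm (fun y => ?_) hd
  obtain ⟨W, hyW, hW, F, hF⟩ := exists_frame_finrank π y
  exact ⟨W, hyW, hW, π.finrank y, (h y).dvd, F, hF⟩

end Groth.Agent.NormX
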