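import Groth.Agent.NormX.Build
import Groth.Agent.AmpleX.Sect
import Groth.Agent.AmpleX.FiniteSet
import Groth.Agent.AmpleX.Separated
import Groth.Agent.AmpleX.Extend
import Groth.Agent.InvX.Pullback
import Mathlib.AlgebraicGeometry.Morphisms.QuasiFinite

/-!
# Norms of sections and descent of ampleness
-/

noncomputable section

universe u

open CategoryTheory AlgebraicGeometry TopologicalSpace Opposite
open Groth.Agent Groth.Agent.AModX Groth.Agent.AmpleX Groth.Agent.H23.PicMul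

set_option backward.isDefEq.respectTransparency false
set_option backward.isDefEq.respectTransparency.types false

namespace Groth.Agent.NormX

variable {X Y : Scheme.{u}} {π : X ⟶ Y} {d : ℕ}

lemma one_le (N : Nrm.NormOfDegree π d) : 1 ≤ d := N.one_le

variable [IsFinite π]

/-- The open of the points whose whole fibre lies in an open. -/
lemma exists_open_fibre (V : X.Opens) {y : Y} (h : ∀ x, π x = y → x ∈ V) :
    ∃ W : Y.Opens, y ∈ W ∧ π ⁻¹ᵁ W ≤ V := by
  refine ⟨⟨(π '' (V : Set X)ᶜ)ᶜ, (π.isClosedMap _ V.isOpen.isClosed_compl).isOpen_compl⟩, ?_, fun x hx => ?_⟩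
  · rintro ⟨x, hx, hxy⟩
    exact hx (h x hxy)
  · by_contra hc
    exact hx ⟨x, hc, rfl⟩

lemma mem_basicOpen_wnorm (N : WNorm π) {U : Y.Opens} (c : Γ(X, π ⁻¹ᵁ U)) (y : Y) (hy : y ∈ U) :
    y ∈ Y.basicOpen (N.norm U c) ↔ ∀ x, π x = y → x ∈ X.basicOpen c := by
  constructor
  · rintro h x rfl
    by_contra hc
    rw [X.mem_basicOpen c x hy, ← mem_nonunits_iff, ← IsLocalRing.mem_maximalIdeal] at hc
    have := N.norm_mem U c x hy hc
    rw [IsLocalRing.mem_maximalIdeal, mem_nonunits_iff, ← Y.mem_basicOpen _ _ hy] at this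
    exact this h
  · intro h
    obtain ⟨W₀, hyW, hW⟩ := exists_open_fibre (X.basicOpen c) h
    let W := W₀ ⊓ U
    have hu : IsUnit (resR (π.preimage_mono (inf_le_right : W ≤ U)) c) :=
      AModX.isUnit_resR _ _ ((π.preimage_mono inf_le_left).trans hW)
    have h1 := hu.map (N.norm W)
    have hres : resR (inf_le_right : W ≤ U) (N.norm U c) = N.norm W (resR (π.preimage_mono inf_le_right) c) :=
      N.norm_res (homOfLE inf_le_right) c
    rw [← hres] at h1
    have hyW' : y ∈ W := ⟨hyW, hy⟩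
    have h2 := Y.basicOpen_of_isUnit h1
    rw [show resR (inf_le_right : W ≤ U) (N.norm U c) = Y.presheaf.map (homOfLE inf_le_right).op (N.norm U c) from rfl,
      Scheme.basicOpen_res] at h2
    exact (h2.ge hyW').2

lemma mem_basicOpen_norm (N : Nrm.NormOfDegree π d) {U : Y.Opens} (c : Γ(X, π ⁻¹ᵁ U)) (y : Y) (hy : y ∈ U) :
    y ∈ Y.basicOpen (N.norm U c) ↔ ∀ x, π x = y → x ∈ X.basicOpen c :=
  mem_basicOpen_wnorm (WNorm.ofNorm N) c y hy

lemma surjective_of_norm (N : Nrm.NormOfDegree π d) (y : Y) : ∃ x, π x = y := by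
  by_contra! h
  obtain ⟨W, hyW, hW⟩ := exists_open_fibre (π := π) (⊥ : X.Opens) (y := y) fun x hx => absurd hx (h x)
  have h01 : (1 : Γ(X, π ⁻¹ᵁ W)) = π.app W 0 := by
    refine AModX.eq_of_locally (M := Coh.structureModule X) _ _ fun p hp => absurd (hW hp) (fun h => h)
  have h1 := congrArg (N.norm W) h01
  rw [map_one, N.norm_app, zero_pow (by have := N.one_le; omega)] at h1
  have := congrArg (Y.presheaf.germ W y hyW) h1
  rw [map_one, map_zero] at this
  exact one_ne_zero this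

variable {M : Y.Modules}

theorem exists_normSection (N : Nrm.NormOfDegree π d) (hM : PicF.IsInvertible M) (O : Y.Opens)
    (a : Γ((Scheme.Modules.pullback π).obj M, π ⁻¹ᵁ O)) :
    ∃ b : Γ(CohB1.tensorPow M d, O), ∀ y, y ∈ locus b ↔ y ∈ O ∧ ∀ x, π x = y → x ∈ locus a := by
  classical
  let ι : Type u := {p : Σ U : Y.Opens, Γ(M, U) // p.1 ≤ O ∧ InvX.IsFrame p.2}
  choose c hc using fun p : ι => (InvX.isFrame_pullElt π p.2.2).exists_coord le_rfl
    (res _ (π.preimage_mono p.2.1) a)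
  simp only [res_self] at hc
  have hcompat : ∀ p q : ι, res (CohB1.tensorPow M d) inf_le_left (N.norm p.1.1 (c p) • powElt p.1.2 d) =
      res (CohB1.tensorPow M d) (inf_le_right : p.1.1 ⊓ q.1.1 ≤ q.1.1) (N.norm q.1.1 (c q) • powElt q.1.2 d) := by
    intro p q
    let W := p.1.1 ⊓ q.1.1
    obtain ⟨u, hu⟩ := q.2.2.exists_coord (inf_le_right : W ≤ q.1.1) (res M inf_le_left p.1.2)
    have e1 : res _ (π.preimage_mono (inf_le_left : W ≤ p.1.1)) (InvX.pullElt π p.1.2) =
        π.app W u • res _ (π.preimage_mono (inf_le_right : W ≤ q.1.1)) (InvX.pullElt π q.1.2) := by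
      have := congrArg (((Scheme.Modules.pullbackPushforwardAdjunction π).unit.app M).app W) hu
      rw [Scheme.Modules.Hom.app_smul] at this
      exact (app_res ((Scheme.Modules.pullbackPushforwardAdjunction π).unit.app M) (inf_le_left : W ≤ p.1.1) p.1.2).symm.trans
        (this.trans (congrArg (u • ·) (app_res ((Scheme.Modules.pullbackPushforwardAdjunction π).unit.app M)
          (inf_le_right : W ≤ q.1.1) q.1.2)))
    have e2 : resR (π.preimage_mono (inf_le_left : W ≤ p.1.1)) (c p) * π.app W u =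
        resR (π.preimage_mono (inf_le_right : W ≤ q.1.1)) (c q) := by
      refine (InvX.isFrame_pullElt π q.2.2).coord_unique (π.preimage_mono inf_le_right) ?_
      rw [mul_smul, ← e1, ← res_smul, ← res_smul, ← hc, ← hc, res_res, res_res]
    have n1 : ∀ (r : ι) (h : W ≤ r.1.1), resR h (N.norm r.1.1 (c r)) = N.norm W (resR (π.preimage_mono h) (c r)) :=
      fun r h => N.norm_res (homOfLE h) (c r)
    rw [res_smul, res_smul, res_powElt, res_powElt, hu, powElt_smul, smul_smul, n1, n1, ← e2, map_mul,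
      N.norm_app]
  obtain ⟨b, hb, -⟩ := AModX.existsUnique_glue (M := CohB1.tensorPow M d) (fun p : ι => p.1.1) (fun p => p.2.1)
    (fun y hy => by
      obtain ⟨U, hyU, e, he⟩ := InvX.exists_frame hM y
      exact ⟨⟨⟨U ⊓ O, res M inf_le_left e⟩, inf_le_right, he.res _⟩, hyU, hy⟩)
    (fun p => N.norm p.1.1 (c p) • powElt p.1.2 d) hcompat
  refine ⟨b, fun y => ?_⟩
  by_cases hy : y ∈ O
  swap
  · exact ⟨fun h => absurd (locus_le b h) hy, fun h => absurd h.1 hy⟩
  obtain ⟨U₀, hyU₀, e₀, he₀⟩ := InvX.exists_frame hM y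
  let p : ι := ⟨⟨U₀ ⊓ O, res M inf_le_left e₀⟩, inf_le_right, he₀.res _⟩
  have hyU : y ∈ p.1.1 := ⟨hyU₀, hy⟩
  have h1 := locus_inf b p.2.1 (isFrame_powElt p.2.2 d) (hb p)
  have h2 := locus_inf a (π.preimage_mono p.2.1) (InvX.isFrame_pullElt π p.2.2) (hc p)
  rw [and_iff_right hy]
  constructor
  · intro h x hx
    have hxU : x ∈ π ⁻¹ᵁ p.1.1 := show π x ∈ p.1.1 from hx ▸ hyU
    exact (h2.ge ((mem_basicOpen_norm N (c p) y hyU).1 (h1.le ⟨h, hyU⟩) x hx)).1
  · intro h
    refine (h1.ge ((mem_basicOpen_norm N (c p) y hyU).2 fun x hx => h2.le ⟨h x hx, ?_⟩)).1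
    exact show π x ∈ p.1.1 from hx ▸ hyU

theorem isAmple_of_norm (N : Nrm.NormOfDegree π d) (hM : PicF.IsInvertible M)
    (h : CohB1.IsAmple ((Scheme.Modules.pullback π).obj M)) : CohB1.IsAmple M := by
  haveI := h.2.1
  haveI := isSeparated_of_isAmple h
  have hsurj : Function.Surjective π.base := surjective_of_norm N
  refine isAmple_iff.2 ⟨hM, hsurj.compactSpace π.continuous, fun y => ?_⟩
  obtain ⟨_, ⟨W, hW, rfl⟩, hyW, -⟩ :=
    Y.isBasis_affineOpens.exists_subset_of_mem_open (Set.mem_univ y) isOpen_univ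
  obtain ⟨n, s, hZ, hsW, -⟩ := exists_finite_nhd h (Z := π ⁻¹' {y}) (π.finite_preimage_singleton y)
    (U := π ⁻¹ᵁ W) fun x hx => show π x ∈ W from (show π x = y from hx) ▸ hyW
  have hcl : PicF.cl (CohB1.tensorPow ((Scheme.Modules.pullback π).obj M) (n + 1)) =
      PicF.cl ((Scheme.Modules.pullback π).obj (CohB1.tensorPow M (n + 1))) := by
    rw [cl_tensorPow]
    refine Eq.trans ?_ (show PicF.pullCl π (PicF.cl (CohB1.tensorPow M (n + 1))) = _ from rfl)
    rw [cl_tensorPow, pullCl_pow]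
    rfl
  obtain ⟨a, ha⟩ := exists_locus_cl hcl (InvX.one s)
  rw [← genLocus_eq_locus] at ha
  obtain ⟨b, hb⟩ := exists_normSection N (InvX.isInvertible_tensorPow hM (n + 1)) ⊤
    (show Γ((Scheme.Modules.pullback π).obj (CohB1.tensorPow M (n + 1)), π ⁻¹ᵁ (⊤ : Y.Opens)) from a)
  obtain ⟨b', hb'⟩ := exists_locus_cl (N := CohB1.tensorPow M ((n + 1) * d))
    (show PicF.cl (CohB1.tensorPow (CohB1.tensorPow M (n + 1)) d) = _ by
      rw [cl_tensorPow, cl_tensorPow, cl_tensorPow, ← pow_mul]) b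
  refine ⟨(n + 1) * d, Nat.mul_pos n.succ_pos N.one_le, InvX.ofSect b', ?_⟩
  rw [genLocus_eq_locus, InvX.one_ofSect, hb']
  have hle : locus b ≤ W := fun y' hy' => by
    obtain ⟨x, rfl⟩ := hsurj y'
    exact hsW (ha.le (((hb _).1 hy').2 x rfl))
  refine ⟨(hb y).2 ⟨trivial, fun x hx => ha.ge (hZ hx)⟩, ?_⟩
  rw [← inf_eq_right.2 hle]
  exact isAffineOpen_inf_locus (InvX.isInvertible_tensorPow (InvX.isInvertible_tensorPow hM _) d) hW b le_top

end Groth.Agent.NormX
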