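import Groth.Agent.NormX.Restrict
import Groth.Agent.NormX.Section
import Groth.Agent.NormX.Line

/-!
# Descent of relative ampleness along finite locally free covers
-/

noncomputable section

universe u

open CategoryTheory AlgebraicGeometry TopologicalSpace Opposite
open Groth.Agent

set_option linter.style.haveILetI false
set_option backward.isDefEq.respectTransparency false
set_option backward.isDefEq.respectTransparency.types false

namespace Groth.Agent.NormX

variable {X X' Y : Scheme.{u}} (f : X ⟶ Y) [QuasiCompact f] (g : X' ⟶ X) [IsFinite g] [Surjective g]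

theorem isRelAmple_iff_pullback
    (hfree : FlatMod.IsFinLocFree ((Coh.push g).obj (Coh.structureModule X')))
    {L : X.Modules} (hL : PicF.IsInvertible L) :
    RelAmple.IsRelAmple f L ↔ RelAmple.IsRelAmple (g ≫ f) ((Scheme.Modules.pullback g).obj L) := by
  refine ⟨fun h => AmpleX.isRelAmple_pullback_quasiAffine f g (mor2_isQuasiAffine_of_isAffineHom g) h,
    fun h => ⟨inferInstance, fun V => ?_⟩⟩
  let O := f ⁻¹ᵁ V.1
  haveI : IsFinite (g ∣_ O) := IsZariskiLocalAtTarget.restrict ‹_› O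
  obtain ⟨D, ⟨N⟩⟩ := exists_hasNorm_restrict g O (f.isCompact_preimage V.2.isCompact) hfree
  obtain ⟨e⟩ := nonempty_pullback_restrict_iso g O L
  exact isAmple_of_norm N (AmpleX.isInvertible_restrict O.ι hL) (AmpleX.isAmple_of_iso e.symm (h.2 V))

omit [Surjective g] in
theorem exists_wnorm_of_isFinLocFree
    (hfree : FlatMod.IsFinLocFree ((Coh.push g).obj (Coh.structureModule X'))) : Nonempty (WNorm g) := by
  refine exists_wnorm fun x => ?_
  obtain ⟨U, n, hxU, ⟨e⟩⟩ := hfree x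
  obtain ⟨_, ⟨V, hV, rfl⟩, hxV, hle⟩ :=
    X.isBasis_affineOpens.exists_subset_of_mem_open (show x ∈ U from hxU) U.2
  obtain ⟨F, hF⟩ := exists_frame_of_restrict g hV hle e
  exact ⟨V, hxV, hV, n, F, hF⟩

theorem exists_isRelAmple (hfree : FlatMod.IsFinLocFree ((Coh.push g).obj (Coh.structureModule X')))
    {L' : X'.Modules} (h : RelAmple.IsRelAmple (g ≫ f) L') :
    ∃ L : X.Modules, PicF.IsInvertible L ∧ RelAmple.IsRelAmple f L := by
  have hi := AmpleX.isInvertible_of_isRelAmple h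
  obtain ⟨N⟩ := exists_wnorm_of_isFinLocFree g hfree
  obtain ⟨M, hM, hsec⟩ := exists_normLine N hi
  refine ⟨M, hM, inferInstance, fun V => (AmpleX.isAmple_restrict_iff _ hM).2
    ⟨isCompact_iff_compactSpace.mp (f.isCompact_preimage V.2.isCompact), fun z => ?_⟩⟩
  let O := f ⁻¹ᵁ V.1
  let j := (g ⁻¹ᵁ O).ι
  have hA : CohB1.IsAmple (L'.restrict j) := h.2 V
  haveI := AmpleX.isSeparated_of_isAmple hA
  obtain ⟨_, ⟨W, hW, rfl⟩, hzW, hWO⟩ :=
    X.isBasis_affineOpens.exists_subset_of_mem_open (show O.ι z ∈ O from z.2) O.2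
  have hfin : ((j.base ⁻¹' (g.base ⁻¹' {O.ι z}))).Finite :=
    (g.finite_preimage_singleton _).preimage j.isOpenEmbedding.injective.injOn
  obtain ⟨n, s, hZ, hsW, -⟩ := AmpleX.exists_finite_nhd hA (Z := j.base ⁻¹' (g.base ⁻¹' {O.ι z})) hfin
    (U := j ⁻¹ᵁ (g ⁻¹ᵁ W)) fun w (hw : g (j w) = O.ι z) => show g (j w) ∈ W from hw ▸ hzW
  obtain ⟨a, ha⟩ := AmpleX.exists_section_extendable j s
  obtain ⟨b, hb⟩ := hsec (n + 1) O (AModX.res _ (g ⁻¹ᵁ O).ι_image_top.ge a)
  simp only [AmpleX.locus_res] at hb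
  refine ⟨n + 1, n.succ_pos, AModX.res _ O.ι_image_top.le b, ?_⟩
  rw [AmpleX.locus_res, inf_eq_left.2 ((AmpleX.locus_le b).trans O.ι_image_top.ge)]
  have hle : AmpleX.locus b ≤ W := fun y hy => by
    obtain ⟨x, rfl⟩ := g.surjective y
    obtain ⟨w, hw, rfl⟩ := ha.le ((((hb _).1 hy).2 x rfl).1)
    exact hsW hw
  refine ⟨(hb _).2 ⟨z.2, fun x hx => ?_⟩, ?_⟩
  · have hxO : x ∈ g ⁻¹ᵁ O := show g x ∈ O from hx.symm ▸ z.2
    refine ⟨ha.ge ⟨⟨x, hxO⟩, hZ ?_, rfl⟩, hxO⟩
    exact show g x = O.ι z from hx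
  · rw [← inf_eq_right.2 hle]
    exact AmpleX.isAffineOpen_inf_locus (InvX.isInvertible_tensorPow hM _) hW b hWO

end Groth.Agent.NormX
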