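import Groth.Agent.NormX.Section
import Groth.Agent.S9821
import Mathlib.AlgebraicGeometry.FunctionField
import Mathlib.RingTheory.Norm.Transitivity
import Mathlib.FieldTheory.Minpoly.IsIntegrallyClosed

/-!
# The norm of a finite surjection onto a normal integral scheme
-/

noncomputable section

universe u

open CategoryTheory AlgebraicGeometry TopologicalSpace Opposite
open Groth.Agent Groth.Agent.AModX

set_option linter.style.haveILetI false
set_option linter.unusedSectionVars false
set_option backward.isDefEq.respectTransparency false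
set_option backward.isDefEq.respectTransparency.types false

namespace Groth.Agent.NormX

section Ring

open Polynomial

theorem exists_norm_eq {A B K L : Type u} [CommRing A] [CommRing B] [Field K] [Field L] [IsDomain A] [IsDomain B]
    [Algebra A B] [Algebra A K] [IsFractionRing A K] [Algebra B L] [Algebra K L] [Algebra A L]
    [IsScalarTower A K L] [IsScalarTower A B L] [IsIntegrallyClosed A] [FiniteDimensional K L]
    (b : B) (hb : IsIntegral A b) :
    ∃ a : A, algebraMap A K a = Algebra.norm K (algebraMap B L b) ∧ b ∣ algebraMap A B a := by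
  let x := algebraMap B L b
  let p := minpoly A b
  have hp : minpoly K x = p.map (algebraMap A K) := minpoly.isIntegrallyClosed_eq_field_fractions K L hb
  have hx : IsIntegral K x := Algebra.IsIntegral.isIntegral x
  have hdvd : b ∣ algebraMap A B (p.coeff 0) := by
    refine ⟨-(aeval b p.divX), ?_⟩
    have h := minpoly.aeval A b
    conv at h =>
      lhs
      rw [show minpoly A b = X * p.divX + C (p.coeff 0) from (p.X_mul_divX_add).symm]
    rw [map_add, map_mul, aeval_X, aeval_C] at h
    linear_combination h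
  have hgen : Algebra.norm K (IntermediateField.AdjoinSimple.gen K x) =
      (-1) ^ (minpoly K x).natDegree * (minpoly K x).coeff 0 := by
    rw [← IntermediateField.adjoin.powerBasis_gen hx, Algebra.PowerBasis.norm_gen_eq_coeff_zero_minpoly,
      IntermediateField.adjoin.powerBasis_gen, IntermediateField.minpoly_gen,
      IntermediateField.adjoin.powerBasis_dim]
  refine ⟨((-1) ^ (minpoly K x).natDegree * p.coeff 0) ^ Module.finrank (IntermediateField.adjoin K ({x} : Set L)) L,
    ?_, ?_⟩
  · rw [Algebra.norm_eq_norm_adjoin K x, hgen, map_pow, map_mul, map_pow, map_neg, map_one, hp,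
      Polynomial.coeff_map]
  · rw [map_pow, map_mul]
    haveI : FiniteDimensional (IntermediateField.adjoin K ({x} : Set L)) L :=
      Module.Finite.of_restrictScalars_finite K _ L
    exact (dvd_mul_of_dvd_right hdvd _).trans (dvd_pow_self _ Module.finrank_pos.ne')

end Ring

variable {X Y : Scheme.{u}} [IsIntegral X] [IsIntegral Y]

lemma genericPoint_mem {U : Y.Opens} {y : Y} (hy : y ∈ U) : genericPoint Y ∈ U :=
  (genericPoint_spec Y).mem_open_set_iff U.2 |>.2 ⟨y, trivial, hy⟩

variable (π : X ⟶ Y) [IsFinite π] [Surjective π]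

lemma map_genericPoint : π (genericPoint X) = genericPoint Y := by
  have h := (genericPoint_spec X).image π.continuous
  rw [Set.image_univ, π.surjective.range_eq, closure_univ] at h
  exact h.eq (genericPoint_spec Y)

lemma genericPoint_mem_preimage {U : Y.Opens} (h : genericPoint Y ∈ U) : genericPoint X ∈ π ⁻¹ᵁ U := by
  show π (genericPoint X) ∈ U
  rw [map_genericPoint]
  exact h

/-- The map of function fields. -/
def ffHom : Y.functionField →+* X.functionField :=
  (π.stalkMap (genericPoint X)).hom.comp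
    (Y.presheaf.stalkSpecializes (show π (genericPoint X) ⤳ genericPoint Y by rw [map_genericPoint])).hom

lemma ffHom_germ {U : Y.Opens} (h : genericPoint Y ∈ U) (a : Γ(Y, U)) :
    ffHom π (Y.presheaf.germ U (genericPoint Y) h a) =
      X.presheaf.germ (π ⁻¹ᵁ U) (genericPoint X) (genericPoint_mem_preimage π h) (π.app U a) := by
  show π.stalkMap _ (Y.presheaf.stalkSpecializes _ (Y.presheaf.germ U _ h a)) = _
  rw [TopCat.Presheaf.germ_stalkSpecializes_apply]
  exact Scheme.Hom.germ_stalkMap_apply π U _ _ a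

/-- The function field upstairs over the function field downstairs. -/
@[reducible] def ffAlg : Algebra Y.functionField X.functionField := (ffHom π).toAlgebra

theorem finiteDimensional_ff :
    letI := ffAlg π
    FiniteDimensional Y.functionField X.functionField := by
  classical
  letI := ffAlg π
  obtain ⟨U, hU, hη, -⟩ := exists_isAffineOpen_mem_and_subset (x := genericPoint Y) (U := ⊤) trivial
  haveI : Nonempty U := ⟨⟨_, hη⟩⟩
  haveI : Nonempty (π ⁻¹ᵁ U : X.Opens) := ⟨⟨_, genericPoint_mem_preimage π hη⟩⟩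
  haveI := functionField_isFractionRing_of_isAffineOpen X (π ⁻¹ᵁ U) (hU.preimage π)
  letI : Algebra Γ(Y, U) Γ(X, π ⁻¹ᵁ U) := (π.app U).hom.toAlgebra
  haveI : Module.Finite Γ(Y, U) Γ(X, π ⁻¹ᵁ U) := π.finite_app _ hU
  obtain ⟨t, ht⟩ := Module.Finite.fg_top (R := Γ(Y, U)) (M := Γ(X, π ⁻¹ᵁ U))
  let F := IntermediateField.adjoin Y.functionField
    (algebraMap Γ(X, π ⁻¹ᵁ U) X.functionField '' (t : Set Γ(X, π ⁻¹ᵁ U)))
  have hmem : ∀ b : Γ(X, π ⁻¹ᵁ U), algebraMap Γ(X, π ⁻¹ᵁ U) X.functionField b ∈ F := fun b => by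
    obtain ⟨c, -, hc⟩ := Submodule.mem_span_finset.1 (ht ▸ Submodule.mem_top (x := b))
    rw [← hc, map_sum]
    refine sum_mem fun i hi => ?_
    rw [Algebra.smul_def, map_mul]
    refine mul_mem ?_ (IntermediateField.subset_adjoin _ _ ⟨i, hi, rfl⟩)
    have : algebraMap Γ(X, π ⁻¹ᵁ U) X.functionField (algebraMap Γ(Y, U) Γ(X, π ⁻¹ᵁ U) (c i)) =
        algebraMap Y.functionField X.functionField (Y.presheaf.germ U (genericPoint Y) hη (c i)) :=
      (ffHom_germ π hη (c i)).symm
    rw [this]
    exact IntermediateField.algebraMap_mem F _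
  have hF : F = ⊤ := eq_top_iff.2 fun f _ => by
    obtain ⟨a, b, -, rfl⟩ := IsFractionRing.div_surjective (A := Γ(X, π ⁻¹ᵁ U)) f
    exact F.div_mem (hmem a) (hmem b)
  haveI : FiniteDimensional Y.functionField F := by
    haveI : Finite (algebraMap Γ(X, π ⁻¹ᵁ U) X.functionField '' (t : Set Γ(X, π ⁻¹ᵁ U))) :=
      (t.finite_toSet.image _).to_subtype
    refine IntermediateField.finiteDimensional_adjoin ?_
    rintro _ ⟨b, hb, rfl⟩
    obtain ⟨p, hp, hpb⟩ := (IsIntegral.of_finite Γ(Y, U) b)
    refine ⟨p.map (Y.presheaf.germ U (genericPoint Y) hη).hom, hp.map _, ?_⟩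
    rw [Polynomial.eval₂_map]
    have e : (algebraMap Y.functionField X.functionField).comp (Y.presheaf.germ U (genericPoint Y) hη).hom =
        (algebraMap Γ(X, π ⁻¹ᵁ U) X.functionField).comp (algebraMap Γ(Y, U) Γ(X, π ⁻¹ᵁ U)) :=
      RingHom.ext fun a => ffHom_germ π hη a
    rw [e, ← Polynomial.hom_eval₂, hpb, map_zero]
  exact Module.Finite.equiv ((IntermediateField.equivOfEq hF).trans IntermediateField.topEquiv).toLinearEquiv

variable (hY : Pi1.IsNormalScheme Y)
include hY

theorem exists_normal_local {V : Y.Opens} (hV : IsAffineOpen V) (hη : genericPoint Y ∈ V) (b : Γ(X, π ⁻¹ᵁ V)) :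
    letI := ffAlg π
    ∃ a : Γ(Y, V), Y.presheaf.germ V (genericPoint Y) hη a =
        Algebra.norm Y.functionField (X.presheaf.germ (π ⁻¹ᵁ V) (genericPoint X) (genericPoint_mem_preimage π hη) b) ∧
      b ∣ π.app V a := by
  letI := ffAlg π
  haveI := finiteDimensional_ff π
  haveI : Nonempty V := ⟨⟨_, hη⟩⟩
  haveI : Nonempty (π ⁻¹ᵁ V : X.Opens) := ⟨⟨_, genericPoint_mem_preimage π hη⟩⟩
  haveI := functionField_isFractionRing_of_isAffineOpen Y V hV
  haveI := functionField_isFractionRing_of_isAffineOpen X (π ⁻¹ᵁ V) (hV.preimage π)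
  letI : Algebra Γ(Y, V) Γ(X, π ⁻¹ᵁ V) := (π.app V).hom.toAlgebra
  haveI : Module.Finite Γ(Y, V) Γ(X, π ⁻¹ᵁ V) := π.finite_app _ hV
  letI : Algebra Γ(Y, V) X.functionField :=
    ((algebraMap Γ(X, π ⁻¹ᵁ V) X.functionField).comp (algebraMap Γ(Y, V) Γ(X, π ⁻¹ᵁ V))).toAlgebra
  haveI : IsScalarTower Γ(Y, V) Γ(X, π ⁻¹ᵁ V) X.functionField := IsScalarTower.of_algebraMap_eq fun _ => rfl
  haveI : IsScalarTower Γ(Y, V) Y.functionField X.functionField :=
    IsScalarTower.of_algebraMap_eq fun a => (ffHom_germ π hη a).symm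
  haveI : IsIntegrallyClosed Γ(Y, V) := (S9821.result Y).1 hY V hV
  exact exists_norm_eq (K := Y.functionField) (L := X.functionField) b (IsIntegral.of_finite _ b)

omit hY in
lemma eq_of_germ {U : Y.Opens} {y : Y} (hy : y ∈ U) {s t : Γ(Y, U)}
    (h : Y.presheaf.germ U (genericPoint Y) (genericPoint_mem hy) s =
      Y.presheaf.germ U (genericPoint Y) (genericPoint_mem hy) t) : s = t :=
  germ_injective_of_isIntegral Y (genericPoint Y) (genericPoint_mem hy) h

theorem exists_hasNorm_of_normal : ∃ d : ℕ, Nrm.HasNorm π d := by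
  classical
  letI := ffAlg π
  haveI := finiteDimensional_ff π
  let η := genericPoint Y
  have hex : ∀ (U : Y.Opens) (s : Γ(X, π ⁻¹ᵁ U)), ∃! t : Γ(Y, U), ∀ h : η ∈ U,
      Y.presheaf.germ U η h t =
        Algebra.norm Y.functionField (X.presheaf.germ (π ⁻¹ᵁ U) (genericPoint X) (genericPoint_mem_preimage π h) s) := by
    intro U s
    by_cases hU : ∃ y, y ∈ U
    swap
    · haveI : Subsingleton Γ(Y, U) := ⟨fun a b => AModX.eq_of_locally (M := Coh.structureModule Y) a b
        fun p hp => absurd ⟨p, hp⟩ hU⟩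
      exact ⟨0, fun h => absurd ⟨_, h⟩ hU, fun _ _ => Subsingleton.elim _ _⟩
    obtain ⟨y₀, hy₀⟩ := hU
    have hη : η ∈ U := genericPoint_mem hy₀
    let ι : Type u := {V : Y.Opens // IsAffineOpen V ∧ V ≤ U ∧ η ∈ V}
    choose t ht using fun V : ι =>
      (exists_normal_local π hY V.2.1 V.2.2.2 (resR (π.preimage_mono V.2.2.1) s))
    have hg : ∀ (V : ι) {W : Y.Opens} (h : W ≤ V.1) (hW : η ∈ W), Y.presheaf.germ W η hW (resR h (t V)) =
        Algebra.norm Y.functionField (X.presheaf.germ (π ⁻¹ᵁ U) (genericPoint X) (genericPoint_mem_preimage π hη) s) := by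
      intro V W h hW
      show Y.presheaf.germ W η hW (Y.presheaf.map (homOfLE h).op (t V)) = _
      rw [Y.presheaf.germ_res_apply, (ht V).1]
      show Algebra.norm _ (X.presheaf.germ _ _ _ (X.presheaf.map (homOfLE (π.preimage_mono V.2.2.1)).op s)) = _
      rw [X.presheaf.germ_res_apply]
    obtain ⟨g, hgl, -⟩ := AModX.existsUnique_glue (M := Coh.structureModule Y) (fun V : ι => V.1)
      (fun V => V.2.2.1) (fun y hy => by
        obtain ⟨_, ⟨V, hV, rfl⟩, hyV, hle⟩ :=
          Y.isBasis_affineOpens.exists_subset_of_mem_open (show y ∈ U from hy) U.2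
        exact ⟨⟨V, hV, hle, genericPoint_mem hyV⟩, hyV⟩)
      t (fun V V' => eq_of_germ (y := η) (show η ∈ V.1 ⊓ V'.1 from ⟨V.2.2.2, V'.2.2.2⟩)
        ((hg V inf_le_left ⟨V.2.2.2, V'.2.2.2⟩).trans (hg V' inf_le_right ⟨V.2.2.2, V'.2.2.2⟩).symm))
    obtain ⟨_, ⟨V, hV, rfl⟩, hηV, hle⟩ :=
      Y.isBasis_affineOpens.exists_subset_of_mem_open (show η ∈ U from hη) U.2
    replace hle : V ≤ U := hle
    have hgη : Y.presheaf.germ U η hη g =
        Algebra.norm Y.functionField (X.presheaf.germ (π ⁻¹ᵁ U) (genericPoint X) (genericPoint_mem_preimage π hη) s) := by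
      rw [← Y.presheaf.germ_res_apply (homOfLE hle) η hηV]
      refine Eq.trans ?_ (hg ⟨V, hV, hle, hηV⟩ le_rfl hηV)
      exact congrArg _ ((hgl ⟨V, hV, hle, hηV⟩).trans (resR_self _).symm)
    exact ⟨g, fun h => hgη, fun g' hg' => eq_of_germ hη ((hg' hη).trans hgη.symm)⟩
  let N : ∀ U : Y.Opens, Γ(X, π ⁻¹ᵁ U) → Γ(Y, U) := fun U s => (hex U s).choose
  have hN : ∀ U s (h : η ∈ U), Y.presheaf.germ U η h (N U s) = Algebra.norm Y.functionField
      (X.presheaf.germ (π ⁻¹ᵁ U) (genericPoint X) (genericPoint_mem_preimage π h) s) :=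
    fun U s => (hex U s).choose_spec.1
  have huniq : ∀ U s t, (∀ h : η ∈ U, Y.presheaf.germ U η h t = Algebra.norm Y.functionField
      (X.presheaf.germ (π ⁻¹ᵁ U) (genericPoint X) (genericPoint_mem_preimage π h) s)) → t = N U s :=
    fun U s t => (hex U s).choose_spec.2 t
  refine ⟨Module.finrank Y.functionField X.functionField, ⟨{
    one_le := Module.finrank_pos
    norm := fun U =>
      { toFun := N U
        map_one' := (huniq U 1 1 fun h => by rw [map_one, map_one, map_one]).symm
        map_mul' := fun s s' => (huniq U _ _ fun h => by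
          rw [map_mul, map_mul, hN U s h, hN U s' h, map_mul]).symm }
    norm_res := fun {U V} i s => huniq V _ _ fun h => by
      show Y.presheaf.germ V η h (Y.presheaf.map (homOfLE i.le).op (N U s)) = _
      rw [Y.presheaf.germ_res_apply, hN U s (i.le h)]
      exact congrArg _ (X.presheaf.germ_res_apply (homOfLE (π.preimage_mono i.le)) _ _ s).symm
    norm_app := fun U a => (huniq U _ _ fun h => by
      rw [map_pow, ← ffHom_germ π h a]
      exact (Algebra.norm_algebraMap _).symm).symm
    norm_mem := fun U s x hx hs => ?_ }⟩⟩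
  obtain ⟨_, ⟨V, hV, rfl⟩, hyV, hle⟩ :=
    Y.isBasis_affineOpens.exists_subset_of_mem_open (show π x ∈ U from hx) U.2
  replace hle : V ≤ U := hle
  obtain ⟨a, ha, c, hc⟩ := exists_normal_local π hY hV (genericPoint_mem hyV) (resR (π.preimage_mono hle) s)
  have e : resR hle (N U s) = a := eq_of_germ hyV (by
    show Y.presheaf.germ V _ _ (Y.presheaf.map (homOfLE hle).op (N U s)) = _
    rw [Y.presheaf.germ_res_apply, hN U s (genericPoint_mem hx), ha]
    exact congrArg _ (X.presheaf.germ_res_apply (homOfLE (π.preimage_mono hle)) _ _ s).symm)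
  show Y.presheaf.germ U (π x) hx (N U s) ∈ _
  rw [← Y.presheaf.germ_res_apply (homOfLE hle) (π x) hyV]
  show Y.presheaf.germ V (π x) hyV (resR hle (N U s)) ∈ _
  rw [e]
  by_contra hu
  rw [IsLocalRing.notMem_maximalIdeal] at hu
  have hu' := hu.map (π.stalkMap x).hom
  rw [show (π.stalkMap x).hom (Y.presheaf.germ V (π x) hyV a) = X.presheaf.germ (π ⁻¹ᵁ V) x hyV (π.app V a) from
    π.germ_stalkMap_apply V x hyV _, hc, map_mul] at hu'
  have hu'' := (IsUnit.mul_iff.1 hu').1
  rw [show X.presheaf.germ (π ⁻¹ᵁ V) x hyV (resR (π.preimage_mono hle) s) = X.presheaf.germ (π ⁻¹ᵁ U) x hx s from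
    X.presheaf.germ_res_apply (homOfLE (π.preimage_mono hle)) _ _ s] at hu''
  exact hs hu''

end Groth.Agent.NormX
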