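import Groth.Agent.NormX.Nilp
import Groth.Agent.NormX.NormalAmple
import Groth.Agent.MorLib.IdealFG3
import Groth.Agent.MorLib.Thick.NilIdeal
import Groth.Agent.LimChev.Main
import Groth.Agent.RGLib.Lim8Ample
import Groth.Agent.AmpleX.Separated

/-!
# Ampleness along a closed immersion which is a homeomorphism
-/

noncomputable section

universe u

open CategoryTheory CategoryTheory.Limits AlgebraicGeometry TopologicalSpace Opposite
open Groth.Agent Groth.Agent.AmpleX

set_option linter.style.haveILetI false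
set_option backward.isDefEq.respectTransparency false
set_option backward.isDefEq.respectTransparency.types false

namespace Groth.Agent.NormX

/-- A finitely generated ideal sheaf contained in the kernel of a surjective closed immersion is nilpotent. -/
theorem exists_pow_eq_bot {Z X : Scheme.{u}} (i : Z ⟶ X) [IsClosedImmersion i] (hi : Function.Surjective i)
    [CompactSpace X] (K : MorLib.IdealFG.Sub i.ker) : ∃ k, K.1 ^ (2 ^ k) = ⊥ := by
  classical
  obtain ⟨S, hS⟩ := isCompact_univ.elim_finite_subcover (fun W : X.affineOpens => (W.1 : Set X)) (fun W => W.1.2)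
    fun x _ => by
      obtain ⟨_, ⟨W, hW, rfl⟩, hxW, -⟩ := X.isBasis_affineOpens.exists_subset_of_mem_open
        (Set.mem_univ x) isOpen_univ
      exact Set.mem_iUnion.2 ⟨⟨W, hW⟩, hxW⟩
  have hn : ∀ W : S, ∃ n, K.1.ideal W.1 ^ n = ⊥ := fun W => by
    have hle : K.1.ideal W.1 ≤ nilradical Γ(X, W.1.1) := fun x hx =>
      mem_nilradical.2 (MorLib.Thick.ker_ι_ideal_isNil i hi W.1 x (K.2.1 W.1 hx))
    exact Ideal.exists_pow_le_of_le_radical_of_fg hle (K.2.2 W.1) |>.imp fun n hn => le_bot_iff.1 hn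
  choose n hn using hn
  obtain ⟨k, hk⟩ : ∃ k, ∀ W, n W ≤ 2 ^ k := ⟨Finset.univ.sup n, fun W =>
    (Finset.le_sup (Finset.mem_univ W)).trans Nat.lt_two_pow_self.le⟩
  refine ⟨k, Scheme.IdealSheafData.ext_of_iSup_eq_top (fun W : S => W.1) ?_ fun W => ?_⟩
  · refine top_le_iff.1 fun x _ => ?_
    obtain ⟨W, hW, hxW⟩ := Set.mem_iUnion₂.1 (hS (Set.mem_univ x))
    exact Opens.mem_iSup.2 ⟨⟨W, hW⟩, hxW⟩
  · rw [Scheme.IdealSheafData.ideal_pow, Pi.pow_apply]
    exact le_bot_iff.1 ((Ideal.pow_le_pow_right (hk W)).trans (hn W).le)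

/-- Ampleness is insensitive to a closed immersion which is a homeomorphism. -/
theorem isAmple_of_thickening {Z X : Scheme.{u}} (i : Z ⟶ X) [IsClosedImmersion i] [Surjective i]
    {L : X.Modules} (hL : PicF.IsInvertible L) (hA : CohB1.IsAmple ((Scheme.Modules.pullback i).obj L)) :
    CohB1.IsAmple L := by
  haveI : CompactSpace Z := hA.2.1
  haveI : CompactSpace X := MorLib.Thick.compact_of_surjective i i.surjective
  haveI : Z.IsSeparated := isSeparated_of_isAmple hA
  haveI : X.IsSeparated := LimChev.isSeparated_of_surjective i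
  let D := MorLib.IdealFG.subDiagram (𝟙 X) i.ker ⋙ Over.forget X
  let c : Cone D := (Over.forget X).mapCone (MorLib.IdealFG.subCone (𝟙 X) i.ker)
  haveI : IsConnected (MorLib.IdealFG.Sub i.ker)ᵒᵖ := IsCofiltered.isConnected _
  let hc : IsLimit c := isLimitOfPreserves (Over.forget X) (MorLib.IdealFG.isLimitSubCone (𝟙 X) i.ker)
  haveI : ∀ (a b : (MorLib.IdealFG.Sub i.ker)ᵒᵖ) (h : a ⟶ b), IsAffineHom (D.map h) := fun a b h => by
    haveI := MorLib.IdealFG.isClosedImmersion_map (𝟙 X) i.ker h
    exact inferInstanceAs (IsAffineHom ((MorLib.IdealFG.subDiagram (𝟙 X) i.ker).map h).left)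
  haveI : ∀ a, CompactSpace (D.obj a) := fun a => QuasiCompact.compactSpace_of_compactSpace a.unop.1.subschemeι
  haveI : ∀ a, QuasiSeparatedSpace (D.obj a) := fun a => by
    haveI := isSeparated_of_isClosedImmersion a.unop.1.subschemeι
    exact inferInstanceAs (QuasiSeparatedSpace a.unop.1.subscheme)
  let b : (MorLib.IdealFG.Sub i.ker)ᵒᵖ := op ⟨⊥, bot_le, MorLib.IdealFG.isFG_bot⟩
  let L₀ : (D.obj b).Modules := (Scheme.Modules.pullback b.unop.1.subschemeι).obj L
  have hA' : CohB1.IsAmple ((Scheme.Modules.pullback (c.π.app b)).obj L₀) := by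
    have e : c.π.app b ≫ b.unop.1.subschemeι = inv i.toImage ≫ i := by
      rw [IsIso.eq_inv_comp]
      refine (congrArg (i.toImage ≫ ·) (Scheme.IdealSheafData.inclusion_subschemeι _)).trans ?_
      exact i.toImage_imageι
    exact isAmple_of_iso ((Scheme.Modules.pullbackComp (inv i.toImage) i).app L ≪≫
      (Scheme.Modules.pullbackCongr e.symm).app L ≪≫ ((Scheme.Modules.pullbackComp _ _).app L).symm)
      (isAmple_pullback_affine (inv i.toImage) hA)
  obtain ⟨a, φ, ha⟩ := RGLib.Lim8.exists_isAmple_stage D c hc L₀ (PicLoc.isInvertible_pullback _ hL) hA'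
  have hφ : D.map φ ≫ b.unop.1.subschemeι = a.unop.1.subschemeι := Scheme.IdealSheafData.inclusion_subschemeι _
  obtain ⟨k, hk⟩ := exists_pow_eq_bot i i.surjective a.unop
  haveI : Surjective a.unop.1.subschemeι := ⟨fun x => by
    obtain ⟨z, hz⟩ := i.surjective x
    refine ⟨(i.toImage ≫ Scheme.IdealSheafData.inclusion a.unop.2.1) z, ?_⟩
    rw [← Scheme.Hom.comp_apply, Category.assoc, Scheme.IdealSheafData.inclusion_subschemeι]
    exact (congrArg (fun f : Z ⟶ X => f z) i.toImage_imageι).trans hz⟩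
  refine isAmple_of_ker_pow k a.unop.1.subschemeι ?_ hL ?_
  · rw [Scheme.IdealSheafData.ker_subschemeι]; exact hk
  · exact isAmple_of_iso ((Scheme.Modules.pullbackComp (D.map φ) b.unop.1.subschemeι).app L ≪≫
      (Scheme.Modules.pullbackCongr hφ).app L) ha

end Groth.Agent.NormX
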