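import Groth.Agent.AmpleVan.SpreadFibre
import Groth.Agent.AmpleX.Sect
import Groth.Agent.AmpleX.Basis
import Groth.Agent.AmpleX.Rel
import Groth.Agent.AmpleX.Separated
import Groth.Agent.NormX.RelVanishing

/-!
# Ampleness over a localisation of the base spreads out
-/

noncomputable section

universe u

open CategoryTheory CategoryTheory.Limits AlgebraicGeometry TopologicalSpace Opposite
open Groth.Agent Groth.Agent.H23.PicMul

set_option linter.style.haveILetI false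
set_option maxHeartbeats 1000000
set_option backward.isDefEq.respectTransparency false
set_option backward.isDefEq.respectTransparency.types false

namespace Groth.Agent.NormX

/-- In a locally closed set of a noetherian space every point specialises from one of finitely many. -/
theorem exists_finite_generic {T : Type*} [TopologicalSpace T] [NoetherianSpace T] [QuasiSober T]
    {G F : Set T} (hG : IsOpen G) (hF : IsClosed F) :
    ∃ E : Finset T, (∀ η ∈ E, η ∈ G ∩ F) ∧ ∀ z ∈ G ∩ F, ∃ η ∈ E, η ⤳ z := by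
  classical
  obtain ⟨S, hSf, hSc, hSi, hS⟩ := NoetherianSpace.exists_finite_set_isClosed_irreducible hF
  let η : S → T := fun Z => (hSi Z.1 Z.2).genericPoint
  haveI := hSf.fintype
  refine ⟨(Finset.univ.image η).filter (fun e => e ∈ G ∩ F), fun e he => (Finset.mem_filter.1 he).2,
    fun z hz => ?_⟩
  obtain ⟨Z, hZS, hzZ⟩ := Set.mem_sUnion.1 (hS ▸ hz.2)
  have hgp := (hSi Z hZS).isGenericPoint_genericPoint (hSc Z hZS)
  have hsp : η ⟨Z, hZS⟩ ⤳ z := hgp.specializes hzZ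
  refine ⟨η ⟨Z, hZS⟩, Finset.mem_filter.2 ⟨Finset.mem_image.2 ⟨⟨Z, hZS⟩, Finset.mem_univ _, rfl⟩,
    hsp.mem_open hG hz.1, ?_⟩, hsp⟩
  rw [hS]
  exact Set.mem_sUnion.2 ⟨Z, hZS, hgp.mem⟩

variable {B : Type u} [CommRing B] {X : Scheme.{u}} [X.Over (Spec (CommRingCat.of B))]

/-- A locally closed subset missing the preimage of the generalisations of a prime misses the preimage of
a basic neighbourhood. -/
theorem exists_avoid [AlgebraicGeometry.IsNoetherian X] (p : Spec (CommRingCat.of B)) {G F : Set X}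
    (hG : IsOpen G) (hF : IsClosed F)
    (h : ∀ z ∈ G ∩ F, ¬ ((X ↘ Spec (CommRingCat.of B)) z).asIdeal ≤ p.asIdeal) :
    ∃ b : B, b ∉ p.asIdeal ∧ ∀ z ∈ G ∩ F,
      (X ↘ Spec (CommRingCat.of B)) z ∉ PrimeSpectrum.basicOpen b := by
  classical
  obtain ⟨E, hE, hEz⟩ := exists_finite_generic hG hF
  choose b hb hbp using fun η : E => SetLike.not_le_iff_exists.1 (h η.1 (hE η.1 η.2))
  refine ⟨∏ η : E, b η, fun hp => ?_, fun z hz => ?_⟩
  · obtain ⟨η, -, hη⟩ := (p.isPrime.prod_mem_iff).1 hp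
    exact hbp η hη
  · obtain ⟨η, hη, hsp⟩ := hEz z hz
    have hle : ((X ↘ Spec (CommRingCat.of B)) η).asIdeal ≤ ((X ↘ Spec (CommRingCat.of B)) z).asIdeal :=
      PrimeSpectrum.le_iff_specializes _ _ |>.2 (hsp.map (X ↘ Spec (CommRingCat.of B)).continuous)
    exact fun hzb => hzb (hle (Ideal.prod_mem _ (Finset.mem_univ (⟨η, hη⟩ : E)) (hb ⟨η, hη⟩)))

variable (p : Spec (CommRingCat.of B)) {A : Type u} [CommRing A] [Algebra B A]
  [IsLocalization p.asIdeal.primeCompl A] {X₁ : Scheme.{u}} [X₁.Over (Spec (CommRingCat.of A))] {g : X₁ ⟶ X}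

include p in
theorem mem_range_of_le (sq : IsPullback g (X₁ ↘ Spec (CommRingCat.of A)) (X ↘ Spec (CommRingCat.of B))
      (Spec.map (CommRingCat.ofHom (algebraMap B A)))) {z : X}
    (hz : ((X ↘ Spec (CommRingCat.of B)) z).asIdeal ≤ p.asIdeal) : z ∈ Set.range g := by
  have h1 : (X ↘ Spec (CommRingCat.of B)) z ∈ Set.range (Spec.map (CommRingCat.ofHom (algebraMap B A))) := by
    show (X ↘ Spec (CommRingCat.of B)) z ∈ Set.range (PrimeSpectrum.comap (algebraMap B A))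
    rw [PrimeSpectrum.localization_comap_range A p.asIdeal.primeCompl]
    exact Set.disjoint_left.2 fun b hb hbz => hb (hz hbz)
  obtain ⟨q, hq⟩ := h1
  obtain ⟨w, hw, -⟩ := Scheme.Pullback.exists_preimage_pullback (f := X ↘ Spec (CommRingCat.of B))
    (g := Spec.map (CommRingCat.ofHom (algebraMap B A))) z q hq.symm
  refine ⟨sq.isoPullback.inv w, ?_⟩
  rw [← Scheme.Hom.comp_apply, IsPullback.isoPullback_inv_fst]
  exact hw

include p in
theorem le_of_mem_range (sq : IsPullback g (X₁ ↘ Spec (CommRingCat.of A)) (X ↘ Spec (CommRingCat.of B))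
      (Spec.map (CommRingCat.ofHom (algebraMap B A)))) (w : X₁) :
    ((X ↘ Spec (CommRingCat.of B)) (g w)).asIdeal ≤ p.asIdeal := by
  have h1 : (X ↘ Spec (CommRingCat.of B)) (g w) ∈ Set.range (PrimeSpectrum.comap (algebraMap B A)) :=
    ⟨(X₁ ↘ Spec (CommRingCat.of A)) w, (congr($(sq.w) w)).symm⟩
  rw [PrimeSpectrum.localization_comap_range A p.asIdeal.primeCompl] at h1
  exact fun b hb => by_contra fun hbp => Set.disjoint_left.1 h1 hbp hb

include p in
/-- Sections over the localised base extend after multiplying by a unit. -/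
theorem exists_section_loc [CompactSpace X] [X.IsSeparated]
    (sq : IsPullback g (X₁ ↘ Spec (CommRingCat.of A)) (X ↘ Spec (CommRingCat.of B))
      (Spec.map (CommRingCat.ofHom (algebraMap B A))))
    {L : X.Modules} (hL : PicF.IsInvertible L) {m : ℕ}
    (s : Coh.structureModule X₁ ⟶ CohB1.tensorPow ((Scheme.Modules.pullback g).obj L) m) :
    ∃ w : Γ(CohB1.tensorPow L m, ⊤), g ⁻¹ᵁ AmpleX.locus w = CohB1.genLocus _ s := by
  have hN : PicF.IsInvertible (CohB1.tensorPow L m) := InvX.isInvertible_tensorPow hL m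
  let N := CohB1.tensorPow L m
  obtain ⟨θ⟩ : Nonempty ((Scheme.Modules.pullback g).obj N ≅ CohB1.tensorPow ((Scheme.Modules.pullback g).obj L) m) :=
    cl_eq_iff.1 (by
      show PicF.pullCl g (PicF.cl (CohB1.tensorPow L m)) = _
      rw [cl_tensorPow, pullCl_pow, cl_tensorPow]; rfl)
  let y : Γ((Scheme.Modules.pullback g).obj N, g ⁻¹ᵁ ⊤) := InvX.one (s ≫ θ.inv)
  obtain ⟨b, hb, w, hw⟩ := AmpleVan.exists_global (S := p.asIdeal.primeCompl)
    (κ := (Scheme.Modules.pullbackPushforwardAdjunction g).unit.app N)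
    (fun z => ⟨⊤, trivial, AmpleVan.isSIso_unit _ sq (ProjUPX.isQCoh_of_isInvertible hN) ⊤⟩) y
  refine ⟨w, ?_⟩
  have hu : IsUnit (g.app ⊤ (X.presheaf.map (homOfLE (le_refl (⊤ : X.Opens))).op
      (Coh.toGlobal (X ↘ Spec (CommRingCat.of B)) b))) := by
    rw [QCoh.app_topRes, ← QCoh.toGlobal_comm _ _ g sq.w]
    exact ((IsLocalization.map_units A (⟨b, hb⟩ : p.asIdeal.primeCompl)).map _).map _
  calc g ⁻¹ᵁ AmpleX.locus w = AmpleX.locus (InvX.pullElt g w) := (AmpleX.locus_pullElt hN g w).symm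
    _ = AmpleX.locus ((g.app ⊤ (X.presheaf.map (homOfLE (le_refl (⊤ : X.Opens))).op
          (Coh.toGlobal (X ↘ Spec (CommRingCat.of B)) b))) • y) := congrArg AmpleX.locus hw
    _ = AmpleX.locus y := by
      rw [AmpleX.locus_smul (PicLoc.isInvertible_pullback g hN), Scheme.basicOpen_of_isUnit _ hu]
      exact inf_eq_left.2 (AmpleX.locus_le y)
    _ = CohB1.genLocus _ s := by
      rw [← AmpleX.genLocus_eq_locus]
      exact InvX.genLocus_comp_iso s θ.symm

theorem preimage_basicOpen (b : B) : (X ↘ Spec (CommRingCat.of B)) ⁻¹ᵁ PrimeSpectrum.basicOpen b =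
    X.basicOpen (Coh.toGlobal (X ↘ Spec (CommRingCat.of B)) b) := by
  rw [show Coh.toGlobal (X ↘ Spec (CommRingCat.of B)) b =
    (X ↘ Spec (CommRingCat.of B)).appTop ((Scheme.ΓSpecIso (CommRingCat.of B)).inv b) from rfl,
    ← Scheme.preimage_basicOpen_top, basicOpen_eq_of_affine', Iso.inv_hom_id_apply]

include p in
/-- Ampleness over the local ring gives ampleness over a basic neighbourhood. -/
theorem exists_isAmple_basicOpen [IsNoetherianRing B] [IsProper (X ↘ Spec (CommRingCat.of B))]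
    (sq : IsPullback g (X₁ ↘ Spec (CommRingCat.of A)) (X ↘ Spec (CommRingCat.of B))
      (Spec.map (CommRingCat.ofHom (algebraMap B A))))
    {L : X.Modules} (hL : PicF.IsInvertible L) (ha : CohB1.IsAmple ((Scheme.Modules.pullback g).obj L)) :
    ∃ b : B, b ∉ p.asIdeal ∧
      CohB1.IsAmple (L.restrict ((X ↘ Spec (CommRingCat.of B)) ⁻¹ᵁ PrimeSpectrum.basicOpen b).ι) := by
  classical
  let π := X ↘ Spec (CommRingCat.of B)
  haveI : IsLocallyNoetherian X := LocallyOfFiniteType.isLocallyNoetherian π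
  haveI : CompactSpace X := QuasiCompact.compactSpace_of_compactSpace π
  haveI : AlgebraicGeometry.IsNoetherian X := { }
  haveI : X.IsSeparated := ⟨by
    rw [← Limits.terminal.comp_from π]
    infer_instance⟩
  haveI := AmpleX.isSeparated_of_isAmple ha
  haveI : CompactSpace X₁ := ha.2.1
  have hloc : ∀ x₁ : X₁, ∃ (m : ℕ) (_ : 0 < m) (w : Γ(CohB1.tensorPow L m, ⊤)) (b : B),
      b ∉ p.asIdeal ∧ g x₁ ∈ AmpleX.locus w ∧
      ∀ c : B, b ∣ c → IsAffineOpen (π ⁻¹ᵁ PrimeSpectrum.basicOpen c ⊓ AmpleX.locus w) := by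
    intro x₁
    obtain ⟨_, ⟨U, hU, rfl⟩, hxU, -⟩ :=
      X.isBasis_affineOpens.exists_subset_of_mem_open (Set.mem_univ (g x₁)) isOpen_univ
    obtain ⟨m, hm, s, hxs, hle, -⟩ := AmpleX.exists_genLocus_le ha (U := g ⁻¹ᵁ U) (x := x₁) hxU
    obtain ⟨w, hw⟩ := exists_section_loc p sq hL s
    obtain ⟨b, hb, hbz⟩ := exists_avoid p (AmpleX.locus w).isOpen U.isOpen.isClosed_compl fun z hz hzp => by
      obtain ⟨z₁, rfl⟩ := mem_range_of_le p sq hzp
      exact hz.2 (hle (hw ▸ hz.1 : z₁ ∈ CohB1.genLocus _ s))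
    refine ⟨m, hm, w, b, hb, (show x₁ ∈ g ⁻¹ᵁ AmpleX.locus w by rw [hw]; exact hxs), fun c hc => ?_⟩
    have hVa : IsAffineOpen (U ⊓ π ⁻¹ᵁ PrimeSpectrum.basicOpen c) := by
      rw [preimage_basicOpen, inf_comm]
      have := hU.basicOpen (X.presheaf.map (homOfLE (le_top : U ≤ ⊤)).op (Coh.toGlobal π c))
      rwa [Scheme.basicOpen_res, inf_comm] at this
    have h2 := AmpleX.isAffineOpen_inf_locus (InvX.isInvertible_tensorPow hL m) hVa w le_top
    convert h2 using 1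
    refine le_antisymm (fun z hz => ⟨⟨?_, hz.1⟩, hz.2⟩) (fun z hz => ⟨hz.1.2, hz.2⟩)
    by_contra hzU
    obtain ⟨d, rfl⟩ := hc
    have := hz.1
    rw [show PrimeSpectrum.basicOpen (b * d) = _ from PrimeSpectrum.basicOpen_mul b d] at this
    exact hbz z ⟨hz.2, hzU⟩ this.1
  choose m hm w b hb hxw haff using hloc
  obtain ⟨K, hK⟩ := isCompact_univ.elim_finite_subcover
    (fun x₁ => ((g ⁻¹ᵁ AmpleX.locus (w x₁) : X₁.Opens) : Set X₁)) (fun x₁ => (g ⁻¹ᵁ AmpleX.locus (w x₁)).2)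
    fun x₁ _ => Set.mem_iUnion.2 ⟨x₁, hxw x₁⟩
  let G' : Opens X := ⨆ x₁ : K, AmpleX.locus (w x₁.1)
  obtain ⟨b₁, hb₁, hb₁z⟩ := exists_avoid p isOpen_univ G'.isOpen.isClosed_compl fun z hz hzp => by
    obtain ⟨z₁, rfl⟩ := mem_range_of_le p sq hzp
    obtain ⟨x₁, hx₁, hzx⟩ := Set.mem_iUnion₂.1 (hK (Set.mem_univ z₁))
    exact hz.2 (Opens.mem_iSup.2 ⟨⟨x₁, hx₁⟩, hzx⟩)
  let c := b₁ * ∏ x₁ : K, b x₁.1
  refine ⟨c, fun hc => ?_, (AmpleX.isAmple_restrict_iff _ hL).2
    ⟨isCompact_iff_compactSpace.mp (π.isCompact_preimage (PrimeSpectrum.isCompact_basicOpen c)), fun z => ?_⟩⟩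
  · rcases p.isPrime.mem_or_mem hc with h | h
    · exact hb₁ h
    · obtain ⟨x₁, -, h⟩ := p.isPrime.prod_mem_iff.1 h
      exact hb x₁.1 h
  · let D := π ⁻¹ᵁ PrimeSpectrum.basicOpen c
    have hzD : π z.1 ∈ PrimeSpectrum.basicOpen c := z.2
    have hzb : π z.1 ∈ PrimeSpectrum.basicOpen b₁ :=
      (le_of_eq (PrimeSpectrum.basicOpen_mul b₁ _)) hzD |>.1
    obtain ⟨x₁, hzx⟩ : ∃ x₁ : K, z.1 ∈ AmpleX.locus (w x₁.1) :=
      Opens.mem_iSup.1 (by_contra fun hzG => hb₁z z.1 ⟨trivial, hzG⟩ hzb)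
    refine ⟨m x₁.1, hm x₁.1, AModX.res _ le_top (w x₁.1), ?_, ?_⟩
    · rw [AmpleX.locus_res, Scheme.Opens.ι_image_top]
      exact ⟨hzx, z.2⟩
    · rw [AmpleX.locus_res, Scheme.Opens.ι_image_top, inf_comm]
      exact haff x₁.1 c ((Finset.dvd_prod_of_mem (fun x₁ : K => b x₁.1) (Finset.mem_univ x₁)).mul_left b₁)

end Groth.Agent.NormX
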