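import Groth.Agent.GrpdLib.Frame
import Groth.Agent.QCoh.LocFree
import Groth.Agent.AModX.Res
import Groth.Prelude.Def_Fitting

/-!
# Norms for finite locally free morphisms
-/

noncomputable section

universe u

open CategoryTheory AlgebraicGeometry TopologicalSpace Opposite
open Groth.Agent Groth.Agent.GrpdLib Groth.Agent.AModX

set_option backward.isDefEq.respectTransparency false
set_option backward.isDefEq.respectTransparency.types false

namespace Groth.Agent.NormX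

theorem frame_card_eq {A B : Type u} [CommRing A] [CommRing B] [Nontrivial A] {α : A →+* B} {n n' : ℕ}
    (F : Frame α n) (F' : Frame α n') (h : F.mat 1 = 1) (h' : F'.mat 1 = 1) : n = n' := by
  have := Matrix.square_of_invertible (F.trans F' 1) (F'.trans F 1) ((F.mat_eq_mul F' 1).symm.trans h)
    ((F.mul_eq_mat F' 1).trans h')
  simpa using this

theorem frame_norm_algebraMap {A B : Type u} [CommRing A] [CommRing B] {α : A →+* B} {n : ℕ}
    (F : Frame α n) (h : F.mat 1 = 1) (a : A) : F.norm (α a) = a ^ n := by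
  rw [Frame.norm, show α a - 1 = α (a - 1) * 1 by rw [mul_one, map_sub, map_one], F.mat_smul, h]
  rw [show (1 : Matrix (Fin n) (Fin n) A) + (a - 1) • 1 = a • 1 by rw [sub_smul, one_smul]; abel,
    Matrix.det_smul, Matrix.det_one, mul_one, Fintype.card_fin]

variable {X Y : Scheme.{u}} (π : X ⟶ Y) (D : ℕ)

/-- An affine open over which the functions upstairs are free of rank dividing `D`. -/
def Good (U : Y.Opens) : Prop :=
  IsAffineOpen U ∧ ∃ n : ℕ, n ∣ D ∧ ∃ F : Frame (π.app U).hom n, F.mat 1 = 1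

variable {π D}

/-- The norm over a good open. -/
def nrm {U : Y.Opens} (hU : Good π D U) (b : Γ(X, π ⁻¹ᵁ U)) : Γ(Y, U) :=
  hU.2.choose_spec.2.choose.norm b ^ (D / hU.2.choose)

lemma nrm_eq {U : Y.Opens} (hU : Good π D U) {n : ℕ} (F : Frame (π.app U).hom n) (hF : F.mat 1 = 1)
    (b : Γ(X, π ⁻¹ᵁ U)) : nrm hU b = F.norm b ^ (D / n) := by
  rcases subsingleton_or_nontrivial Γ(Y, U) with h | h
  · exact Subsingleton.elim _ _
  · rw [nrm, Frame.norm_eq _ F b, frame_card_eq _ F hU.2.choose_spec.2.choose_spec hF]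

lemma nrm_one {U : Y.Opens} (hU : Good π D U) : nrm hU 1 = 1 := by
  rw [nrm, Frame.norm_one, one_pow]

lemma nrm_mul {U : Y.Opens} (hU : Good π D U) (b b' : Γ(X, π ⁻¹ᵁ U)) :
    nrm hU (b * b') = nrm hU b * nrm hU b' := by
  rw [nrm, nrm, nrm, Frame.norm_mul, mul_pow]

lemma nrm_app {U : Y.Opens} (hU : Good π D U) (a : Γ(Y, U)) : nrm hU (π.app U a) = a ^ D := by
  rw [nrm, frame_norm_algebraMap _ hU.2.choose_spec.2.choose_spec, ← pow_mul,
    Nat.mul_div_cancel' hU.2.choose_spec.1]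

variable [IsAffineHom π]

lemma exists_basic_frame {U : Y.Opens} (hU : IsAffineOpen U) {n : ℕ} (F : Frame (π.app U).hom n)
    (hF : F.mat 1 = 1) (r : Γ(Y, U)) :
    ∃ F' : Frame (π.app (Y.basicOpen r)).hom n, F'.mat 1 = 1 ∧ ∀ b : Γ(X, π ⁻¹ᵁ U),
      F'.norm (resR (π.preimage_mono (Y.basicOpen_le r)) b) = resR (Y.basicOpen_le r) (F.norm b) := by
  have e : π ⁻¹ᵁ Y.basicOpen r = X.basicOpen (π.app U r) := Scheme.preimage_basicOpen π r
  letI : Algebra Γ(Y, U) Γ(Y, Y.basicOpen r) := (resR (Y.basicOpen_le r)).toAlgebra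
  letI : Algebra Γ(X, π ⁻¹ᵁ U) Γ(X, π ⁻¹ᵁ Y.basicOpen r) := (resR (π.preimage_mono (Y.basicOpen_le r))).toAlgebra
  haveI : IsLocalization.Away r Γ(Y, Y.basicOpen r) := hU.isLocalization_basicOpen r
  haveI : IsLocalization ((Submonoid.powers r).map (π.app U).hom) Γ(X, π ⁻¹ᵁ Y.basicOpen r) := by
    rw [Submonoid.map_powers]
    have key : ∀ (W : X.Opens) (_ : W = X.basicOpen (π.app U r)) (hle : W ≤ π ⁻¹ᵁ U),
        @IsLocalization _ _ (Submonoid.powers (π.app U r)) Γ(X, W) _ (resR hle).toAlgebra := by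
      rintro W rfl hle
      exact (hU.preimage π).isLocalization_basicOpen (π.app U r)
    exact key _ e (π.preimage_mono (Y.basicOpen_le r))
  have hpo := CommRingCat.isPushout_of_isLocalization (π.app U).hom (π.app (Y.basicOpen r)).hom
    (RingHom.ext fun a => ConcreteCategory.congr_hom (π.naturality (homOfLE (Y.basicOpen_le r)).op) a)
    (Submonoid.powers r)
  obtain ⟨F', H⟩ := F.exists_isMap (algebraMap Γ(Y, U) Γ(Y, Y.basicOpen r))
    (algebraMap Γ(X, π ⁻¹ᵁ U) Γ(X, π ⁻¹ᵁ Y.basicOpen r)) hpo.flip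
  refine ⟨F', ?_, fun b => H.norm b⟩
  rw [← map_one (algebraMap Γ(X, π ⁻¹ᵁ U) Γ(X, π ⁻¹ᵁ Y.basicOpen r)), H.mat, hF,
    Matrix.map_one _ (map_zero _) (map_one _)]

lemma Good.basic {U : Y.Opens} (hU : Good π D U) (r : Γ(Y, U)) : Good π D (Y.basicOpen r) := by
  obtain ⟨hA, n, hn, F, hF⟩ := hU
  obtain ⟨F', hF', -⟩ := exists_basic_frame hA F hF r
  exact ⟨hA.basicOpen r, n, hn, F', hF'⟩

lemma res_nrm {U : Y.Opens} (hU : Good π D U) (r : Γ(Y, U)) {W : Y.Opens} (hW : Good π D W)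
    (e : W = Y.basicOpen r) (hle : W ≤ U) (b : Γ(X, π ⁻¹ᵁ U)) :
    resR hle (nrm hU b) = nrm hW (resR (π.preimage_mono hle) b) := by
  subst e
  obtain ⟨hA, n, hn, F, hF⟩ := id hU
  obtain ⟨F', hF', hnorm⟩ := exists_basic_frame hA F hF r
  rw [nrm_eq hU F hF, nrm_eq hW F' hF', hnorm, map_pow]

lemma nrm_mem {U : Y.Opens} (hU : Good π D U) (hD : 0 < D) (s : Γ(X, π ⁻¹ᵁ U)) (x : X) (hx : π x ∈ U)
    (h : X.presheaf.germ (π ⁻¹ᵁ U) x hx s ∈ IsLocalRing.maximalIdeal (X.presheaf.stalk x)) :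
    Y.presheaf.germ U (π x) hx (nrm hU s) ∈ IsLocalRing.maximalIdeal (Y.presheaf.stalk (π x)) := by
  obtain ⟨hA, n, hn, F, hF⟩ := id hU
  rw [nrm_eq hU F hF, map_pow]
  refine Ideal.pow_mem_of_mem _ ?_ _ (Nat.div_pos (Nat.le_of_dvd hD hn) ?_)
  swap
  · refine Nat.pos_of_ne_zero fun h0 => ?_
    rw [h0, zero_dvd_iff] at hn
    omega
  let χ : Γ(X, π ⁻¹ᵁ U) →+* X.residueField x :=
    (X.residue x).hom.comp (X.presheaf.germ (π ⁻¹ᵁ U) x hx).hom
  have hχ : χ s = 0 := (IsLocalRing.residue_eq_zero_iff _).2 h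
  have h0 : χ (π.app U (F.norm s)) = 0 := F.norm_eq_zero χ (χ.comp (π.app U).hom) rfl hχ
  by_contra hc
  rw [IsLocalRing.notMem_maximalIdeal] at hc
  have hu := hc.map (π.stalkMap x).hom
  rw [show (π.stalkMap x).hom ((Y.presheaf.germ U (π x) hx) (F.norm s)) =
    X.presheaf.germ (π ⁻¹ᵁ U) x hx (π.app U (F.norm s)) from π.germ_stalkMap_apply U x hx _] at hu
  exact (hu.map (X.residue x).hom).ne_zero h0

theorem exists_norm (hgood : ∀ y : Y, ∃ U, y ∈ U ∧ Good π D U) (hD : 0 < D) : Nrm.HasNorm π D := by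
  classical
  have hsmall : ∀ (U : Y.Opens) (y : Y), y ∈ U → ∃ V, y ∈ V ∧ V ≤ U ∧ Good π D V := fun U y hy => by
    obtain ⟨V, hyV, hV⟩ := hgood y
    obtain ⟨r, hr, hyr⟩ := hV.1.exists_basicOpen_le ⟨y, hy⟩ hyV
    exact ⟨_, hyr, hr, hV.basic r⟩
  have hcommon : ∀ {V V' : Y.Opens} (hV : Good π D V) (hV' : Good π D V') (y : Y), y ∈ V ⊓ V' →
      ∃ (W : Y.Opens) (hW : Good π D W) (h : W ≤ V) (h' : W ≤ V'), y ∈ W ∧
        (∀ b, resR h (nrm hV b) = nrm hW (resR (π.preimage_mono h) b)) ∧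
        ∀ b, resR h' (nrm hV' b) = nrm hW (resR (π.preimage_mono h') b) := fun {V V'} hV hV' y hy => by
    obtain ⟨a, a', e, hya⟩ := exists_basicOpen_le_affine_inter hV.1 hV'.1 y hy
    exact ⟨Y.basicOpen a, hV.basic a, Y.basicOpen_le a, e.le.trans (Y.basicOpen_le a'), hya,
      fun b => res_nrm hV a _ rfl _ b, fun b => res_nrm hV' a' _ e _ b⟩
  have hex : ∀ (U : Y.Opens) (s : Γ(X, π ⁻¹ᵁ U)), ∃! t : Γ(Y, U),
      ∀ (V : Y.Opens) (hV : Good π D V) (h : V ≤ U), resR h t = nrm hV (resR (π.preimage_mono h) s) := by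
    intro U s
    let ι : Type u := {V : Y.Opens // Good π D V ∧ V ≤ U}
    have hs : ∀ V V' : ι, AModX.res (Coh.structureModule Y) inf_le_left (nrm V.2.1 (resR (π.preimage_mono V.2.2) s)) =
        AModX.res (Coh.structureModule Y) (inf_le_right : V.1 ⊓ V'.1 ≤ V'.1)
          (nrm V'.2.1 (resR (π.preimage_mono V'.2.2) s)) := fun V V' => by
      refine AModX.eq_of_locally _ _ fun y hy => ?_
      obtain ⟨W, hW, h, h', hyW, e, e'⟩ := hcommon V.2.1 V'.2.1 y hy
      refine ⟨W, le_inf h h', hyW, ?_⟩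
      rw [AModX.res_res, AModX.res_res]
      show resR h _ = resR h' _
      rw [e, e', resR_resR, resR_resR]
    obtain ⟨t, ht, huniq⟩ := AModX.existsUnique_glue (M := Coh.structureModule Y) (fun V : ι => V.1)
      (fun V => V.2.2) (fun y hy => by
        obtain ⟨V, hyV, hle, hV⟩ := hsmall U y hy
        exact ⟨⟨V, hV, hle⟩, hyV⟩)
      (fun V : ι => nrm V.2.1 (resR (π.preimage_mono V.2.2) s)) hs
    exact ⟨t, fun V hV h => ht ⟨V, hV, h⟩, fun t' ht' => huniq t' fun V => ht' V.1 V.2.1 V.2.2⟩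
  let N : ∀ U : Y.Opens, Γ(X, π ⁻¹ᵁ U) → Γ(Y, U) := fun U s => (hex U s).choose
  have hN : ∀ U s V (hV : Good π D V) (h : V ≤ U), resR h (N U s) = nrm hV (resR (π.preimage_mono h) s) :=
    fun U s => (hex U s).choose_spec.1
  have huniq : ∀ U s t, (∀ V (hV : Good π D V) (h : V ≤ U), resR h t = nrm hV (resR (π.preimage_mono h) s)) →
      t = N U s := fun U s t => (hex U s).choose_spec.2 t
  refine ⟨{
    one_le := hD
    norm := fun U =>
      { toFun := N U
        map_one' := (huniq U 1 1 fun V hV h => by rw [map_one, map_one, nrm_one]).symm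
        map_mul' := fun s s' => (huniq U _ _ fun V hV h => by
          rw [map_mul, map_mul, hN U s V hV h, hN U s' V hV h, nrm_mul]).symm }
    norm_res := fun {U V} i s => ?_
    norm_app := fun U a => ?_
    norm_mem := fun U s x hx h => ?_ }⟩
  · refine huniq V _ _ fun W hW h => ?_
    show resR h (resR i.le (N U s)) = nrm hW (resR (π.preimage_mono h) (resR (π.preimage_mono i.le) s))
    rw [resR_resR, resR_resR, hN]
  · refine (huniq U _ _ fun V hV h => ?_).symm
    rw [map_pow, ← nrm_app hV]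
    exact congrArg _ (ConcreteCategory.congr_hom (π.naturality (homOfLE h).op) a)
  · obtain ⟨V, hyV, hle, hV⟩ := hsmall U (π x) hx
    show Y.presheaf.germ U (π x) hx (N U s) ∈ _
    rw [← Y.presheaf.germ_res_apply (homOfLE hle) (π x) hyV]
    show Y.presheaf.germ V (π x) hyV (resR hle (N U s)) ∈ _
    rw [hN U s V hV hle]
    refine nrm_mem hV hD _ x hyV ?_
    show X.presheaf.germ (π ⁻¹ᵁ V) x hyV (X.presheaf.map (homOfLE (π.preimage_mono hle)).op s) ∈ _
    rw [X.presheaf.germ_res_apply]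
    exact h

/-- Norms without a degree: multiplicative maps compatible with restriction, non-invertibility preserved. -/
structure WNorm (π : X ⟶ Y) where
  /-- The norm over an open. -/
  norm : ∀ U : Y.Opens, Γ(X, π ⁻¹ᵁ U) →* Γ(Y, U)
  norm_res : ∀ {U V : Y.Opens} (i : V ⟶ U) (s : Γ(X, π ⁻¹ᵁ U)),
    Y.presheaf.map i.op (norm U s) = norm V (X.presheaf.map (homOfLE (π.preimage_mono i.le)).op s)
  norm_mem : ∀ (U : Y.Opens) (s : Γ(X, π ⁻¹ᵁ U)) (x : X) (hx : π x ∈ U),
    X.presheaf.germ (π ⁻¹ᵁ U) x hx s ∈ IsLocalRing.maximalIdeal (X.presheaf.stalk x) →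
      Y.presheaf.germ U (π x) hx (norm U s) ∈ IsLocalRing.maximalIdeal (Y.presheaf.stalk (π x))

/-- Forgetting the degree. -/
def WNorm.ofNorm {π : X ⟶ Y} {d : ℕ} (N : Nrm.NormOfDegree π d) : WNorm π where
  norm := N.norm
  norm_res := N.norm_res
  norm_mem := N.norm_mem

/-- An affine open over which the functions upstairs are free. -/
def FreeGood (π : X ⟶ Y) (U : Y.Opens) : Prop :=
  IsAffineOpen U ∧ ∃ n : ℕ, ∃ F : Frame (π.app U).hom n, F.mat 1 = 1

lemma FreeGood.norm_eq {π : X ⟶ Y} {U : Y.Opens} (hU : FreeGood π U) {n : ℕ} (F : Frame (π.app U).hom n)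
    (hF : F.mat 1 = 1) (b : Γ(X, π ⁻¹ᵁ U)) : hU.2.choose_spec.choose.norm b = F.norm b := by
  rcases subsingleton_or_nontrivial Γ(Y, U) with h | h
  · exact Subsingleton.elim _ _
  · exact Frame.norm_eq _ F b

theorem exists_wnorm (hgood : ∀ y : Y, ∃ U, y ∈ U ∧ FreeGood π U) : Nonempty (WNorm π) := by
  classical
  let nr : ∀ {U : Y.Opens}, FreeGood π U → Γ(X, π ⁻¹ᵁ U) → Γ(Y, U) := fun hU b =>
    hU.2.choose_spec.choose.norm b
  have hbas : ∀ {U : Y.Opens}, FreeGood π U → ∀ (r : Γ(Y, U)), FreeGood π (Y.basicOpen r) := by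
    rintro U ⟨hA, n, F, hF⟩ r
    obtain ⟨F', hF', -⟩ := exists_basic_frame hA F hF r
    exact ⟨hA.basicOpen r, n, F', hF'⟩
  have hres : ∀ {U : Y.Opens} (hU : FreeGood π U) (r : Γ(Y, U)) {W : Y.Opens} (hW : FreeGood π W)
      (_ : W = Y.basicOpen r) (hle : W ≤ U) (b : Γ(X, π ⁻¹ᵁ U)),
      resR hle (nr hU b) = nr hW (resR (π.preimage_mono hle) b) := by
    intro U hU r W hW e hle b
    subst e
    obtain ⟨hA, n, F, hF⟩ := id hU
    obtain ⟨F', hF', hnorm⟩ := exists_basic_frame hA F hF r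
    show resR hle (hU.2.choose_spec.choose.norm b) = hW.2.choose_spec.choose.norm _
    rw [hU.norm_eq F hF, hW.norm_eq F' hF', hnorm]
  have hsmall : ∀ (U : Y.Opens) (y : Y), y ∈ U → ∃ V, y ∈ V ∧ V ≤ U ∧ FreeGood π V := fun U y hy => by
    obtain ⟨V, hyV, hV⟩ := hgood y
    obtain ⟨r, hr, hyr⟩ := hV.1.exists_basicOpen_le ⟨y, hy⟩ hyV
    exact ⟨_, hyr, hr, hbas hV r⟩
  have hex : ∀ (U : Y.Opens) (s : Γ(X, π ⁻¹ᵁ U)), ∃! t : Γ(Y, U),
      ∀ (V : Y.Opens) (hV : FreeGood π V) (h : V ≤ U), resR h t = nr hV (resR (π.preimage_mono h) s) := by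
    intro U s
    let ι : Type u := {V : Y.Opens // FreeGood π V ∧ V ≤ U}
    have hs : ∀ V V' : ι, AModX.res (Coh.structureModule Y) inf_le_left (nr V.2.1 (resR (π.preimage_mono V.2.2) s)) =
        AModX.res (Coh.structureModule Y) (inf_le_right : V.1 ⊓ V'.1 ≤ V'.1)
          (nr V'.2.1 (resR (π.preimage_mono V'.2.2) s)) := fun V V' => by
      refine AModX.eq_of_locally _ _ fun y hy => ?_
      obtain ⟨a, a', e, hya⟩ := exists_basicOpen_le_affine_inter V.2.1.1 V'.2.1.1 y hy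
      refine ⟨Y.basicOpen a, le_inf (Y.basicOpen_le a) (e.le.trans (Y.basicOpen_le a')), hya, ?_⟩
      rw [AModX.res_res, AModX.res_res]
      show resR _ _ = resR _ _
      rw [hres V.2.1 a (hbas V.2.1 a) rfl (Y.basicOpen_le a), hres V'.2.1 a' (hbas V.2.1 a) e,
        resR_resR, resR_resR]
    obtain ⟨t, ht, huniq⟩ := AModX.existsUnique_glue (M := Coh.structureModule Y) (fun V : ι => V.1)
      (fun V => V.2.2) (fun y hy => by
        obtain ⟨V, hyV, hle, hV⟩ := hsmall U y hy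
        exact ⟨⟨V, hV, hle⟩, hyV⟩)
      (fun V : ι => nr V.2.1 (resR (π.preimage_mono V.2.2) s)) hs
    exact ⟨t, fun V hV h => ht ⟨V, hV, h⟩, fun t' ht' => huniq t' fun V => ht' V.1 V.2.1 V.2.2⟩
  let N : ∀ U : Y.Opens, Γ(X, π ⁻¹ᵁ U) → Γ(Y, U) := fun U s => (hex U s).choose
  have hN : ∀ U s V (hV : FreeGood π V) (h : V ≤ U), resR h (N U s) = nr hV (resR (π.preimage_mono h) s) :=
    fun U s => (hex U s).choose_spec.1
  have huniq : ∀ U s t, (∀ V (hV : FreeGood π V) (h : V ≤ U), resR h t = nr hV (resR (π.preimage_mono h) s)) →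
      t = N U s := fun U s t => (hex U s).choose_spec.2 t
  refine ⟨{
    norm := fun U =>
      { toFun := N U
        map_one' := (huniq U 1 1 fun V hV h => by rw [map_one, map_one]; exact (Frame.norm_one _).symm).symm
        map_mul' := fun s s' => (huniq U _ _ fun V hV h => by
          rw [map_mul, map_mul, hN U s V hV h, hN U s' V hV h]; exact (Frame.norm_mul _ _ _).symm).symm }
    norm_res := fun {U V} i s => ?_
    norm_mem := fun U s x hx h => ?_ }⟩
  · refine huniq V _ _ fun W hW h => ?_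
    show resR h (resR i.le (N U s)) = nr hW (resR (π.preimage_mono h) (resR (π.preimage_mono i.le) s))
    rw [resR_resR, resR_resR]
    exact hN U s W hW (h.trans i.le)
  · obtain ⟨V, hyV, hle, hV⟩ := hsmall U (π x) hx
    show Y.presheaf.germ U (π x) hx (N U s) ∈ _
    rw [← Y.presheaf.germ_res_apply (homOfLE hle) (π x) hyV]
    show Y.presheaf.germ V (π x) hyV (resR hle (N U s)) ∈ _
    rw [hN U s V hV hle]
    obtain ⟨hA, n, F, hF⟩ := id hV
    have hGood : Good π n V := ⟨hA, n, dvd_rfl, F, hF⟩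
    have hn : 0 < n := by
      refine Nat.pos_of_ne_zero fun h0 => ?_
      subst h0
      have h1 := F.sum_v 1
      rw [Finset.univ_eq_empty, Finset.sum_empty] at h1
      have h2 := congrArg (X.presheaf.germ (π ⁻¹ᵁ V) x hyV) h1
      rw [map_zero, map_one] at h2
      exact zero_ne_one h2
    have hm := nrm_mem hGood hn (resR (π.preimage_mono hle) s) x hyV (by
      show X.presheaf.germ (π ⁻¹ᵁ V) x hyV (X.presheaf.map (homOfLE (π.preimage_mono hle)).op s) ∈ _
      rw [X.presheaf.germ_res_apply]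
      exact h)
    rw [nrm_eq hGood F hF, Nat.div_self hn, pow_one] at hm
    show Y.presheaf.germ V (π x) hyV (hV.2.choose_spec.choose.norm _) ∈ _
    rw [hV.norm_eq F hF]
    exact hm

end Groth.Agent.NormX
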