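import Groth.Agent.NormX.ProperDescent
import Groth.Agent.AmpleX.Coprod

/-!
# Ampleness from finitely many closed subschemes covering a proper scheme
-/

noncomputable section

universe u

open CategoryTheory CategoryTheory.Limits AlgebraicGeometry TopologicalSpace
open Groth.Agent Groth.Agent.H23.PicMul

set_option linter.style.haveILetI false
set_option backward.isDefEq.respectTransparency false
set_option backward.isDefEq.respectTransparency.types false

namespace Groth.Agent.NormX

variable {X : Scheme.{u}} {A : Type u} [CommRing A] (gX : X ⟶ Spec (CommRingCat.of A)) [QuasiCompact gX]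
  {L : X.Modules}

include gX in
theorem isAmple_coprod {W Z : Scheme.{u}} (w : W ⟶ X) (z : Z ⟶ X) [QuasiCompact w] [QuasiCompact z]
    (hw : CohB1.IsAmple ((Scheme.Modules.pullback w).obj L))
    (hz : CohB1.IsAmple ((Scheme.Modules.pullback z).obj L)) :
    CohB1.IsAmple ((Scheme.Modules.pullback (coprod.desc w z)).obj L) := by
  let M := (Scheme.Modules.pullback (coprod.desc w z)).obj L
  have e1 : (Scheme.Modules.pullback (coprod.inl : W ⟶ W ⨿ Z)).obj M ≅ (Scheme.Modules.pullback w).obj L :=
    (Scheme.Modules.pullbackComp _ _).app L ≪≫ (Scheme.Modules.pullbackCongr (coprod.inl_desc w z)).app L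
  have e2 : (Scheme.Modules.pullback (coprod.inr : Z ⟶ W ⨿ Z)).obj M ≅ (Scheme.Modules.pullback z).obj L :=
    (Scheme.Modules.pullbackComp _ _).app L ≪≫ (Scheme.Modules.pullbackCongr (coprod.inr_desc w z)).app L
  have h := (AmpleX.isRelAmple_coprod_iff (w ≫ gX) (z ≫ gX) M).2
    ⟨(AmpleX.isRelAmple_iff_isAmple _ _).2 (AmpleX.isAmple_of_iso e1.symm hw),
      (AmpleX.isRelAmple_iff_isAmple _ _).2 (AmpleX.isAmple_of_iso e2.symm hz)⟩
  haveI := h.1
  exact (AmpleX.isRelAmple_iff_isAmple _ _).1 h

theorem isAmple_of_isEmpty {W : Scheme.{u}} [IsEmpty W] {M : W.Modules} (hM : PicF.IsInvertible M) :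
    CohB1.IsAmple M :=
  ⟨hM, inferInstance, fun x => isEmptyElim x⟩

include gX in
theorem isAmple_of_closed_cover [IsNoetherianRing A] [IsProper gX] (hL : PicF.IsInvertible L) {ι : Type*}
    [Finite ι] (Z : ι → Scheme.{u}) (i : ∀ k, Z k ⟶ X) (hi : ∀ k, IsFinite (i k))
    (hcov : ∀ x : X, ∃ k, x ∈ Set.range (i k)) (h : ∀ k, CohB1.IsAmple ((Scheme.Modules.pullback (i k)).obj L)) :
    CohB1.IsAmple L := by
  classical
  haveI := Fintype.ofFinite ι
  have H : ∀ s : Finset ι, ∃ (W : Scheme.{u}) (w : W ⟶ X), IsFinite w ∧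
      (∀ k ∈ s, Set.range (i k) ⊆ Set.range w) ∧ CohB1.IsAmple ((Scheme.Modules.pullback w).obj L) := by
    intro s
    induction s using Finset.induction_on with
    | empty =>
      refine ⟨∅, Scheme.emptyTo X, inferInstance, fun k hk => absurd hk (Finset.notMem_empty k), ?_⟩
      exact isAmple_of_isEmpty (PicClLib.isInvertible_pullback _ hL)
    | @insert k s _ ih =>
      obtain ⟨W, w, hw, hsub, hA⟩ := ih
      haveI := hw; haveI := hi k
      haveI : IsFinite (coprod.desc w (i k)) := inferInstance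
      refine ⟨W ⨿ Z k, coprod.desc w (i k), inferInstance, fun m hm => ?_, isAmple_coprod gX w (i k) hA (h k)⟩
      rcases Finset.mem_insert.1 hm with rfl | hm
      · rintro _ ⟨z, rfl⟩
        exact ⟨(coprod.inr : Z m ⟶ W ⨿ Z m) z, by rw [← Scheme.Hom.comp_apply, coprod.inr_desc]⟩
      · refine (hsub m hm).trans ?_
        rintro _ ⟨z, rfl⟩
        exact ⟨(coprod.inl : W ⟶ W ⨿ Z k) z, by rw [← Scheme.Hom.comp_apply, coprod.inl_desc]⟩
  obtain ⟨W, w, hw, hsub, hA⟩ := H Finset.univ
  haveI := hw
  haveI : Surjective w := ⟨fun x => by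
    obtain ⟨k, hk⟩ := hcov x
    exact hsub k (Finset.mem_univ k) hk⟩
  exact isAmple_of_finite_surjective gX w hL hA

end Groth.Agent.NormX
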