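import Groth.Agent.NormX.GlueMod
import Groth.Agent.NormX.ImmTwist
import Groth.Agent.NormX.ProperDescent
import Groth.Agent.AlgGlue.RelSystem
import Groth.Agent.AlgGlue.Absolute
import Groth.Agent.AmpleVan.Pull
import Groth.Agent.QCoh.ProperOver2
import Groth.Agent.PnCoh.Chow.Proper

/-!
# Descent of ampleness along a finite surjection which is an isomorphism outside a proper closed set
-/

noncomputable section

universe u

open CategoryTheory CategoryTheory.Limits AlgebraicGeometry TopologicalSpace Opposite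
open Groth.Agent Groth.Agent.H23.PicMul

set_option linter.style.haveILetI false
set_option maxHeartbeats 2000000
set_option linter.unusedSimpArgs false
set_option backward.isDefEq.respectTransparency false
set_option backward.isDefEq.respectTransparency.types false

namespace Groth.Agent.NormX

theorem cl_restrict {X Y : Scheme.{u}} (j : Y ⟶ X) [IsOpenImmersion j] (L : X.Modules) :
    PicF.cl (L.restrict j) = PicF.pullCl j (PicF.cl L) :=
  cl_eq_iff.2 ⟨(Scheme.Modules.restrictFunctorIsoPullback j).app L⟩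

theorem isAmple_projSpace_twist (n : ℕ) (A : Type u) [CommRing A] :
    CohB1.IsAmple (Twist.twistProjSpace n A 1) := by
  classical
  let T := Finset.image (fun j : Fin (n + 1) => (MvPolynomial.X j : MvPolynomial (Fin (n + 1)) A)) Finset.univ
  show CohB1.IsAmple (Twist.twist (CohB1.polyGrading n A) 1)
  refine AmpleX.isAmple_twist_one (CohB1.polyGrading n A) T (fun f hf => ?_) (top_le_iff.1 fun y _ => ?_)
  · obtain ⟨j, -, rfl⟩ := Finset.mem_image.1 hf
    exact ProjPt.X_mem j
  · obtain ⟨j, hj⟩ := ProjUPX.cov_X y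
    exact Opens.mem_iSup.2 ⟨⟨_, Finset.mem_image.2 ⟨j, Finset.mem_univ _, rfl⟩⟩, hj⟩

/-- Ampleness descends along a finite surjection which is an isomorphism outside a closed set proper over the
affine Noetherian base. -/
theorem isAmple_of_iso_outside_proper {A : Type u} [CommRing A] [IsNoetherianRing A] {X M : Scheme.{u}}
    (p : X ⟶ Spec (CommRingCat.of A)) [LocallyOfFiniteType p] [IsSeparated p] [QuasiCompact p]
    (h : M ⟶ X) [IsFinite h] [Surjective h] (W : X.Opens) [IsIso (h ∣_ W)]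
    (hZ : ClSub.IsProperOver p ((W : Set X)ᶜ)) {L : X.Modules} (hL : PicF.IsInvertible L)
    (hA : CohB1.IsAmple ((Scheme.Modules.pullback h).obj L)) : CohB1.IsAmple L := by
  classical
  haveI : CompactSpace X := QuasiCompact.compactSpace_of_compactSpace p
  haveI : CompactSpace M := QuasiCompact.compactSpace_of_compactSpace h
  obtain ⟨n, r, m, hr, hrq, hm, hcl⟩ := AmpleEmbed.exists_immersion_twist (h ≫ p) hA
  haveI := hr
  let t := CohB1.ProjSpace.toSpec n A
  haveI : IsProper t := PnCoh.Chow.isProper_toSpec n A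
  haveI : QuasiCompact (r ≫ t) := by rw [hrq]; infer_instance
  haveI : QuasiCompact r := QuasiCompact.of_comp r t
  let jM := r.toImage
  let qbar := r.imageι ≫ t
  haveI : IsProper qbar := inferInstance
  have hjq : jM ≫ qbar = h ≫ p := by simp only [jM, qbar, Scheme.Hom.toImage_imageι_assoc]; exact hrq
  let O1 := (Scheme.Modules.pullback r.imageι).obj (Twist.twistProjSpace n A 1)
  have hO1 : CohB1.IsAmple O1 := isAmple_pullback_affine _ (isAmple_projSpace_twist n A)
  -- the boundary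
  let T : Set M := ⇑h ⁻¹' ((W : Set X)ᶜ)
  have hjT : ClSub.IsProperOver qbar (⇑jM '' T) :=
    QCoh.IsProperOver.image (p := h ≫ p) hjq (QCoh.IsProperOver.preimage (q := p) rfl hZ) fun {T'} i _ hi => by
      haveI : UniversallyClosed ((i ≫ jM) ≫ qbar) := by rw [Category.assoc, hjq]; infer_instance
      exact UniversallyClosed.of_comp_of_isSeparated (i ≫ jM) qbar
  let UP : r.image.Opens := ⟨(⇑jM '' T)ᶜ, hjT.1.isOpen_compl⟩
  have hmem : ∀ z : M, jM z ∈ UP ↔ h z ∈ W := fun z => by
    show ¬ (jM z ∈ ⇑jM '' T) ↔ _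
    rw [jM.isOpenEmbedding.injective.mem_set_image]
    exact not_not
  let b₀ := inv (h ∣_ W) ≫ (h ⁻¹ᵁ W).ι ≫ jM
  let b : (W : Scheme.{u}) ⟶ UP := IsOpenImmersion.lift UP.ι b₀ (by
    rintro _ ⟨w, rfl⟩
    rw [Scheme.Opens.range_ι]
    exact (hmem _).2 ((inv (h ∣_ W)) w).2)
  have hb : b ≫ UP.ι = b₀ := IsOpenImmersion.lift_fac _ _ _
  haveI : IsOpenImmersion b := by
    haveI : IsOpenImmersion (b ≫ UP.ι) := hb ▸ inferInstance
    exact IsOpenImmersion.of_comp b UP.ι
  let Xb := pushout W.ι b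
  let inl : X ⟶ Xb := pushout.inl W.ι b
  let inr : (UP : Scheme.{u}) ⟶ Xb := pushout.inr W.ι b
  haveI : IsOpenImmersion inl := AlgGlue.isOpenImmersion_pushout_inl' _ _
  haveI : IsOpenImmersion inr := AlgGlue.isOpenImmersion_pushout_inr' _ _
  have hcov : ∀ z : Xb, z ∈ Set.range inl ∨ z ∈ Set.range inr := fun z => by
    obtain ⟨i, x, rfl⟩ := Scheme.IsLocallyDirected.ι_jointly_surjective (span W.ι b) z
    rcases i with _ | _ | _
    · left
      exact ⟨W.ι x, by rw [← Scheme.Hom.comp_apply, ← colimit.w (span W.ι b) WalkingSpan.Hom.fst]; rfl⟩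
    · exact .inl ⟨x, rfl⟩
    · exact .inr ⟨x, rfl⟩
  have hp2 : W.ι ≫ p = b ≫ UP.ι ≫ qbar := by
    rw [reassoc_of% hb]
    simp only [b₀, Category.assoc, hjq]
    rw [← morphismRestrict_ι_assoc, IsIso.inv_hom_id_assoc]
  let pbar : Xb ⟶ Spec (CommRingCat.of A) := pushout.desc p (UP.ι ≫ qbar) hp2
  -- the map from the compactification
  let U := jM.opensRange
  have hUP : U ⊔ UP = ⊤ := top_le_iff.1 fun z _ => by
    by_cases hz : z ∈ UP
    · exact Or.inr hz
    · obtain ⟨y, -, rfl⟩ := not_not.1 hz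
      exact Or.inl ⟨y, rfl⟩
  obtain ⟨c, hcU, hcV⟩ := AlgGlue.exists_glue_two U UP hUP (jM.isoOpensRange.inv ≫ h ≫ inl) inr (by
    let l := r.image.homOfLE (inf_le_left : U ⊓ UP ≤ U) ≫ jM.isoOpensRange.inv
    have hl : l ≫ jM = (U ⊓ UP).ι := by
      simp only [l, Category.assoc, Scheme.Hom.isoOpensRange_inv_comp]
      exact r.image.homOfLE_ι _
    let l' := IsOpenImmersion.lift (h ⁻¹ᵁ W).ι l (by
      rintro _ ⟨z, rfl⟩
      rw [Scheme.Opens.range_ι]
      show h (l z) ∈ W
      rw [← hmem, ← Scheme.Hom.comp_apply, hl]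
      exact z.2.2)
    have hl' : l' ≫ (h ⁻¹ᵁ W).ι = l := IsOpenImmersion.lift_fac _ _ _
    have hwb : (l' ≫ (h ∣_ W)) ≫ b = r.image.homOfLE (inf_le_right : U ⊓ UP ≤ UP) := by
      rw [← cancel_mono UP.ι, Category.assoc, Category.assoc, hb]
      simp only [b₀]
      rw [IsIso.hom_inv_id_assoc, reassoc_of% hl', hl, Scheme.homOfLE_ι]
    show r.image.homOfLE _ ≫ _ = _
    rw [← hwb, Category.assoc (l' ≫ (h ∣_ W)), ← pushout.condition]
    simp only [Category.assoc, morphismRestrict_ι_assoc, reassoc_of% hl', l, inl])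
  have hjc : jM ≫ c = h ≫ inl := by
    conv_lhs => rw [show jM = jM.isoOpensRange.hom ≫ U.ι from (jM.isoOpensRange_hom_ι).symm]
    rw [Category.assoc, hcU, Iso.hom_inv_id_assoc]
  have hpreL : c ⁻¹ᵁ inl.opensRange = jM.opensRange := by
    refine le_antisymm (fun z hz => ?_) fun z hz => ?_
    · rcases hUP.ge (show z ∈ (⊤ : r.image.Opens) from trivial) with hzU | hzV
      · exact hzU
      · obtain ⟨x, hx⟩ := hz
        have h1 : inl x = inr ⟨z, hzV⟩ := hx.trans congr($(hcV) ⟨z, hzV⟩)
        obtain ⟨w, -, hw⟩ := AlgGlue.pushout_overlap _ _ h1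
        refine ⟨(h ⁻¹ᵁ W).ι ((inv (h ∣_ W)) w), ?_⟩
        have h2 := congrArg UP.ι hw
        rw [← Scheme.Hom.comp_apply, hb] at h2
        exact h2
    · obtain ⟨y, rfl⟩ := hz
      exact ⟨h y, by rw [← Scheme.Hom.comp_apply, ← Scheme.Hom.comp_apply, hjc]⟩
  have hpreR : c ⁻¹ᵁ inr.opensRange = UP.ι.opensRange := by
    rw [Scheme.Opens.opensRange_ι]
    refine le_antisymm (fun z hz => ?_) fun z hz => ⟨⟨z, hz⟩, congr($(hcV.symm) ⟨z, hz⟩)⟩
    rcases hUP.ge (show z ∈ (⊤ : r.image.Opens) from trivial) with hzU | hzV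
    · obtain ⟨y, rfl⟩ := hzU
      obtain ⟨v, hv⟩ := hz
      have h1 : inl (h y) = inr v := by
        rw [hv, ← Scheme.Hom.comp_apply, ← Scheme.Hom.comp_apply, hjc]
      obtain ⟨w, hw, -⟩ := AlgGlue.pushout_overlap _ _ h1
      exact (hmem y).2 (hw ▸ w.2)
    · exact hzV
  have hfinL : IsFinite (c ∣_ inl.opensRange) := by
    rw [MorphismProperty.arrow_mk_iso_iff @IsFinite (morphismRestrictOpensRange c inl),
      ← MorphismProperty.cancel_left_of_respectsIso @IsFinite
        (IsOpenImmersion.isPullback h jM inl c hjc.symm.symm hpreL).flip.isoPullback.hom,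
      IsPullback.isoPullback_hom_snd]
    infer_instance
  haveI hisoR : IsIso (c ∣_ inr.opensRange) := by
    have := IsOpenImmersion.isPullback (𝟙 _) UP.ι inr c (hcV.trans (Category.id_comp inr).symm) hpreR
    show MorphismProperty.isomorphisms Scheme.{u} (c ∣_ inr.opensRange)
    rw [MorphismProperty.arrow_mk_iso_iff (MorphismProperty.isomorphisms Scheme.{u})
      (morphismRestrictOpensRange c inr),
      ← MorphismProperty.cancel_left_of_respectsIso (MorphismProperty.isomorphisms Scheme.{u})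
        this.flip.isoPullback.hom, IsPullback.isoPullback_hom_snd]
    show IsIso _
    infer_instance
  have hcov' : ∀ z : Xb, z ∈ inl.opensRange ∨ z ∈ inr.opensRange := hcov
  haveI : IsFinite c := by
    refine IsZariskiLocalAtTarget.of_iSup_eq_top (P := @IsFinite)
      (fun i : Bool => if i then inl.opensRange else inr.opensRange) ?_ fun i => ?_
    · rw [iSup_bool_eq]
      exact top_le_iff.1 fun z _ => hcov' z
    · cases i
      · show IsFinite (c ∣_ inr.opensRange)
        infer_instance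
      · exact hfinL
  haveI : Surjective c := ⟨fun z => by
    rcases hcov z with ⟨x, rfl⟩ | ⟨v, rfl⟩
    · obtain ⟨y, rfl⟩ := h.surjective x
      exact ⟨jM y, by rw [← Scheme.Hom.comp_apply, ← Scheme.Hom.comp_apply, hjc]⟩
    · exact ⟨UP.ι v, congr($(hcV) v)⟩⟩
  have hcp : c ≫ pbar = qbar := by
    let F : ULift.{u} Bool → r.image.Opens := fun i => if i.down then U else UP
    have hF : IsOpenCover F := by
      refine top_le_iff.1 (hUP.ge.trans (sup_le ?_ ?_))
      · exact le_iSup F ⟨true⟩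
      · exact le_iSup F ⟨false⟩
    refine Scheme.Cover.hom_ext (r.image.openCoverOfIsOpenCover F hF) _ _ ?_
    rintro ⟨_ | _⟩
    · show UP.ι ≫ c ≫ pbar = UP.ι ≫ qbar
      rw [reassoc_of% hcV, pushout.inr_desc]
    · show U.ι ≫ c ≫ pbar = U.ι ≫ qbar
      rw [reassoc_of% hcU, pushout.inl_desc, ← Scheme.Hom.isoOpensRange_inv_comp, Category.assoc, hjq]
  haveI : LocallyOfFiniteType pbar := by
    refine IsZariskiLocalAtSource.of_iSup_eq_top (P := @LocallyOfFiniteType)
      (fun i : Bool => if i then inl.opensRange else inr.opensRange) ?_ fun i => ?_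
    · rw [iSup_bool_eq]
      exact top_le_iff.1 fun z _ => hcov' z
    · cases i
      · show LocallyOfFiniteType (inr.opensRange.ι ≫ pbar)
        rw [← Scheme.Hom.isoOpensRange_inv_comp, Category.assoc, pushout.inr_desc]
        infer_instance
      · show LocallyOfFiniteType (inl.opensRange.ι ≫ pbar)
        rw [← Scheme.Hom.isoOpensRange_inv_comp, Category.assoc, pushout.inl_desc]
        infer_instance
  haveI : IsProper pbar := by
    haveI : IsProper (c ≫ pbar) := by rw [hcp]; infer_instance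
    exact QCoh.isProper_of_comp_surjective c pbar
  -- the module
  let iU := inl.isoOpensRange
  let N₁ := (Scheme.Modules.pullback iU.inv).obj (CohB1.tensorPow L m)
  have hN₁ : PicF.IsInvertible N₁ := PicClLib.isInvertible_pullback _ (InvX.isInvertible_tensorPow hL m)
  let k : (c ⁻¹ᵁ inl.opensRange : r.image.Opens).toScheme ⟶ M := IsOpenImmersion.lift jM (c ⁻¹ᵁ inl.opensRange).ι (by
    rw [Scheme.Opens.range_ι, hpreL]; rfl)
  have hk : k ≫ jM = (c ⁻¹ᵁ inl.opensRange).ι := IsOpenImmersion.lift_fac _ _ _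
  have hkh : k ≫ h = (c ∣_ inl.opensRange) ≫ iU.inv := by
    rw [← cancel_mono inl, Category.assoc, Category.assoc, ← hjc, reassoc_of% hk]
    simp only [iU, Scheme.Hom.isoOpensRange_inv_comp, morphismRestrict_ι]
  have hφ : PicF.cl ((Scheme.Modules.pullback (c ∣_ inl.opensRange)).obj N₁) =
      PicF.cl (O1.restrict (c ⁻¹ᵁ inl.opensRange).ι) := by
    show PicF.pullCl (c ∣_ inl.opensRange) (PicF.pullCl iU.inv (PicF.cl (CohB1.tensorPow L m))) = _
    rw [PicClLib.pullCl_comp, ← hkh, ← PicClLib.pullCl_comp, cl_tensorPow, pullCl_pow,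
      show PicF.pullCl h (PicF.cl L) = PicF.cl ((Scheme.Modules.pullback h).obj L) from rfl, ← hcl, cl_restrict,
      show PicF.cl ((Scheme.Modules.pullback r).obj (Twist.twistProjSpace n A 1)) =
        PicF.pullCl r (PicF.cl (Twist.twistProjSpace n A 1)) from rfl,
      show PicF.cl O1 = PicF.pullCl r.imageι (PicF.cl (Twist.twistProjSpace n A 1)) from rfl,
      PicClLib.pullCl_comp, PicClLib.pullCl_comp, ← hk, Category.assoc, Scheme.Hom.toImage_imageι]
  obtain ⟨φ⟩ := cl_eq_iff.1 hφ
  obtain ⟨Lbar, hLbar, ⟨e₁⟩, ⟨e₂⟩⟩ := exists_glue_descent c inl.opensRange inr.opensRange hcov' hN₁ hO1.1 φ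
  have hLA : CohB1.IsAmple Lbar :=
    isAmple_of_finite_surjective pbar c hLbar (AmpleX.isAmple_of_iso e₂.symm hO1)
  have hX := AmpleVan.isAmple_pullback_of_isEmbedding inl inl.isOpenEmbedding.isEmbedding hLA
  have hclX : PicF.cl ((Scheme.Modules.pullback inl).obj Lbar) = PicF.cl (CohB1.tensorPow L m) := by
    show PicF.pullCl inl (PicF.cl Lbar) = _
    conv_lhs => rw [show inl = iU.hom ≫ inl.opensRange.ι from (inl.isoOpensRange_hom_ι).symm]
    rw [← PicClLib.pullCl_comp, ← cl_restrict, cl_eq_iff.2 ⟨e₁⟩]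
    rw [show PicF.cl N₁ = PicF.pullCl iU.inv (PicF.cl (CohB1.tensorPow L m)) from rfl]
    rw [PicClLib.pullCl_comp, Iso.hom_inv_id, PicClLib.pullCl_id]
  obtain ⟨e⟩ := cl_eq_iff.1 hclX
  exact AmpleX.isAmple_of_tensorPow hL hm (AmpleX.isAmple_of_iso e hX)

end Groth.Agent.NormX
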