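import Groth.Agent.AmpleVan.AdicMod
import Groth.Agent.FFun.Main
import Groth.Agent.NormX.RelVanishing
import Groth.Agent.NormX.NormalAmple

/-!
# Ampleness on the closed fibre kills higher cohomology of high twists
-/

noncomputable section

universe u

open CategoryTheory CategoryTheory.Limits AlgebraicGeometry TopologicalSpace Opposite
open Groth.Agent Groth.Agent.H23.PicMul

set_option linter.style.haveILetI false
set_option maxHeartbeats 800000
set_option backward.isDefEq.respectTransparency false
set_option backward.isDefEq.respectTransparency.types false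

namespace Groth.Agent.NormX

variable {A : Type u} [CommRing A] {X : Scheme.{u}} [X.Over (Spec (CommRingCat.of A))]

/-- The adic system of the thickenings of the zero locus of an ideal. -/
def thickSys (J : Ideal A) : AmpleVan.AdicSys A J where
  X k := CohB1.thick (X ↘ Spec (CommRingCat.of A)) J k
  p k := CohB1.thickToBase (X ↘ Spec (CommRingCat.of A)) J k
  i k := CohB1.thickTrans (X ↘ Spec (CommRingCat.of A)) J k
  cart k := by
    refine IsPullback.of_right ?_ ?_ (IsPullback.of_hasPullback _ (CohB1.specQuot J (k + 1)))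
    · rw [CohB1.specQuotTrans_specQuot]
      simpa [CohB1.thickTrans, pullback.map] using
        IsPullback.of_hasPullback (X ↘ Spec (CommRingCat.of A)) (CohB1.specQuot J k)
    · simp [CohB1.thickTrans, pullback.map]

theorem thickTrans_ι (J : Ideal A) (k : ℕ) :
    CohB1.thickTrans (X ↘ Spec (CommRingCat.of A)) J k ≫ CohB1.thickι (X ↘ Spec (CommRingCat.of A)) J (k + 1) =
      CohB1.thickι (X ↘ Spec (CommRingCat.of A)) J k := by
  simp [CohB1.thickTrans, pullback.map]

/-- If the restriction to the closed fibre is ample, the higher cohomology of high twists vanishes. -/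
theorem exists_vanishing_of_closedFibre [IsNoetherianRing A] [IsLocalRing A]
    [IsProper (X ↘ Spec (CommRingCat.of A))] {L M : X.Modules} (hL : PicF.IsInvertible L) (hM : Coh.IsCoh M)
    (ha : CohB1.IsAmple ((Scheme.Modules.pullback
      (CohB1.thickι (X ↘ Spec (CommRingCat.of A)) (IsLocalRing.maximalIdeal A) 0)).obj L)) :
    ∃ n₀, ∀ n, n₀ ≤ n → ∀ q : ℕ,
      Subsingleton (Coh.HH X (CohB1.tensorMod M (CohB1.tensorPow L n)) (q + 1)) := by
  let J := IsLocalRing.maximalIdeal A
  let π := X ↘ Spec (CommRingCat.of A)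
  let S : AmpleVan.AdicSys A J := thickSys (X := X) J
  haveI : CompactSpace X := QuasiCompact.compactSpace_of_compactSpace π
  haveI : IsLocallyNoetherian X := LocallyOfFiniteType.isLocallyNoetherian π
  haveI : AlgebraicGeometry.IsNoetherian X := { }
  have hp : IsProper (S.p 0) := inferInstanceAs (IsProper (pullback.snd π (CohB1.specQuot J 0)))
  let c : ∀ (k : ℕ) (N : X.Modules),
      (Scheme.Modules.pullback (S.i k)).obj ((Scheme.Modules.pullback (CohB1.thickι π J (k + 1))).obj N) ≅
        (Scheme.Modules.pullback (CohB1.thickι π J k)).obj N := fun k N =>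
    (Scheme.Modules.pullbackComp (S.i k) (CohB1.thickι π J (k + 1))).app N ≪≫
      (Scheme.Modules.pullbackCongr (thickTrans_ι J k)).app N
  let F : AmpleVan.AdicMod S :=
    ⟨fun k => (Scheme.Modules.pullback (CohB1.thickι π J k)).obj M,
      fun k => ZClosLib.isCoh_pullback (CohB1.thickι π J k) hM, fun k => c k M,
      fun k => S.isLocallyNoetherian hp k⟩
  obtain ⟨n₀, hn₀⟩ := F.exists_vanishing hp (fun k => (Scheme.Modules.pullback (CohB1.thickι π J k)).obj L)
    (fun k => PicLoc.isInvertible_pullback _ hL) (fun k => ⟨c k L⟩) ha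
  refine ⟨n₀, fun n hn q => ?_⟩
  let N := CohB1.tensorMod M (CohB1.tensorPow L n)
  have hN : Coh.IsCoh N :=
    AmpleVan.isCoh_tensor hM (AmpleVan.isCoh_invertible (InvX.isInvertible_tensorPow hL n))
  have hmod : ∀ k, Subsingleton (Formal.HHmodPow J N (q + 1) k) := fun k => by
    haveI : IsClosedImmersion (CohB1.thickι π J k) :=
      MorphismProperty.pullback_fst π (CohB1.specQuot J k) (AmpleVan.AdicSys.closed_specQuot J k)
    obtain ⟨h, hiso⟩ := AmpleVan.unit_desc_iso (J := J ^ (k + 1))
      (IsPullback.of_hasPullback π (CohB1.specQuot J k)) hN.1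
    haveI := hiso
    let e : Formal.modPow J (k + 1) N ≅ (Scheme.Modules.pushforward (CohB1.thickι π J k)).obj
        ((Scheme.Modules.pullback (CohB1.thickι π J k)).obj N) := asIso (cokernel.desc _ _ h)
    obtain ⟨E⟩ := QCoh.HH_push_of_isAffineHom (CohB1.thickι π J k)
      (QCoh.isQCoh_pullback (CohB1.thickι π J k) hN.1) (q + 1)
    obtain ⟨e₂⟩ : Nonempty ((Scheme.Modules.pullback (CohB1.thickι π J k)).obj N ≅ CohB1.tensorMod (F.F k)
        (CohB1.tensorPow ((Scheme.Modules.pullback (CohB1.thickι π J k)).obj L) n)) := cl_eq_iff.1 (by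
      rw [← PicLoc.pullCl_cl, cl_tensor, cl_tensor, cl_tensorPow, cl_tensorPow, pullCl_mul, pullCl_pow]
      rfl)
    haveI := (hn₀ n hn k q).1
    exact QCoh.subsingleton_HH_of_iso e.symm (q + 1) (@Equiv.subsingleton _ _ E.symm.toEquiv
      (QCoh.subsingleton_HH_of_iso e₂.symm (q + 1) (hn₀ n hn k q).1))
  haveI : Module.Finite A (Coh.HH X N (q + 1)) := S0002.result A X N hN (q + 1)
  have hlim : Subsingleton (Formal.HHlim J N (q + 1)) :=
    ⟨fun x y => Subtype.ext (funext fun k => @Subsingleton.elim _ (hmod k) _ _)⟩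
  have hG := FFun.good_of_finite (X := X) (Z := Set.univ) (fun N hN q => S0002.result A X N hN.1 q) J
  haveI : Subsingleton (AdicCompletion J (Coh.HH X N (q + 1))) :=
    (FFun.compΦ_bijective (p := q + 1) hG (FFun.inCls_univ hN)).1.subsingleton
  exact (AdicCompletion.of_injective J (Coh.HH X N (q + 1))).subsingleton

end Groth.Agent.NormX
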