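import Groth.Agent.NormX.GenericAmple

/-!
# Norms over the open where a finite morphism is locally free
-/

noncomputable section

universe u

open CategoryTheory AlgebraicGeometry TopologicalSpace Opposite
open Groth.Agent Groth.Agent.AModX Groth.Agent.GrpdLib

set_option linter.style.haveILetI false
set_option linter.unusedSectionVars false
set_option backward.isDefEq.respectTransparency false
set_option backward.isDefEq.respectTransparency.types false

namespace Groth.Agent.NormX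

variable {X' X : Scheme.{u}}

/-- A dense open of local freeness with a common degree. -/
structure FreeData (g : X' ⟶ X) where
  /-- The degree. -/
  D : ℕ
  hD : 0 < D
  /-- The open. -/
  F : X.Opens
  dense : Dense (F : Set X)
  good : ∀ y ∈ F, ∃ U : X.Opens, y ∈ U ∧ U ≤ F ∧ Good g D U
  free : ∀ (y : X) (T : X.Opens), y ∈ T →
    FlatMod.IsFinLocFree (((Coh.push g).obj (Coh.structureModule X')).restrict T.ι) → y ∈ F

theorem nonempty_freeData (g : X' ⟶ X) [IsFinite g] [Surjective g] [AlgebraicGeometry.IsNoetherian X]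
    [IsReduced X] : Nonempty (FreeData g) := by
  classical
  let F : Set X := {y | ∃ (V : X.Opens) (n : ℕ), y ∈ V ∧ IsAffineOpen V ∧ 0 < n ∧
    ∃ Fr : Frame (g.app V).hom n, Fr.mat 1 = 1}
  have hmemF : ∀ {U : X.Opens} {n : ℕ}, Nonempty (((Coh.push g).obj (Coh.structureModule X')).restrict U.ι ≅
      FlatMod.freeMod (U : Scheme.{u}) n) → ∀ y ∈ U, y ∈ F := fun {U n} ⟨e⟩ y hy => by
    obtain ⟨_, ⟨V, hV, rfl⟩, hyV, hle⟩ :=
      X.isBasis_affineOpens.exists_subset_of_mem_open (show y ∈ U from hy) U.2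
    obtain ⟨Fr, hFr⟩ := exists_frame_of_restrict g hV hle e
    exact ⟨V, n, hyV, hV, Nat.pos_of_ne_zero (frame_ne_zero g Fr hyV), Fr, hFr⟩
  choose V n hyV hV hn Fr hFr using fun y : F => y.2
  have hFopen : IsOpen F := by
    refine isOpen_iff_forall_mem_open.2 fun y hy => ⟨V ⟨y, hy⟩, fun z hz => ?_, (V _).2, hyV ⟨y, hy⟩⟩
    exact ⟨V ⟨y, hy⟩, n _, hz, hV _, hn _, Fr _, hFr _⟩
  obtain ⟨S, hS⟩ := (NoetherianSpace.isCompact F).elim_finite_subcover (fun y : F => (V y : Set X))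
    (fun y => (V y).2) (fun y hy => Set.mem_iUnion.2 ⟨⟨y, hy⟩, hyV ⟨y, hy⟩⟩)
  refine ⟨⟨∏ y ∈ S, n y, Finset.prod_pos fun y _ => hn y, ⟨F, hFopen⟩, ?_, fun y hy => ?_, fun y T hyT hfree => ?_⟩⟩
  · refine dense_iff_inter_open.2 fun U hU ⟨z, hz⟩ => ?_
    have hirr : IsIrreducible (irreducibleComponent z) := isIrreducible_irreducibleComponent
    let η := hirr.genericPoint
    have hcl : closure {η} = irreducibleComponent z :=
      hirr.closure_genericPoint isClosed_irreducibleComponent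
    have hηU : η ∈ U := by
      refine (specializes_iff_mem_closure.2 ?_ : η ⤳ z).mem_open hU hz
      rw [hcl]
      exact mem_irreducibleComponent
    have hfield := isField_stalk_of_closure_mem_irreducibleComponents X η
      (hcl ▸ irreducibleComponent_mem_irreducibleComponents z)
    letI := hfield.toField
    haveI : Module.Free (X.presheaf.stalk η) (((Coh.push g).obj (Coh.structureModule X')).presheaf.stalk η) :=
      Module.Free.of_divisionRing _ _
    haveI : IsLocallyNoetherian X' := LocallyOfFiniteType.isLocallyNoetherian g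
    obtain ⟨U', n', hη', hn'⟩ := QCoh.exists_free_nhd_of_free_stalk
      (KZ.LFRes.isFP_of_isCoh (QCoh.isCoh_pushforward_finite g QCoh.isCoh_structureModule')) η
    exact ⟨η, hηU, hmemF hn' η hη'⟩
  · obtain ⟨i, hi, hyi⟩ := Set.mem_iUnion₂.1 (hS hy)
    exact ⟨V i, hyi, fun z hz => ⟨V i, n i, hz, hV i, hn i, Fr i, hFr i⟩, hV i, n i,
      Finset.dvd_prod_of_mem _ hi, Fr i, hFr i⟩
  · obtain ⟨U, m, hyU, ⟨e⟩⟩ := hfree ⟨y, hyT⟩
    exact hmemF (nonempty_restrict_free T e) y ⟨⟨y, hyT⟩, hyU, rfl⟩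

namespace FreeData

variable {g : X' ⟶ X} [IsFinite g] [Surjective g] [IsReduced X] (fd : FreeData g)

theorem hdense : ∀ U : X.Opens, U ≠ ⊥ → ∃ V, V ≠ ⊥ ∧ V ≤ U ∧ Good g fd.D V := fun U hU => by
  obtain ⟨z, hzU, hzF⟩ := fd.dense.inter_open_nonempty _ U.2 ((Opens.ne_bot_iff_nonempty U).1 hU)
  obtain ⟨W, hzW, -, hW⟩ := fd.good z hzF
  obtain ⟨r, hr, hzr⟩ := hW.1.exists_basicOpen_le ⟨z, hzU⟩ hzW
  exact ⟨_, (Opens.ne_bot_iff_nonempty _).2 ⟨z, hzr⟩, hr, hW.basic r⟩

theorem hres {U U' : X.Opens} (h : U' ≤ U) {s : Γ(X', g ⁻¹ᵁ U)} {t : Γ(X, U)}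
    (ht : Ext g fd.D U s t) : Ext g fd.D U' (resR (g.preimage_mono h) s) (resR h t) := fun V hV hle => by
  rw [resR_resR, resR_resR]
  exact ht V hV (hle.trans h)

theorem exists_ext {O : X.Opens} (hO : O ≤ fd.F) (s : Γ(X', g ⁻¹ᵁ O)) : ∃ t, Ext g fd.D O s t := by
  classical
  have hl : ∀ y : O, ∃ W : X.Opens, y.1 ∈ W ∧ W ≤ O ∧ Good g fd.D W := fun y => by
    obtain ⟨W, hyW, -, hW⟩ := fd.good y.1 (hO y.2)
    obtain ⟨r, hr, hyr⟩ := hW.1.exists_basicOpen_le ⟨y.1, y.2⟩ hyW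
    exact ⟨_, hyr, hr, hW.basic r⟩
  choose W hyW hWO hW using hl
  obtain ⟨t, ht, -⟩ := AModX.existsUnique_glue (M := Coh.structureModule X) W hWO
    (fun y hy => ⟨⟨y, hy⟩, hyW ⟨y, hy⟩⟩) (fun y => nrm (hW y) (resR (g.preimage_mono (hWO y)) s)) fun i j => by
      refine ext_unique fd.hdense (s := resR (g.preimage_mono (inf_le_left.trans (hWO i))) s) ?_ ?_
      · have := fd.hres (inf_le_left : W i ⊓ W j ≤ W i) (ext_of_good (hW i) (resR (g.preimage_mono (hWO i)) s))
        rw [resR_resR] at this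
        exact this
      · have := fd.hres (inf_le_right : W i ⊓ W j ≤ W j) (ext_of_good (hW j) (resR (g.preimage_mono (hWO j)) s))
        rw [resR_resR] at this
        exact this
  refine ⟨t, fun V hV h => AModX.eq_of_locally (M := Coh.structureModule X) _ _ fun z hz => ?_⟩
  obtain ⟨U, hU, hUV, hUW, hzU, e, e'⟩ := exists_common hV (hW ⟨z, h hz⟩) (show z ∈ V ⊓ W ⟨z, h hz⟩ from ⟨hz, hyW _⟩)
  refine ⟨U, hUV, hzU, ?_⟩
  show resR hUV (resR h t) = resR hUV (nrm hV _)
  rw [e, resR_resR, resR_resR]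
  have h1 := congrArg (resR hUW) (show resR (hWO ⟨z, h hz⟩) t = _ from ht ⟨z, h hz⟩)
  rw [resR_resR, e', resR_resR] at h1
  exact h1

/-- The norm over an open contained in the locus of freeness. -/
def norm (O : X.Opens) (hO : O ≤ fd.F) : Γ(X', g ⁻¹ᵁ O) →* Γ(X, O) where
  toFun s := (fd.exists_ext hO s).choose
  map_one' := ext_unique fd.hdense (fd.exists_ext hO 1).choose_spec fun V hV h => by
    rw [map_one, map_one, nrm_one]
  map_mul' s s' := ext_unique fd.hdense (fd.exists_ext hO (s * s')).choose_spec fun V hV h => by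
    rw [map_mul, map_mul, (fd.exists_ext hO s).choose_spec V hV h, (fd.exists_ext hO s').choose_spec V hV h,
      nrm_mul]

theorem norm_spec {O : X.Opens} (hO : O ≤ fd.F) (s : Γ(X', g ⁻¹ᵁ O)) : Ext g fd.D O s (fd.norm O hO s) :=
  (fd.exists_ext hO s).choose_spec

theorem norm_eq {O : X.Opens} (hO : O ≤ fd.F) {s : Γ(X', g ⁻¹ᵁ O)} {t : Γ(X, O)} (h : Ext g fd.D O s t) :
    fd.norm O hO s = t :=
  ext_unique fd.hdense (fd.norm_spec hO s) h

theorem norm_res {O O' : X.Opens} (hO : O ≤ fd.F) (h : O' ≤ O) (s : Γ(X', g ⁻¹ᵁ O)) :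
    resR h (fd.norm O hO s) = fd.norm O' (h.trans hO) (resR (g.preimage_mono h) s) :=
  (fd.norm_eq _ (fd.hres h (fd.norm_spec hO s))).symm

theorem norm_good {V : X.Opens} (hV : Good g fd.D V) (hVF : V ≤ fd.F) (s : Γ(X', g ⁻¹ᵁ V)) :
    fd.norm V hVF s = nrm hV s :=
  fd.norm_eq hVF (ext_of_good hV s)

theorem norm_app {O : X.Opens} (hO : O ≤ fd.F) (a : Γ(X, O)) : fd.norm O hO (g.app O a) = a ^ fd.D :=
  fd.norm_eq hO fun V hV h => by
    rw [map_pow, ← nrm_app hV]
    exact congrArg _ (ConcreteCategory.congr_hom (g.naturality (homOfLE h).op) a)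

end FreeData

end Groth.Agent.NormX
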