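import Groth.Agent.NormX.FinFlat
import Groth.Agent.NormX.GenericAmple

/-!
# Freeness of direct images under finite morphisms passes to base changes
-/

noncomputable section

universe u

open CategoryTheory CategoryTheory.Limits AlgebraicGeometry TopologicalSpace Opposite
open Groth.Agent Groth.Agent.AModX

set_option linter.style.haveILetI false
set_option backward.isDefEq.respectTransparency false
set_option backward.isDefEq.respectTransparency.types false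

namespace Groth.Agent.NormX

theorem isFinLocFree_restrict {Y : Scheme.{u}} {M : Y.Modules} (T : Y.Opens) {n : ℕ}
    (e : M.restrict T.ι ≅ FlatMod.freeMod (T : Scheme.{u}) n) : FlatMod.IsFinLocFree (M.restrict T.ι) :=
  fun _ => ⟨⊤, n, trivial, ⟨(Scheme.Modules.restrictFunctor _).mapIso e ≪≫ QCoh.freeModRestrict _ n⟩⟩

/-- If the direct image is free near the image of `x₀`, so is that of the base change near `x₀`. -/
theorem exists_free_nhd_baseChange {X' X X₀ X'₀ : Scheme.{u}} {g : X' ⟶ X} [IsFinite g] {i : X₀ ⟶ X}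
    [IsLocallyNoetherian X₀] {g₀ : X'₀ ⟶ X₀} {i' : X'₀ ⟶ X'} (sq : IsPullback i' g₀ g i)
    {U : X.Opens} {n : ℕ}
    (e : ((Coh.push g).obj (Coh.structureModule X')).restrict U.ι ≅ FlatMod.freeMod (U : Scheme.{u}) n)
    {x₀ : X₀} (hx : i x₀ ∈ U) :
    ∃ T : X₀.Opens, x₀ ∈ T ∧
      FlatMod.IsFinLocFree (((Coh.push g₀).obj (Coh.structureModule X'₀)).restrict T.ι) := by
  haveI : IsFinite g₀ := MorphismProperty.of_isPullback sq ‹_›
  obtain ⟨V, hV, hxV, hle⟩ : ∃ V : X.Opens, IsAffineOpen V ∧ i x₀ ∈ V ∧ V ≤ U := by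
    obtain ⟨_, ⟨V, hV, rfl⟩, hxV, hle⟩ := X.isBasis_affineOpens.exists_subset_of_mem_open (show i x₀ ∈ U from hx) U.2
    exact ⟨V, hV, hxV, hle⟩
  haveI : IsAffine V.toScheme := hV
  haveI : IsAffine (g ⁻¹ᵁ V).toScheme := hV.preimage g
  haveI : Flat (g ∣_ V) := by
    rw [HasRingHomProperty.iff_of_isAffine (P := @Flat),
      show (g ∣_ V).appTop = _ from morphismRestrict_app g V ⊤, CommRingCat.hom_comp, RingHom.Flat.respectsIso.cancel_right_isIso]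
    have hV₁ : IsAffineOpen (V.ι ''ᵁ (⊤ : V.toScheme.Opens)) := by rwa [Scheme.Opens.ι_image_top]
    obtain ⟨l⟩ := QCoh.free_sections hV₁ (by rw [Scheme.Opens.ι_image_top]; exact hle) e
    let V₁ := V.ι ''ᵁ (⊤ : V.toScheme.Opens)
    letI : Algebra Γ(X, V₁) Γ(X', g ⁻¹ᵁ V₁) := (g.app V₁).hom.toAlgebra
    let l' : Γ(X', g ⁻¹ᵁ V₁) ≃ₗ[Γ(X, V₁)] (ULift.{u} (Fin n) →₀ Γ(X, V₁)) :=
      { l.toAddEquiv with map_smul' := fun a x => l.map_smul a x }
    haveI : Module.Free Γ(X, V₁) Γ(X', g ⁻¹ᵁ V₁) := Module.Free.of_equiv l'.symm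
    exact (inferInstance : Module.Flat Γ(X, V₁) Γ(X', g ⁻¹ᵁ V₁))
  obtain ⟨W, hW, hxW, hWV⟩ : ∃ W : X₀.Opens, IsAffineOpen W ∧ x₀ ∈ W ∧ W ≤ i ⁻¹ᵁ V := by
    obtain ⟨_, ⟨W, hW, rfl⟩, hxW, hle⟩ := X₀.isBasis_affineOpens.exists_subset_of_mem_open
      (show x₀ ∈ i ⁻¹ᵁ V from hxV) (i ⁻¹ᵁ V).2
    exact ⟨W, hW, hxW, hle⟩
  let iV : (W : Scheme.{u}) ⟶ V := IsOpenImmersion.lift V.ι (W.ι ≫ i) (by
    rintro _ ⟨w, rfl⟩
    rw [Scheme.Opens.range_ι]
    exact hWV w.2)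
  have hiV : iV ≫ V.ι = W.ι ≫ i := IsOpenImmersion.lift_fac _ _ _
  have hsq : IsPullback ((g₀ ∣_ W)) (pullback.lift ((g₀ ⁻¹ᵁ W).ι ≫ i') ((g₀ ∣_ W) ≫ iV) (by
      rw [Category.assoc, Category.assoc, hiV, sq.w, morphismRestrict_ι_assoc]) : _ ⟶ pullback g V.ι)
      iV (pullback.snd g V.ι) := by
    refine IsPullback.flip (IsPullback.of_right ?_ (pullback.lift_snd _ _ _) (IsPullback.of_hasPullback g V.ι))
    rw [pullback.lift_fst, hiV]
    exact (isPullback_morphismRestrict g₀ W).flip.paste_horiz sq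
  haveI : Flat (pullback.snd g V.ι) := by
    rw [← pullbackRestrictIsoRestrict_hom_morphismRestrict]
    infer_instance
  haveI hflat : Flat (g₀ ∣_ W) := MorphismProperty.of_isPullback hsq.flip ‹Flat (pullback.snd g V.ι)›
  haveI : IsAffine W.toScheme := hW
  haveI : IsAffine (g₀ ⁻¹ᵁ W).toScheme := hW.preimage g₀
  rw [HasRingHomProperty.iff_of_isAffine (P := @Flat),
    show (g₀ ∣_ W).appTop = _ from morphismRestrict_app g₀ W ⊤, CommRingCat.hom_comp, RingHom.Flat.respectsIso.cancel_right_isIso] at hflat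
  let W₁ := W.ι ''ᵁ (⊤ : W.toScheme.Opens)
  have hW₁ : IsAffineOpen W₁ := by simpa [W₁] using hW
  have hyW₁ : x₀ ∈ W₁ := by simpa [W₁] using hxW
  let M := (Coh.push g₀).obj (Coh.structureModule X'₀)
  letI : Algebra Γ(X₀, W₁) Γ(X'₀, g₀ ⁻¹ᵁ W₁) := (g₀.app W₁).hom.toAlgebra
  haveI : IsNoetherianRing Γ(X₀, W₁) := IsLocallyNoetherian.component_noetherian ⟨W₁, hW₁⟩
  haveI hfin : Module.Finite Γ(X₀, W₁) Γ(X'₀, g₀ ⁻¹ᵁ W₁) := g₀.finite_app _ hW₁
  haveI : Module.Flat Γ(X₀, W₁) Γ(X'₀, g₀ ⁻¹ᵁ W₁) := hflat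
  haveI := Module.finitePresentation_of_finite Γ(X₀, W₁) Γ(X'₀, g₀ ⁻¹ᵁ W₁)
  let p := hW₁.primeIdealOf ⟨x₀, hyW₁⟩
  let m := LocalizedModule.mkLinearMap p.asIdeal.primeCompl Γ(X'₀, g₀ ⁻¹ᵁ W₁)
  haveI : Module.Finite (Localization.AtPrime p.asIdeal)
      (LocalizedModule p.asIdeal.primeCompl Γ(X'₀, g₀ ⁻¹ᵁ W₁)) :=
    Module.Finite.of_isLocalizedModule p.asIdeal.primeCompl m
  haveI : Module.Free (Localization.AtPrime p.asIdeal)
      (LocalizedModule p.asIdeal.primeCompl Γ(X'₀, g₀ ⁻¹ᵁ W₁)) := Module.free_of_flat_of_isLocalRing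
  obtain ⟨r, hr, hfree, -⟩ := Module.FinitePresentation.exists_free_localizedModule_powers
    p.asIdeal.primeCompl m (Localization.AtPrime p.asIdeal)
  have hM : Coh.IsQCoh M := QCoh.isQCoh_pushforward g₀ QCoh.isQCoh_structureModule
  haveI : Module.Finite Γ(X₀, W₁) Γ(M, W₁) := hfin
  obtain ⟨k, ⟨e'⟩⟩ := QCoh.exists_free_nhd hM hW₁ r hfree
  exact ⟨X₀.basicOpen r, (QCoh.mem_basicOpen_iff_notMem hW₁ hyW₁ r).2 hr, isFinLocFree_restrict _ e'⟩

end Groth.Agent.NormX
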