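import Groth.Agent.NormX.Char
import Mathlib.RingTheory.Polynomial.IsIntegral
import Mathlib.RingTheory.IntegralClosure.IsIntegralClosure.Basic

/-!
# Equations for norms with coefficients in an ideal
-/

noncomputable section

universe u

open Polynomial Matrix
open Groth.Agent Groth.Agent.GrpdLib

set_option linter.style.haveILetI false
set_option backward.isDefEq.respectTransparency false
set_option backward.isDefEq.respectTransparency.types false

namespace Groth.Agent.NormX

variable {A : Type u} [CommRing A]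

/-- A monic polynomial which is a monomial modulo `I`. -/
def LowerIn (I : Ideal A) (Q : A[X]) : Prop :=
  Q.Monic ∧ Q.map (Ideal.Quotient.mk I) = X ^ Q.natDegree

theorem lowerIn_top {Q : A[X]} (h : Q.Monic) : LowerIn (⊤ : Ideal A) Q :=
  ⟨h, haveI : Subsingleton (A ⧸ (⊤ : Ideal A)) := Ideal.Quotient.subsingleton_iff.2 rfl
    Subsingleton.elim _ _⟩

theorem lowerIn_of_coeff {I : Ideal A} {Q : A[X]} (h : Q.Monic) (hc : ∀ j < Q.natDegree, Q.coeff j ∈ I) :
    LowerIn I Q := by
  refine ⟨h, Polynomial.ext fun j => ?_⟩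
  rw [coeff_map, coeff_X_pow]
  rcases lt_trichotomy j Q.natDegree with hj | hj | hj
  · rw [if_neg hj.ne, Ideal.Quotient.eq_zero_iff_mem]
    exact hc j hj
  · rw [if_pos hj, hj, h.coeff_natDegree, map_one]
  · rw [if_neg hj.ne', coeff_eq_zero_of_natDegree_lt hj, map_zero]

theorem LowerIn.prod {I : Ideal A} {ι : Type*} (s : Finset ι) (Q : ι → A[X]) (h : ∀ i ∈ s, LowerIn I (Q i)) :
    LowerIn I (∏ i ∈ s, Q i) := by
  refine ⟨monic_prod_of_monic s Q fun i hi => (h i hi).1, ?_⟩
  rw [Polynomial.map_prod, Finset.prod_congr rfl fun i hi => (h i hi).2, Finset.prod_pow_eq_pow_sum,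
    natDegree_prod_of_monic _ _ fun i hi => (h i hi).1]

theorem LowerIn.pow_mem {I : Ideal A} {Q : A[X]} (h : LowerIn I Q) {B : Type u} [CommRing B] (φ : A →+* B)
    {t : B} (ht : Q.eval₂ φ t = 0) : t ^ Q.natDegree ∈ I.map φ := by
  rw [← Ideal.Quotient.eq_zero_iff_mem, map_pow]
  let ψ : A ⧸ I →+* B ⧸ I.map φ := Ideal.quotientMap _ φ Ideal.le_comap_map
  have h1 := congrArg (Ideal.Quotient.mk (I.map φ)) ht
  rw [map_zero, hom_eval₂, show (Ideal.Quotient.mk (I.map φ)).comp φ = ψ.comp (Ideal.Quotient.mk I) from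
    RingHom.ext fun a => (Ideal.quotientMap_mk (H := Ideal.le_comap_map)).symm, ← eval₂_map, h.2, eval₂_pow, eval₂_X] at h1
  exact h1

variable {A' B B' : Type u} [CommRing A'] [CommRing B] [CommRing B'] [Algebra A A']
  (φ : A →+* B) (β : B →+* B') {α' : A' →+* B'} {n : ℕ}

/-- Norms of elements integral over an ideal are integral over that ideal. -/
theorem exists_lowerIn_norm (hαβ : α'.comp (algebraMap A A') = β.comp φ) (F : Frame α' n) (hF : F.mat 1 = 1)
    (hn : 0 < n) (I : Ideal A) (b : B) {q : A[X]} (hq : LowerIn I q) (hqb : q.eval₂ φ b = 0) {e : ℕ}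
    (he : 0 < e) : ∃ Q : A[X], LowerIn I Q ∧ Q.eval₂ (algebraMap A A') (F.norm (β b) ^ e) = 0 := by
  classical
  rcases subsingleton_or_nontrivial A' with hA | hA
  · exact ⟨1, ⟨monic_one, by simp⟩, Subsingleton.elim _ _⟩
  wlog hk : 0 < q.natDegree generalizing q with hrec
  · have hX : LowerIn I (X : A[X]) := by
      haveI := (algebraMap A A').domain_nontrivial
      exact ⟨monic_X, by rw [Polynomial.map_X, natDegree_X, pow_one]⟩
    haveI := (algebraMap A A').domain_nontrivial
    refine @hrec (q * X) ?_ (by rw [eval₂_mul, hqb, zero_mul]) ?_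
    · have := LowerIn.prod (I := I) Finset.univ (fun i : Bool => if i then q else X) (fun i _ => by
        cases i <;> simp [hq, hX])
      simpa [mul_comm] using this
    · rw [natDegree_mul_X hq.1.ne_zero]; exact Nat.succ_pos _
  let M := F.mat (β b)
  have hM : aeval M (q.map (algebraMap A A')) = 0 := by
    rw [frame_eval₂_mat F hF, eval₂_map, hαβ, ← hom_eval₂, hqb, map_zero, F.mat_zero]
  have hd : M.charpoly ∣ (q.map (algebraMap A A')) ^ n := charpoly_dvd_pow _ _ hM
  obtain ⟨T, _, _, _, _, _, hT⟩ := M.charpoly_monic.exists_splits_map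
  algebraize [(algebraMap A' T).comp (algebraMap A A')]
  obtain ⟨m, hm⟩ := Polynomial.splits_iff_exists_multiset.mp hT
  rw [(M.charpoly_monic.map _).leadingCoeff, map_one, one_mul] at hm
  have hroot : ∀ x ∈ m, aeval x q = 0 ∨ (aeval x q) ^ n = 0 := fun x hx => Or.inr <| by
    obtain ⟨c, hc⟩ := Polynomial.map_dvd (algebraMap A' T) hd
    have h0 : eval x (M.charpoly.map (algebraMap A' T)) = 0 := by
      rw [hm, eval_multiset_prod, Multiset.prod_eq_zero]
      exact Multiset.mem_map.2 ⟨X - C x, Multiset.mem_map.2 ⟨x, hx, rfl⟩, by simp⟩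
    have := congrArg (eval x) hc
    rw [eval_mul, h0, zero_mul, Polynomial.map_pow, eval_pow, Polynomial.map_map, eval_map] at this
    exact this
  let qn := q ^ n
  have hqn : LowerIn I qn := by
    have := LowerIn.prod (I := I) (Finset.range n) (fun _ => q) fun _ _ => hq
    simpa [qn] using this
  have hroot' : ∀ x ∈ m, aeval x qn = 0 := fun x hx => by
    rcases hroot x hx with h | h
    · rw [map_pow, h, zero_pow hn.ne']
    · rwa [map_pow]
  let S := Algebra.adjoin A (m.toFinset : Set T)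
  haveI : Module.Finite A S := Module.Finite.iff_fg.2 (fg_adjoin_of_finite (Finset.finite_toSet _) fun x hx =>
    ⟨qn, hqn.1, by simpa [aeval_def] using hroot' x (Multiset.mem_toFinset.1 hx)⟩)
  have hmS : ∀ x ∈ m, x ∈ S := fun x hx => Algebra.subset_adjoin (Multiset.mem_toFinset.2 hx)
  let y : S := (-1) ^ (n * e) * (-1) ^ (Multiset.card m * e) *
    (⟨m.prod, Subalgebra.multiset_prod_mem S hmS⟩ : S) ^ e
  have hy : algebraMap A' T (F.norm (β b) ^ e) = (y : T) := by
    have h0 : algebraMap A' T (M.charpoly.coeff 0) = (-1) ^ Multiset.card m * m.prod := by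
      rw [← coeff_map, hm, coeff_zero_eq_eval_zero, eval_multiset_prod, Multiset.map_map,
        ← Multiset.prod_map_neg]
      congr 1
      exact Multiset.map_congr rfl fun x _ => by simp
    rw [map_pow, frame_norm_eq_det F hF, Matrix.det_eq_sign_charpoly_coeff, map_mul, h0, map_pow, map_neg,
      map_one, Fintype.card_fin]
    simp only [y, MulMemClass.coe_mul, SubmonoidClass.coe_pow, NegMemClass.coe_neg, OneMemClass.coe_one]
    ring
  obtain ⟨x₀, hx₀⟩ : ∃ x, x ∈ m := by
    refine Multiset.exists_mem_of_ne_zero fun h => ?_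
    have := congrArg natDegree hm
    rw [h, Multiset.map_zero, Multiset.prod_zero, natDegree_one, M.charpoly_monic.natDegree_map,
      charpoly_natDegree_eq_dim, Fintype.card_fin] at this
    omega
  let k := qn.natDegree
  have hk' : 0 < k := by
    show 0 < (q ^ n).natDegree
    rw [hq.1.natDegree_pow]
    exact Nat.mul_pos hn hk
  have hxI : (⟨x₀, hmS x₀ hx₀⟩ : S) ^ k ∈ I.map (algebraMap A S) := by
    refine hqn.pow_mem (algebraMap A S) (Subtype.ext ?_)
    rw [ZeroMemClass.coe_zero, ← hroot' x₀ hx₀, aeval_def]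
    exact hom_eval₂ qn (algebraMap A S) S.val.toRingHom _
  have hyI : y ^ k ∈ I.map (algebraMap A S) := by
    refine Ideal.mem_of_dvd _ (pow_dvd_pow_of_dvd (Dvd.dvd.mul_left ?_ _) k) hxI
    refine dvd_pow ?_ he.ne'
    obtain ⟨m', rfl⟩ := Multiset.exists_cons_of_mem hx₀
    exact ⟨⟨m'.prod, Subalgebra.multiset_prod_mem S fun x hx => hmS x (Multiset.mem_cons_of_mem hx)⟩,
      Subtype.ext (Multiset.prod_cons _ _)⟩
  have hrange : LinearMap.range (Algebra.lmul A S (y ^ k)) ≤ I • (⊤ : Submodule A S) := by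
    rintro _ ⟨x, rfl⟩
    rw [Ideal.smul_top_eq_map]
    exact Ideal.mul_mem_right x _ hyI
  obtain ⟨Q, hQ, -, hco, hQ0⟩ :=
    LinearMap.exists_monic_and_natDegree_eq_and_coeff_mem_pow_and_aeval_eq_zero A _ I hrange
  have hQI : LowerIn I Q := lowerIn_of_coeff hQ fun j hj => Ideal.pow_le_self (by omega) (hco j)
  rw [aeval_algHom_apply] at hQ0
  have hQy : aeval (y ^ k) Q = 0 := by
    have := LinearMap.congr_fun hQ0 1
    simpa [Algebra.coe_lmul_eq_mul, LinearMap.mul_apply'] using this
  haveI := (algebraMap A A').domain_nontrivial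
  refine ⟨Q.comp (X ^ k), ⟨hQ.comp (monic_X_pow k) (by rw [natDegree_X_pow]; omega), ?_⟩, ?_⟩
  · rw [map_comp, Polynomial.map_pow, map_X, hQI.2, pow_comp, X_comp, ← pow_mul, natDegree_comp_eq_of_mul_ne_zero (by rw [hQ.leadingCoeff, (monic_X_pow k).leadingCoeff, one_pow, one_mul]; exact one_ne_zero),
      natDegree_X_pow, mul_comm]
  · rw [eval₂_comp, eval₂_X_pow]
    refine FaithfulSMul.algebraMap_injective A' T ?_
    rw [map_zero, hom_eval₂, map_pow, hy]
    have := congrArg (S.val) hQy
    rw [map_zero, ← aeval_algHom_apply, aeval_def] at this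
    exact this

end Groth.Agent.NormX
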