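import Groth.Agent.NormX.FreeNorm
import Groth.Agent.NormX.IntNorm
import Groth.Agent.AlgGlue.Basic

/-!
# The finite birational model generated by norms
-/

noncomputable section

universe u

open CategoryTheory AlgebraicGeometry TopologicalSpace Opposite
open Groth.Agent Groth.Agent.AModX Groth.Agent.GrpdLib

set_option linter.style.haveILetI false
set_option linter.unusedSectionVars false
set_option maxHeartbeats 800000
set_option backward.isDefEq.respectTransparency false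
set_option backward.isDefEq.respectTransparency.types false

namespace Groth.Agent.NormX.FreeData

variable {X' X : Scheme.{u}} {g : X' ⟶ X} [IsFinite g] [Surjective g] [IsReduced X]
  [AlgebraicGeometry.IsNoetherian X] (fd : FreeData g)

/-- The part of an open where the morphism is free. -/
abbrev pre (O : X.Opens) : X.Opens := fd.F.ι ''ᵁ (fd.F.ι ⁻¹ᵁ O)

theorem pre_eq (O : X.Opens) : fd.pre O = fd.F ⊓ O := by
  rw [pre, Scheme.Hom.image_preimage_eq_opensRange_inf, Scheme.Opens.opensRange_ι]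

theorem pre_le (O : X.Opens) : fd.pre O ≤ O := (fd.pre_eq O).le.trans inf_le_right

theorem pre_le_F (O : X.Opens) : fd.pre O ≤ fd.F := (fd.pre_eq O).le.trans inf_le_left

theorem mem_pre {O : X.Opens} {z : X} (hF : z ∈ fd.F) (hO : z ∈ O) : z ∈ fd.pre O :=
  (fd.pre_eq O).ge ⟨hF, hO⟩

theorem pre_mono {O O' : X.Opens} (h : O' ≤ O) : fd.pre O' ≤ fd.pre O := by
  rw [pre_eq, pre_eq]; exact inf_le_inf_left _ h

/-- Functions are determined on the free locus. -/
theorem eq_zero_of_res {O : X.Opens} {a : Γ(X, O)} (h : resR (fd.pre_le O) a = 0) : a = 0 := by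
  by_contra hne
  obtain ⟨z, hzF, hz⟩ := fd.dense.exists_mem_open (X.basicOpen a).2
    ((Opens.ne_bot_iff_nonempty _).1 (mt (basicOpen_eq_bot_iff a).1 hne))
  have h1 : z ∈ X.basicOpen (resR (fd.pre_le O) a) := by
    rw [show resR (fd.pre_le O) a = X.presheaf.map (homOfLE (fd.pre_le O)).op a from rfl, Scheme.basicOpen_res]
    exact ⟨fd.mem_pre hzF (X.basicOpen_le a hz), hz⟩
  rw [h, Scheme.basicOpen_zero] at h1
  exact h1

/-- The norm as a section of the direct image from the free locus. -/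
def nm (O : X.Opens) (b : Γ(X', g ⁻¹ᵁ O)) : Γ(AlgGlue.push fd.F.ι, O) :=
  fd.norm (fd.pre O) (fd.pre_le_F O) (resR (g.preimage_mono (fd.pre_le O)) b)

theorem rs_nm {O O' : X.Opens} (h : O' ≤ O) (b : Γ(X', g ⁻¹ᵁ O)) :
    QCoh.rs (AlgGlue.push fd.F.ι) h (fd.nm O b) = fd.nm O' (resR (g.preimage_mono h) b) := by
  show resR (fd.pre_mono h) (fd.norm _ _ _) = fd.norm _ _ _
  rw [fd.norm_res, resR_resR, resR_resR]

theorem nm_mul (O : X.Opens) (b b' : Γ(X', g ⁻¹ᵁ O)) :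
    fd.nm O (b * b') = (show Γ(X, fd.pre O) from fd.nm O b) * (show Γ(X, fd.pre O) from fd.nm O b') := by
  show fd.norm _ _ _ = _
  rw [map_mul, map_mul]
  rfl

theorem nm_app (O : X.Opens) (a : Γ(X, O)) : fd.nm O (g.app O a) = resR (fd.pre_le O) a ^ fd.D := by
  show fd.norm _ _ _ = _
  rw [← fd.norm_app (fd.pre_le_F O)]
  exact congrArg _ (ConcreteCategory.congr_hom (g.naturality (homOfLE (fd.pre_le O)).op) a).symm

theorem nm_smul (O : X.Opens) (a : Γ(X, O)) (b : Γ(X', g ⁻¹ᵁ O)) :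
    fd.nm O (g.app O a * b) = a ^ fd.D • fd.nm O b := by
  rw [nm_mul, nm_app]
  show _ = (show Γ(X, fd.pre O) from fd.F.ι.app O (a ^ fd.D)) * (show Γ(X, fd.pre O) from fd.nm O b)
  rw [Scheme.Opens.ι_app, map_pow]
  rfl

/-- The span of the norms over an open. -/
abbrev nspan (O : X.Opens) : Submodule Γ(X, O) Γ(AlgGlue.push fd.F.ι, O) :=
  Submodule.span Γ(X, O) (Set.range (fd.nm O))

theorem rs_mem_nspan {O O' : X.Opens} (h : O' ≤ O) {s : Γ(AlgGlue.push fd.F.ι, O)} (hs : s ∈ fd.nspan O) :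
    QCoh.rs _ h s ∈ fd.nspan O' := by
  refine Submodule.span_mono ?_ (QCoh.rs_mem_span h hs)
  rintro _ ⟨_, ⟨b, rfl⟩, rfl⟩
  exact ⟨_, (fd.rs_nm h b).symm⟩

/-- The submodule generated by the norms. -/
def nsub : QCoh.SubMod (AlgGlue.push fd.F.ι) where
  mem O :=
    { carrier := {s | ∀ x ∈ O, ∃ (V : X.Opens) (h : V ≤ O), x ∈ V ∧ QCoh.rs _ h s ∈ fd.nspan V}
      zero_mem' := fun x hx => ⟨O, le_rfl, hx, by rw [QCoh.rs, map_zero]; exact zero_mem _⟩
      add_mem' := fun {a b} ha hb x hx => by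
        obtain ⟨V, hV, hxV, hVa⟩ := ha x hx
        obtain ⟨W, hW, hxW, hWb⟩ := hb x hx
        refine ⟨V ⊓ W, inf_le_left.trans hV, ⟨hxV, hxW⟩, ?_⟩
        have h1 := fd.rs_mem_nspan (inf_le_left : V ⊓ W ≤ V) hVa
        have h2 := fd.rs_mem_nspan (inf_le_right : V ⊓ W ≤ W) hWb
        rw [QCoh.rs_rs] at h1 h2
        rw [QCoh.rs, map_add]
        exact add_mem h1 h2
      smul_mem' := fun a s hs x hx => by
        obtain ⟨V, hV, hxV, hVs⟩ := hs x hx
        exact ⟨V, hV, hxV, by rw [QCoh.rs_smul]; exact Submodule.smul_mem _ _ hVs⟩ }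
  map_mem {O O'} i {s} hs := fun x hx => by
    obtain ⟨V, hV, hxV, hVs⟩ := hs x (i hx)
    refine ⟨V ⊓ O', inf_le_right, ⟨hxV, hx⟩, ?_⟩
    have h1 := fd.rs_mem_nspan (inf_le_left : V ⊓ O' ≤ V) hVs
    rw [QCoh.rs_rs] at h1
    change QCoh.rs _ _ (QCoh.rs _ i s) ∈ _
    rwa [QCoh.rs_rs]
  of_locally O s hs := fun x hx => by
    obtain ⟨V, i, hxV, hV⟩ := hs x hx
    obtain ⟨W, hW, hxW, hWs⟩ := hV x hxV
    change QCoh.rs _ hW (QCoh.rs _ i s) ∈ _ at hWs
    rw [QCoh.rs_rs] at hWs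
    exact ⟨W, hW.trans i, hxW, hWs⟩

theorem nm_mem_nsub (O : X.Opens) (b : Γ(X', g ⁻¹ᵁ O)) : fd.nm O b ∈ fd.nsub.mem O := fun x hx =>
  ⟨O, le_rfl, hx, by rw [QCoh.rs_self]; exact Submodule.subset_span ⟨b, rfl⟩⟩

/-- Finitely many good basic opens cover the free part of an affine open. -/
theorem exists_good_cover {U : X.Opens} (hU : IsAffineOpen U) :
    ∃ s : Finset Γ(X, U), (∀ r ∈ s, Good g fd.D (X.basicOpen r) ∧ X.basicOpen r ≤ fd.pre U) ∧
      ∀ z ∈ fd.pre U, ∃ r ∈ s, z ∈ X.basicOpen r := by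
  classical
  have h : ∀ z : fd.pre U, ∃ r : Γ(X, U), z.1 ∈ X.basicOpen r ∧ X.basicOpen r ≤ fd.pre U ∧
      Good g fd.D (X.basicOpen r) := fun z => by
    obtain ⟨W, hzW, hWF, hW⟩ := fd.good z.1 (fd.pre_le_F U z.2)
    obtain ⟨r, a, e, hzr⟩ := exists_basicOpen_le_affine_inter hU hW.1 z.1 ⟨fd.pre_le U z.2, hzW⟩
    exact ⟨r, hzr, fun w hw => fd.mem_pre (hWF (X.basicOpen_le a (e.le hw))) (X.basicOpen_le r hw), e ▸ hW.basic a⟩
  choose r hzr hle hgood using h
  obtain ⟨T, hT⟩ := (NoetherianSpace.isCompact ((fd.pre U : X.Opens) : Set X)).elim_finite_subcover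
    (fun z : fd.pre U => (X.basicOpen (r z) : Set X)) (fun z => (X.basicOpen (r z)).2)
    fun z hz => Set.mem_iUnion.2 ⟨⟨z, hz⟩, hzr _⟩
  refine ⟨T.image r, fun _ h => ?_, fun z hz => ?_⟩
  · obtain ⟨w, -, rfl⟩ := Finset.mem_image.1 h
    exact ⟨hgood w, hle w⟩
  · obtain ⟨w, hw, hzw⟩ := Set.mem_iUnion₂.1 (hT hz)
    exact ⟨r w, Finset.mem_image_of_mem r hw, hzw⟩

theorem res_nm_good {U : X.Opens} {V : X.Opens} (hV : Good g fd.D V) (h : V ≤ fd.pre U)
    (b : Γ(X', g ⁻¹ᵁ U)) :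
    resR h (show Γ(X, fd.pre U) from fd.nm U b) = nrm hV (resR (g.preimage_mono (h.trans (fd.pre_le U))) b) := by
  show resR h (fd.norm _ _ _) = _
  rw [fd.norm_spec (fd.pre_le_F U) _ V hV h, resR_resR]

/-- An element with an equation modulo `I` gives norms integral over `I`. -/
theorem exists_lowerIn_nm {U : X.Opens} (hU : IsAffineOpen U) (I : Ideal Γ(X, U)) (b : Γ(X', g ⁻¹ᵁ U))
    {q : Polynomial Γ(X, U)} (hq : LowerIn I q) (hqb : q.eval₂ (g.app U).hom b = 0) :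
    ∃ Q : Polynomial Γ(X, U), LowerIn I Q ∧
      Q.eval₂ (resR (fd.pre_le U)) (show Γ(X, fd.pre U) from fd.nm U b) = 0 := by
  classical
  obtain ⟨s, hs, hcov⟩ := fd.exists_good_cover hU
  have h : ∀ r : s, ∃ Q : Polynomial Γ(X, U), LowerIn I Q ∧ ∀ (V : X.Opens) (hVr : V ≤ X.basicOpen r.1)
      (hV' : V ≤ fd.pre U), resR hV' (Q.eval₂ (resR (fd.pre_le U)) (show Γ(X, fd.pre U) from fd.nm U b)) = 0 := by
    rintro ⟨r, hr⟩
    obtain ⟨hgood, hle⟩ := hs r hr
    obtain ⟨-, n, hn, F, hF⟩ := id hgood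
    rcases Nat.eq_zero_or_pos n with h0 | hn0
    · subst h0
      rw [zero_dvd_iff] at hn
      exact absurd hn fd.hD.ne'
    · letI : Algebra Γ(X, U) Γ(X, X.basicOpen r) := (resR (X.basicOpen_le r)).toAlgebra
      let β := resR (g.preimage_mono (X.basicOpen_le r))
      have hαβ : (g.app (X.basicOpen r)).hom.comp (algebraMap Γ(X, U) Γ(X, X.basicOpen r)) =
          β.comp (g.app U).hom :=
        RingHom.ext fun a => ConcreteCategory.congr_hom (g.naturality (homOfLE (X.basicOpen_le r)).op) a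
      obtain ⟨Q, hQ, hQ0⟩ := exists_lowerIn_norm (g.app U).hom β hαβ F hF hn0 I b hq hqb
        (Nat.div_pos (Nat.le_of_dvd fd.hD hn) hn0)
      refine ⟨Q, hQ, fun V hVr hV' => ?_⟩
      rw [← nrm_eq hgood F hF, show β b = resR (g.preimage_mono ((hle).trans (fd.pre_le U))) b from rfl,
        ← fd.res_nm_good hgood hle] at hQ0
      have h1 := congrArg (resR hVr) hQ0
      rw [map_zero, Polynomial.hom_eval₂] at h1
      rw [Polynomial.hom_eval₂, ← h1, resR_resR]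
      congr 1
      exact RingHom.ext fun a => (resR_resR _ _ _).trans (resR_resR _ _ _).symm
  choose Q hQ hQ0 using h
  refine ⟨∏ r : s, Q r, LowerIn.prod _ _ fun r _ => hQ r, ?_⟩
  refine AModX.eq_of_locally (M := Coh.structureModule X) _ _ fun z hz => ?_
  obtain ⟨r, hr, hzr⟩ := hcov z hz
  refine ⟨X.basicOpen r, (hs r hr).2, hzr, ?_⟩
  show resR _ (Polynomial.eval₂ _ _ _) = resR _ 0
  rw [map_zero, Polynomial.eval₂_finsetProd, map_prod]
  exact Finset.prod_eq_zero (Finset.mem_univ ⟨r, hr⟩) (hQ0 ⟨r, hr⟩ _ le_rfl _)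

theorem nm_isIntegral {U : X.Opens} (hU : IsAffineOpen U) (b : Γ(X', g ⁻¹ᵁ U)) :
    (resR (fd.pre_le U)).IsIntegralElem (show Γ(X, fd.pre U) from fd.nm U b) := by
  obtain ⟨q, hq, hqb⟩ := (g.finite_app _ hU).to_isIntegral b
  obtain ⟨Q, hQ, hQ0⟩ := fd.exists_lowerIn_nm hU ⊤ b (lowerIn_top hq) hqb
  exact ⟨Q, hQ.1, hQ0⟩

theorem fg_nspan {U : X.Opens} (hU : IsAffineOpen U) : (fd.nspan U).FG := by
  classical
  haveI : IsNoetherianRing Γ(X, U) := IsLocallyNoetherian.component_noetherian ⟨U, hU⟩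
  letI : Algebra Γ(X, U) Γ(X', g ⁻¹ᵁ U) := (g.app U).hom.toAlgebra
  haveI : Module.Finite Γ(X, U) Γ(X', g ⁻¹ᵁ U) := g.finite_app _ hU
  obtain ⟨S, hS⟩ := (Module.Finite.fg_top : (⊤ : Submodule Γ(X, U) Γ(X', g ⁻¹ᵁ U)).FG)
  obtain ⟨s, hs, hcov⟩ := fd.exists_good_cover hU
  letI : ∀ V : s, Algebra Γ(X, U) Γ(X, X.basicOpen V.1) := fun V => (resR (X.basicOpen_le V.1)).toAlgebra
  have h : ∀ r : s, ∃ L : Submodule Γ(X, U) Γ(X, X.basicOpen r.1), L.FG ∧ ∀ b,
      nrm (hs r.1 r.2).1 (resR (g.preimage_mono (X.basicOpen_le r.1)) b) ∈ L := by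
    rintro ⟨r, hr⟩
    obtain ⟨hgood, hle⟩ := hs r hr
    obtain ⟨-, n, hn, F, hF⟩ := id hgood
    let β := resR (g.preimage_mono (X.basicOpen_le r))
    let E : Submodule Γ(X, U) Γ(X, X.basicOpen r) := Submodule.span _
      (⋃ c ∈ S, Set.range fun p : Fin n × Fin n => F.mat (β c) p.1 p.2)
    have hE : E.FG := Submodule.fg_span (S.finite_toSet.biUnion fun c _ => Set.finite_range _)
    have hmem : ∀ b i j, F.mat (β b) i j ∈ E := fun b i j => by
      refine Submodule.span_induction (p := fun x _ => F.mat (β x) i j ∈ E) (fun c hc => ?_) ?_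
        (fun x y _ _ hx hy => ?_) (fun a x _ hx => ?_) (hS.ge (Submodule.mem_top (x := b)))
      · exact Submodule.subset_span (Set.mem_biUnion hc ⟨(i, j), rfl⟩)
      · rw [map_zero, F.mat_zero]; exact zero_mem _
      · rw [map_add, F.mat_add]; exact add_mem hx hy
      · rw [Algebra.smul_def, map_mul,
          show β (algebraMap _ _ a) = g.app (X.basicOpen r) (resR (X.basicOpen_le r) a) from
            (ConcreteCategory.congr_hom (g.naturality (homOfLE (X.basicOpen_le r)).op) a).symm,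
          F.mat_smul]
        exact Submodule.smul_mem E a hx
    refine ⟨(E ^ n) ^ (fd.D / n), (hE.pow n).pow _, fun b => ?_⟩
    rw [nrm_eq hgood F hF, frame_norm_eq_det F hF, Matrix.det_apply]
    refine Submodule.pow_mem_pow _ (Submodule.sum_mem _ fun σ _ => ?_) _
    rw [Units.smul_def]
    refine Submodule.smul_of_tower_mem _ _ ?_
    have hprod : ∀ T : Finset (Fin n), ∏ i ∈ T, F.mat (β b) (σ i) i ∈ E ^ T.card := fun T => by
      induction T using Finset.induction with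
      | empty => rw [Finset.prod_empty, Finset.card_empty, pow_zero]; exact Submodule.one_le.1 le_rfl
      | insert a T ha ih =>
        rw [Finset.prod_insert ha, Finset.card_insert_of_notMem ha, pow_succ']
        exact Submodule.mul_mem_mul (hmem b (σ a) a) ih
    simpa using hprod Finset.univ
  choose L hLfg hL using h
  let res' : ∀ r : s, Γ(AlgGlue.push fd.F.ι, U) →ₗ[Γ(X, U)] Γ(X, X.basicOpen r.1) := fun r =>
    { toFun := fun t => resR (hs r.1 r.2).2 (show Γ(X, fd.pre U) from t)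
      map_add' := fun a b => map_add (resR (hs r.1 r.2).2) _ _
      map_smul' := fun a t => by
        show resR (hs r.1 r.2).2 ((show Γ(X, fd.pre U) from fd.F.ι.app U a) * (show Γ(X, fd.pre U) from t)) = resR (X.basicOpen_le r.1) a * _
        rw [map_mul, Scheme.Opens.ι_app]
        exact congrArg (· * _) (resR_resR (fd.pre_le U) (hs r.1 r.2).2 a) }
  haveI : ∀ r, Module.Finite Γ(X, U) (L r) := fun r => Module.Finite.iff_fg.2 (hLfg r)
  haveI : IsNoetherian Γ(X, U) (∀ r : s, L r) := inferInstance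
  let Φ : fd.nspan U →ₗ[Γ(X, U)] ∀ r : s, L r := LinearMap.pi fun r =>
    ((res' r).comp (fd.nspan U).subtype).codRestrict (L r) fun t =>
      (Submodule.span_le (p := (L r).comap (res' r))).2 (by
        rintro _ ⟨b, rfl⟩
        show resR _ (show Γ(X, fd.pre U) from fd.nm U b) ∈ L r
        rw [fd.res_nm_good (hs r.1 r.2).1]
        exact hL r b) t.2
  have hΦ : Function.Injective Φ := fun a b hab => Subtype.ext <| by
    refine AModX.eq_of_locally (M := Coh.structureModule X) (V := fd.pre U) a.1 b.1 fun z hz => ?_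
    obtain ⟨r, hr, hzr⟩ := hcov z hz
    exact ⟨X.basicOpen r, (hs r hr).2, hzr, congrArg Subtype.val (congrFun hab ⟨r, hr⟩)⟩
  exact Module.Finite.iff_fg.1 (Module.Finite.of_injective Φ hΦ)

theorem exists_genBy {U : X.Opens} (hU : IsAffineOpen U) :
    ∃ T : Set Γ(AlgGlue.push fd.F.ι, U), T ⊆ Set.range (fd.nm U) ∧ QCoh.GenBy fd.nsub U T := by
  classical
  obtain ⟨T, hTsub, hT⟩ := Submodule.fg_span_iff_fg_span_finset_subset _ |>.1 (fd.fg_nspan hU)
  refine ⟨T, hTsub, T.finite_toSet, fun t ht => ?_, fun O hO s hs x hx => ?_⟩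
  · obtain ⟨b, rfl⟩ := hTsub ht
    exact fd.nm_mem_nsub U b
  · obtain ⟨V, hV, hxV, hVs⟩ := hs x hx
    obtain ⟨r, hr, hxr⟩ := hU.exists_basicOpen_le ⟨x, hxV⟩ (hO hx)
    refine ⟨X.basicOpen r, hr.trans hV, hxr, ?_⟩
    have h1 := fd.rs_mem_nspan hr hVs
    rw [QCoh.rs_rs] at h1
    refine Submodule.span_le.2 ?_ h1
    rintro _ ⟨b', rfl⟩
    letI := (resR (g.preimage_mono (X.basicOpen_le r))).toAlgebra
    haveI : IsLocalization.Away (g.app U r) Γ(X', g ⁻¹ᵁ X.basicOpen r) := AlgGlue.isLocalization_res g hU r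
    obtain ⟨⟨b, ⟨_, k, rfl⟩⟩, hb⟩ := IsLocalization.surj (Submonoid.powers (g.app U r)) b'
    have hb' : resR (g.preimage_mono (X.basicOpen_le r)) b =
        g.app (X.basicOpen r) (resR (X.basicOpen_le r) r ^ k) * b' := by
      refine hb.symm.trans ((mul_comm _ _).trans (congrArg (· * b') ?_))
      show resR _ (g.app U r ^ k) = _
      rw [map_pow, map_pow]
      exact congrArg (· ^ k) (ConcreteCategory.congr_hom (g.naturality (homOfLE (X.basicOpen_le r)).op) r).symm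
    have hu : IsUnit ((resR (X.basicOpen_le r) r ^ k) ^ fd.D) :=
      ((AModX.isUnit_resR _ _ le_rfl).pow k).pow _
    refine (Submodule.smul_mem_iff_of_isUnit _ hu).1 ?_
    rw [← fd.nm_smul, ← hb', ← fd.rs_nm (X.basicOpen_le r)]
    refine QCoh.rs_mem_span (X.basicOpen_le r) ?_
    rw [← hT]
    exact Submodule.subset_span ⟨b, rfl⟩

theorem ftOn_nsub : QCoh.FTOn fd.nsub ⊤ := fun x _ => by
  obtain ⟨_, ⟨U, hU, rfl⟩, hxU, -⟩ := X.isBasis_affineOpens.exists_subset_of_mem_open (Set.mem_univ x) isOpen_univ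
  obtain ⟨T, -, hT⟩ := fd.exists_genBy hU
  exact ⟨U, hU, hxU, le_top, T, hT⟩

instance : QuasiCompact fd.F.ι :=
  ⟨fun V hV hVc => fd.F.ι.isOpenEmbedding.isInducing.isCompact_iff.2 (NoetherianSpace.isCompact _)⟩

/-- The family of generating submodules. -/
abbrev Nfam : PUnit.{u + 1} → QCoh.SubMod (AlgGlue.push fd.F.ι) := fun _ => fd.nsub

theorem hNfam : ∀ i, QCoh.FTOn (fd.Nfam i) ⊤ := fun _ => fd.ftOn_nsub

theorem finite_diagMap (U : X.affineOpens) :
    ((AlgGlue.diagMap fd.F.ι fd.Nfam).app (op U.1)).hom.Finite := by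
  classical
  obtain ⟨T, hTsub, hT⟩ := fd.exists_genBy U.2
  let φ : Γ(X, U.1) →+* Γ(fd.F.toScheme, fd.F.ι ⁻¹ᵁ U.1) := (fd.F.ι.app U.1).hom
  letI : Algebra Γ(X, U.1) Γ(fd.F.toScheme, fd.F.ι ⁻¹ᵁ U.1) := φ.toAlgebra
  have hφ : φ = resR (fd.pre_le U.1) := RingHom.ext fun a => by
    show fd.F.ι.app U.1 a = _
    rw [Scheme.Opens.ι_app]
    rfl
  let A := Algebra.adjoin Γ(X, U.1) (AlgGlue.toFun fd.F.ι '' T)
  have hint : ∀ x ∈ AlgGlue.toFun fd.F.ι '' T, IsIntegral Γ(X, U.1) x := by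
    rintro _ ⟨t, ht, rfl⟩
    obtain ⟨b, rfl⟩ := hTsub ht
    obtain ⟨Q, hQ, hQ0⟩ := fd.nm_isIntegral U.2 b
    exact ⟨Q, hQ, by rw [show algebraMap _ _ = φ from rfl, hφ]; exact hQ0⟩
  haveI : Module.Finite Γ(X, U.1) A := Module.Finite.iff_fg.2 (fg_adjoin_of_finite (hT.fin.image _) hint)
  have heq : (AlgGlue.sub fd.F.ι fd.Nfam U.1 : Set Γ(fd.F.toScheme, fd.F.ι ⁻¹ᵁ U.1)) ⊆ A := by
    show AlgGlue.sub fd.F.ι fd.Nfam U.1 ≤ A.toSubring
    refine Subring.closure_le.2 ?_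
    rintro x (⟨a, rfl⟩ | hx)
    · exact A.algebraMap_mem a
    · obtain ⟨i, s, hs, rfl⟩ := Set.mem_iUnion.1 hx
      refine Submodule.span_induction (p := fun t _ => AlgGlue.toFun fd.F.ι t ∈ A.toSubring)
        (fun t ht => Algebra.subset_adjoin ⟨t, ht, rfl⟩) A.zero_mem (fun a b _ _ ha hb => A.add_mem ha hb)
        (fun a t _ ht => ?_) (hT.mem_span (AlgGlue.isQCoh_push fd.F.ι) U.2 hs)
      rw [AlgGlue.toFun_smul]
      exact A.mul_mem (A.algebraMap_mem a) ht
  letI : Algebra Γ(X, U.1) ((AlgGlue.diag fd.F.ι fd.Nfam).obj (op U.1)) :=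
    ((AlgGlue.diagMap fd.F.ι fd.Nfam).app (op U.1)).hom.toAlgebra
  haveI : IsNoetherianRing Γ(X, U.1) := IsLocallyNoetherian.component_noetherian U
  let j : ((AlgGlue.diag fd.F.ι fd.Nfam).obj (op U.1)) →ₗ[Γ(X, U.1)] A :=
    { toFun := fun x => ⟨x.1, heq x.2⟩
      map_add' := fun _ _ => rfl
      map_smul' := fun a x => Subtype.ext (Algebra.smul_def a (x.1 : Γ(fd.F.toScheme, fd.F.ι ⁻¹ᵁ U.1))).symm }
  exact (Module.Finite.of_injective j fun x y h => Subtype.ext (congrArg (fun z : A => z.1) h :) :)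

/-- The model. -/
abbrev model : Scheme.{u} := AlgGlue.space fd.F.ι fd.Nfam fd.hNfam

/-- The map from the model. -/
abbrev modelMap : fd.model ⟶ X := AlgGlue.proj fd.F.ι fd.Nfam fd.hNfam

instance isFinite_modelMap : IsFinite fd.modelMap :=
  AlgGlue.isFinite_proj fd.F.ι fd.Nfam fd.hNfam (fun U : X.affineOpens => U) (iSup_affineOpens_eq_top X)
    fd.finite_diagMap

end Groth.Agent.NormX.FreeData
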