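import Groth.Agent.NormX.GenericAmple

/-!
# Norms with values on a scheme over the base
-/

noncomputable section

universe u

open CategoryTheory AlgebraicGeometry TopologicalSpace Opposite
open Groth.Agent Groth.Agent.AModX Groth.Agent.AmpleX Groth.Agent.H23.PicMul Groth.Agent.GrpdLib

set_option linter.style.haveILetI false
set_option linter.unusedSectionVars false
set_option maxHeartbeats 800000
set_option backward.isDefEq.respectTransparency false
set_option backward.isDefEq.respectTransparency.types false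

namespace Groth.Agent.NormX

variable {X' X Z : Scheme.{u}}

/-- Norms of degree `d` along `π` with values on `Z`. -/
structure RelNorm (h : Z ⟶ X) (π : X' ⟶ X) (d : ℕ) where
  one_le : 1 ≤ d
  /-- The norm over an open. -/
  norm : ∀ U : X.Opens, Γ(X', π ⁻¹ᵁ U) →* Γ(Z, h ⁻¹ᵁ U)
  norm_res : ∀ {U V : X.Opens} (i : V ≤ U) (s : Γ(X', π ⁻¹ᵁ U)),
    resR (h.preimage_mono i) (norm U s) = norm V (resR (π.preimage_mono i) s)
  norm_app : ∀ (U : X.Opens) (a : Γ(X, U)), norm U (π.app U a) = h.app U a ^ d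
  norm_mem : ∀ (U : X.Opens) (s : Γ(X', π ⁻¹ᵁ U)) (z : Z) (_ : h z ∈ U),
    (∀ x, π x = h z → x ∉ X'.basicOpen s) → z ∉ Z.basicOpen (norm U s)

variable {h : Z ⟶ X} {π : X' ⟶ X} [IsFinite π] {d : ℕ}

lemma mem_basicOpen_relnorm (N : RelNorm h π d) {U : X.Opens} (c : Γ(X', π ⁻¹ᵁ U)) (z : Z) (hz : h z ∈ U)
    (hc : ∀ x, π x = h z → x ∈ X'.basicOpen c) : z ∈ Z.basicOpen (N.norm U c) := by
  obtain ⟨W₀, hyW, hW⟩ := exists_open_fibre (X'.basicOpen c) hc
  let W := W₀ ⊓ U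
  have hu : IsUnit (resR (π.preimage_mono (inf_le_right : W ≤ U)) c) :=
    AModX.isUnit_resR _ _ ((π.preimage_mono inf_le_left).trans hW)
  have h1 := hu.map (N.norm W)
  rw [← N.norm_res (inf_le_right : W ≤ U)] at h1
  have h2 := Z.basicOpen_of_isUnit h1
  rw [show resR (h.preimage_mono (inf_le_right : W ≤ U)) (N.norm U c) =
    Z.presheaf.map (homOfLE (h.preimage_mono inf_le_right)).op (N.norm U c) from rfl, Scheme.basicOpen_res] at h2
  exact (h2.ge (show z ∈ h ⁻¹ᵁ W from ⟨hyW, hz⟩)).2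

variable {M : X.Modules}

theorem exists_normSection_relnorm (N : RelNorm h π d) (hM : PicF.IsInvertible M)
    (a : Γ((Scheme.Modules.pullback π).obj M, π ⁻¹ᵁ (⊤ : X.Opens))) :
    ∃ b : Γ(CohB1.tensorPow ((Scheme.Modules.pullback h).obj M) d, h ⁻¹ᵁ (⊤ : X.Opens)), ∀ z : Z,
      ((∀ x, π x = h z → x ∈ locus a) → z ∈ locus b) ∧ (z ∈ locus b → ∃ x, π x = h z ∧ x ∈ locus a) := by
  classical
  let ι : Type u := {p : Σ U : X.Opens, Γ(M, U) // InvX.IsFrame p.2}
  choose c hc using fun p : ι => (InvX.isFrame_pullElt π p.2).exists_coord le_rfl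
    (res _ (π.preimage_mono (le_top : p.1.1 ≤ ⊤)) a)
  simp only [res_self] at hc
  let t : ∀ p : ι, Γ(CohB1.tensorPow ((Scheme.Modules.pullback h).obj M) d, h ⁻¹ᵁ p.1.1) := fun p =>
    N.norm p.1.1 (c p) • powElt (InvX.pullElt h p.1.2) d
  have hcompat : ∀ p q : ι, res _ (h.preimage_mono (inf_le_left : p.1.1 ⊓ q.1.1 ≤ p.1.1)) (t p) =
      res _ (h.preimage_mono (inf_le_right : p.1.1 ⊓ q.1.1 ≤ q.1.1)) (t q) := by
    intro p q
    let W := p.1.1 ⊓ q.1.1
    obtain ⟨u, hu⟩ := q.2.exists_coord (inf_le_right : W ≤ q.1.1) (res M inf_le_left p.1.2)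
    have e1 : ∀ {T : Scheme.{u}} (r : T ⟶ X), res _ (r.preimage_mono (inf_le_left : W ≤ p.1.1)) (InvX.pullElt r p.1.2) =
        r.app W u • res _ (r.preimage_mono (inf_le_right : W ≤ q.1.1)) (InvX.pullElt r q.1.2) := fun r => by
      rw [InvX.res_pullElt r (inf_le_left : W ≤ p.1.1), hu, InvX.pullElt_smul,
        InvX.res_pullElt r (inf_le_right : W ≤ q.1.1)]
    have e2 : resR (π.preimage_mono (inf_le_left : W ≤ p.1.1)) (c p) * π.app W u =
        resR (π.preimage_mono (inf_le_right : W ≤ q.1.1)) (c q) := by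
      refine (InvX.isFrame_pullElt π q.2).coord_unique (π.preimage_mono inf_le_right) ?_
      rw [mul_smul, ← e1, ← res_smul, ← res_smul, ← hc, ← hc, res_res, res_res]
    show res _ _ (N.norm _ _ • _) = res _ _ (N.norm _ _ • _)
    rw [res_smul, res_smul, res_powElt, res_powElt, e1 h, powElt_smul, smul_smul, N.norm_res inf_le_left,
      N.norm_res inf_le_right, ← e2, map_mul, N.norm_app]
  obtain ⟨b, hb, -⟩ := AModX.existsUnique_glue (M := CohB1.tensorPow ((Scheme.Modules.pullback h).obj M) d)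
    (fun p : ι => h ⁻¹ᵁ p.1.1) (fun p => h.preimage_mono (le_top : p.1.1 ≤ ⊤))
    (fun z _ => by
      obtain ⟨U, hzU, e, he⟩ := InvX.exists_frame hM (h z)
      exact ⟨⟨⟨U, e⟩, he⟩, hzU⟩)
    t hcompat
  refine ⟨b, fun z => ?_⟩
  obtain ⟨U₀, hyU, e₀, he₀⟩ := InvX.exists_frame hM (h z)
  let p : ι := ⟨⟨U₀, e₀⟩, he₀⟩
  have h1 := locus_inf b (h.preimage_mono (le_top : p.1.1 ≤ ⊤))
    (isFrame_powElt (InvX.isFrame_pullElt h p.2) d) (hb p)
  have h2 := locus_inf a (π.preimage_mono (le_top : p.1.1 ≤ ⊤)) (InvX.isFrame_pullElt π p.2) (hc p)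
  constructor
  · intro hl
    refine (h1.ge (mem_basicOpen_relnorm N (c p) z hyU fun x hx => h2.le ⟨hl x hx, ?_⟩)).1
    exact show π x ∈ p.1.1 from hx ▸ hyU
  · intro hl
    by_contra! hall
    refine N.norm_mem p.1.1 (c p) z hyU (fun x hx hxc => ?_) (h1.le ⟨hl, hyU⟩)
    exact hall x hx (h2.ge hxc).1

theorem isAmple_pullback_of_relnorm [Surjective π] [IsAffineHom h] [CompactSpace Z] (N : RelNorm h π d)
    (hM : PicF.IsInvertible M) (hA : CohB1.IsAmple ((Scheme.Modules.pullback π).obj M)) :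
    CohB1.IsAmple ((Scheme.Modules.pullback h).obj M) := by
  haveI := hA.2.1
  haveI := isSeparated_of_isAmple hA
  refine isAmple_iff.2 ⟨PicLoc.isInvertible_pullback h hM, inferInstance, fun z => ?_⟩
  obtain ⟨_, ⟨W, hW, rfl⟩, hyW, -⟩ :=
    X.isBasis_affineOpens.exists_subset_of_mem_open (Set.mem_univ (h z)) isOpen_univ
  obtain ⟨n, s, hZ, hsW, -⟩ := exists_finite_nhd hA (Z := π ⁻¹' {h z}) (π.finite_preimage_singleton (h z))
    (U := π ⁻¹ᵁ W) fun x hx => show π x ∈ W from (show π x = h z from hx) ▸ hyW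
  have hcl : PicF.cl (CohB1.tensorPow ((Scheme.Modules.pullback π).obj M) (n + 1)) =
      PicF.cl ((Scheme.Modules.pullback π).obj (CohB1.tensorPow M (n + 1))) := by
    rw [cl_tensorPow]
    refine Eq.trans ?_ (show PicF.pullCl π (PicF.cl (CohB1.tensorPow M (n + 1))) = _ from rfl)
    rw [cl_tensorPow, pullCl_pow]
    rfl
  obtain ⟨a, ha⟩ := exists_locus_cl hcl (InvX.one s)
  rw [← genLocus_eq_locus] at ha
  obtain ⟨b, hb⟩ := exists_normSection_relnorm N (InvX.isInvertible_tensorPow hM (n + 1))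
    (show Γ((Scheme.Modules.pullback π).obj (CohB1.tensorPow M (n + 1)), π ⁻¹ᵁ (⊤ : X.Opens)) from a)
  obtain ⟨b', hb'⟩ := exists_locus_cl (N := CohB1.tensorPow ((Scheme.Modules.pullback h).obj M) ((n + 1) * d))
    (show PicF.cl (CohB1.tensorPow ((Scheme.Modules.pullback h).obj (CohB1.tensorPow M (n + 1))) d) = _ by
      rw [cl_tensorPow, cl_tensorPow, pow_mul]
      exact congrArg (· ^ d) ((congrArg (PicF.pullCl h) (cl_tensorPow M (n + 1))).trans (pullCl_pow h _ _))) b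
  refine ⟨(n + 1) * d, Nat.mul_pos n.succ_pos N.one_le, InvX.ofSect b', ?_⟩
  rw [genLocus_eq_locus, InvX.one_ofSect, hb']
  have hle : locus b ≤ h ⁻¹ᵁ W := fun z' hz' => by
    obtain ⟨x, hx, hxa⟩ := (hb z').2 hz'
    exact show h z' ∈ W from hx ▸ hsW (ha.le hxa)
  refine ⟨(hb z).1 fun x hx => ha.ge (hZ hx), ?_⟩
  rw [← inf_eq_right.2 hle]
  exact isAffineOpen_inf_locus
    (InvX.isInvertible_tensorPow (PicLoc.isInvertible_pullback h (InvX.isInvertible_tensorPow hM _)) d)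
    (hW.preimage h) b (h.preimage_mono (le_top : W ≤ ⊤))

end Groth.Agent.NormX
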