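import Groth.Agent.NormX.ModelProps
import Groth.Agent.NormX.RelNorm
import Groth.Agent.AmpleX.RelAffine

/-!
# Ampleness descends to the finite birational model
-/

noncomputable section

universe u

open CategoryTheory AlgebraicGeometry TopologicalSpace Opposite
open Groth.Agent Groth.Agent.AModX Groth.Agent.GrpdLib

set_option linter.style.haveILetI false
set_option linter.unusedSectionVars false
set_option maxHeartbeats 1000000
set_option backward.isDefEq.respectTransparency false
set_option backward.isDefEq.respectTransparency.types false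

namespace Groth.Agent.NormX.FreeData

variable {X' X : Scheme.{u}} {g : X' ⟶ X} [IsFinite g] [Surjective g] [IsReduced X]
  [AlgebraicGeometry.IsNoetherian X] (fd : FreeData g)

theorem exists_pl_nm (O : X.Opens) (b : Γ(X', g ⁻¹ᵁ O)) :
    ∃ σ, fd.pl O σ = (show Γ(X, fd.pre O) from fd.nm O b) := by
  classical
  have hl : ∀ y : O, ∃ (V : X.Opens) (h : V ≤ O) (σ : Γ(fd.model, fd.modelMap ⁻¹ᵁ V)), y.1 ∈ V ∧
      fd.pl V σ = resR (fd.pre_mono h) (show Γ(X, fd.pre O) from fd.nm O b) := fun y => by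
    obtain ⟨_, ⟨V, hV, rfl⟩, hyV, hVO⟩ := X.isBasis_affineOpens.exists_subset_of_mem_open y.2 O.2
    obtain ⟨σ, hσ⟩ := fd.exists_pl_eq_nm hV (resR (g.preimage_mono hVO) b)
    exact ⟨V, hVO, σ, hyV, hσ.trans (fd.rs_nm hVO b).symm⟩
  choose V hV σ hyV e using hl
  obtain ⟨τ, hτ, -⟩ := AModX.existsUnique_glue (M := Coh.structureModule fd.model)
    (fun y => fd.modelMap ⁻¹ᵁ V y) (fun y => fd.modelMap.preimage_mono (hV y))
    (fun z hz => ⟨⟨fd.modelMap z, hz⟩, hyV ⟨_, hz⟩⟩) σ fun i j => by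
      refine fd.pl_injective (V i ⊓ V j) ?_
      show fd.pl (V i ⊓ V j) (resR (fd.modelMap.preimage_mono inf_le_left) (σ i)) =
        fd.pl (V i ⊓ V j) (resR (fd.modelMap.preimage_mono inf_le_right) (σ j))
      rw [fd.pl_res (inf_le_left : V i ⊓ V j ≤ V i), fd.pl_res (inf_le_right : V i ⊓ V j ≤ V j), e, e, resR_resR, resR_resR]
  refine ⟨τ, AModX.eq_of_locally (M := Coh.structureModule X) (V := fd.pre O) _ _ fun z hz => ?_⟩
  refine ⟨fd.pre (V ⟨z, fd.pre_le O hz⟩), fd.pre_mono (hV _),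
    fd.mem_pre (fd.pre_le_F O hz) (hyV ⟨z, _⟩), ?_⟩
  show resR _ (fd.pl O τ) = resR _ _
  rw [← fd.pl_res (hV _), ← e]
  exact congrArg _ (hτ ⟨z, fd.pre_le O hz⟩)

/-- The norm with values on the model. -/
def modelNorm : RelNorm fd.modelMap g fd.D where
  one_le := fd.hD
  norm U :=
    { toFun := fun b => (fd.exists_pl_nm U b).choose
      map_one' := fd.pl_injective U (by
        rw [(fd.exists_pl_nm U 1).choose_spec, map_one]
        show fd.norm _ _ (resR _ 1) = 1
        rw [map_one, map_one])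
      map_mul' := fun b b' => fd.pl_injective U (by
        rw [(fd.exists_pl_nm U (b * b')).choose_spec, map_mul, (fd.exists_pl_nm U b).choose_spec,
          (fd.exists_pl_nm U b').choose_spec]
        exact fd.nm_mul U b b') }
  norm_res {U V} i s := fd.pl_injective V (by
    show fd.pl V (resR _ (fd.exists_pl_nm U s).choose) = fd.pl V (fd.exists_pl_nm V _).choose
    rw [fd.pl_res i, (fd.exists_pl_nm U s).choose_spec, (fd.exists_pl_nm V _).choose_spec]
    exact fd.rs_nm i s)
  norm_app U a := fd.pl_injective U (by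
    show fd.pl U (fd.exists_pl_nm U _).choose = _
    rw [(fd.exists_pl_nm U _).choose_spec, map_pow, fd.pl_app]
    exact fd.nm_app U a)
  norm_mem U s z hz hvan := by
    intro hzN
    let N : Γ(fd.model, fd.modelMap ⁻¹ᵁ U) := (fd.exists_pl_nm U s).choose
    change z ∈ fd.model.basicOpen N at hzN
    have hN : fd.pl U N = (show Γ(X, fd.pre U) from fd.nm U s) := (fd.exists_pl_nm U s).choose_spec
    obtain ⟨_, ⟨W, hW₀, rfl⟩, hzW, hWU⟩ := X.isBasis_affineOpens.exists_subset_of_mem_open hz U.2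
    have hW : IsAffineOpen W := hW₀
    let b : Γ(X', g ⁻¹ᵁ W) := resR (g.preimage_mono hWU) s
    let P := (hW.primeIdealOf ⟨fd.modelMap z, hzW⟩).asIdeal
    letI : Algebra Γ(X, W) Γ(X', g ⁻¹ᵁ W) := (g.app W).hom.toAlgebra
    haveI : Module.Finite Γ(X, W) Γ(X', g ⁻¹ᵁ W) := g.finite_app _ hW
    have hB := hW.preimage g
    have hb : ∀ Q : Ideal Γ(X', g ⁻¹ᵁ W), Q.IsPrime → Q.comap (g.app W).hom = P → b ∈ Q := by
      intro Q hQ hQP
      let x : X' := hB.fromSpec ⟨Q, hQ⟩
      have hx : g x = fd.modelMap z := by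
        show (hB.fromSpec ≫ g) ⟨Q, hQ⟩ = _
        rw [← IsAffineOpen.SpecMap_appLE_fromSpec g hW hB le_rfl, Scheme.Hom.appLE_eq_app]
        refine Eq.trans ?_ (hW.fromSpec_primeIdealOf ⟨fd.modelMap z, hzW⟩)
        exact congrArg hW.fromSpec (PrimeSpectrum.ext hQP)
      by_contra hb
      refine hvan x hx ?_
      have : x ∈ X'.basicOpen b := by
        show (⟨Q, hQ⟩ : PrimeSpectrum _) ∈ hB.fromSpec ⁻¹ᵁ X'.basicOpen b
        rw [hB.fromSpec_preimage_basicOpen]
        exact hb
      rw [show b = X'.presheaf.map (homOfLE (g.preimage_mono hWU)).op s from rfl, Scheme.basicOpen_res] at this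
      exact this.2
    have hex : ∃ (k : ℕ) (t : Γ(X, W)), t ∉ P ∧ g.app W t * b ^ k ∈ P.map (g.app W).hom := by
      by_contra! hc
      obtain ⟨Q, hQ, hle, hdis⟩ := Ideal.exists_le_prime_disjoint (P.map (g.app W).hom)
        (P.primeCompl.map (g.app W).hom.toMonoidHom ⊔ Submonoid.powers b) (by
          rw [Set.disjoint_right]
          rintro x hx hxI
          obtain ⟨_, ⟨t, ht, rfl⟩, _, ⟨k, rfl⟩, rfl⟩ := Submonoid.mem_sup.1 hx
          exact hc k t ht hxI)
      have hQP : Q.comap (g.app W).hom = P := le_antisymm (fun t ht => by_contra fun htP =>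
        Set.disjoint_left.1 hdis ht (Submonoid.mem_sup_left ⟨t, htP, rfl⟩)) (Ideal.map_le_iff_le_comap.1 hle)
      exact Set.disjoint_left.1 hdis (hb Q hQ hQP) (Submonoid.mem_sup_right ⟨1, pow_one b⟩)
    obtain ⟨k, t, ht, htb⟩ := hex
    have hrange : LinearMap.range (Algebra.lmul Γ(X, W) Γ(X', g ⁻¹ᵁ W) (g.app W t * b ^ k)) ≤
        P • (⊤ : Submodule Γ(X, W) Γ(X', g ⁻¹ᵁ W)) := by
      rintro _ ⟨x, rfl⟩
      rw [Ideal.smul_top_eq_map]
      exact Ideal.mul_mem_right x _ htb
    obtain ⟨q, hq, -, hco, hq0⟩ :=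
      LinearMap.exists_monic_and_natDegree_eq_and_coeff_mem_pow_and_aeval_eq_zero Γ(X, W) _ P hrange
    rw [Polynomial.aeval_algHom_apply] at hq0
    have hqb : q.eval₂ (g.app W).hom (g.app W t * b ^ k) = 0 := by
      have := LinearMap.congr_fun hq0 1
      simp only [Algebra.coe_lmul_eq_mul, LinearMap.mul_apply', mul_one, LinearMap.zero_apply] at this
      exact this
    obtain ⟨Q, hQ, hQ0⟩ := fd.exists_lowerIn_nm hW P _
      (lowerIn_of_coeff hq fun j hj => Ideal.pow_le_self (by omega) (hco j)) hqb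
    let φ : Γ(X, W) →+* Γ(fd.model, fd.modelMap ⁻¹ᵁ W) := (fd.modelMap.app W).hom
    let n : Γ(fd.model, fd.modelMap ⁻¹ᵁ W) := resR (fd.modelMap.preimage_mono hWU) N
    have hn : fd.pl W (φ t ^ fd.D * n ^ k) = (show Γ(X, fd.pre W) from fd.nm W (g.app W t * b ^ k)) := by
      rw [map_mul, map_pow, map_pow, fd.pl_app, fd.pl_res hWU, hN]
      show _ = fd.norm _ _ (resR _ _)
      rw [map_mul, map_mul, map_pow, map_pow,
        ← show fd.norm (fd.pre W) (fd.pre_le_F W) (resR (g.preimage_mono (fd.pre_le W)) (g.app W t)) =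
          resR (fd.pre_le W) t ^ fd.D from fd.nm_app W t]
      congr 2
      exact fd.rs_nm hWU s
    have hev : Q.eval₂ φ (φ t ^ fd.D * n ^ k) = 0 := fd.pl_injective W (by
      rw [map_zero, Polynomial.hom_eval₂, hn, show (fd.pl W).comp φ = resR (fd.pre_le W) from
        RingHom.ext (fd.pl_app W)]
      exact hQ0)
    let germ := (fd.model.presheaf.germ (fd.modelMap ⁻¹ᵁ W) z hzW).hom
    have hle : P.map φ ≤ (IsLocalRing.maximalIdeal _).comap germ := by
      refine Ideal.map_le_iff_le_comap.2 fun a ha => ?_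
      show germ (φ a) ∈ IsLocalRing.maximalIdeal _
      rw [IsLocalRing.mem_maximalIdeal, mem_nonunits_iff]
      intro hu
      have h1 : fd.modelMap z ∈ X.basicOpen a := by
        have : z ∈ fd.model.basicOpen (fd.modelMap.app W a) := (fd.model.mem_basicOpen _ z hzW).2 hu
        rwa [← Scheme.preimage_basicOpen] at this
      exact (QCoh.mem_basicOpen_iff_notMem hW hzW a).1 h1 ha
    have hmem := hle (hQ.pow_mem φ hev)
    have hprime : germ (φ t ^ fd.D * n ^ k) ∈ IsLocalRing.maximalIdeal _ :=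
      (IsLocalRing.maximalIdeal.isMaximal _).isPrime.mem_of_pow_mem _ (by rw [← map_pow]; exact hmem)
    rw [IsLocalRing.mem_maximalIdeal, mem_nonunits_iff, map_mul, map_pow, map_pow] at hprime
    refine hprime (((?_ : IsUnit (germ (φ t))).pow _).mul ((?_ : IsUnit (germ n)).pow _))
    · have h1 : fd.modelMap z ∈ X.basicOpen t := (QCoh.mem_basicOpen_iff_notMem hW hzW t).2 ht
      have h2 : z ∈ fd.model.basicOpen (fd.modelMap.app W t) := by rw [← Scheme.preimage_basicOpen]; exact h1
      exact (fd.model.mem_basicOpen _ z hzW).1 h2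
    · refine (fd.model.mem_basicOpen n z hzW).1 ?_
      show z ∈ fd.model.basicOpen (fd.model.presheaf.map (homOfLE (fd.modelMap.preimage_mono hWU)).op N)
      rw [Scheme.basicOpen_res]
      exact ⟨hzW, hzN⟩

theorem isAmple_modelMap_pullback {L : X.Modules} (hL : PicF.IsInvertible L)
    (hA : CohB1.IsAmple ((Scheme.Modules.pullback g).obj L)) :
    CohB1.IsAmple ((Scheme.Modules.pullback fd.modelMap).obj L) := by
  haveI : CompactSpace fd.model := QuasiCompact.compactSpace_of_compactSpace fd.modelMap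
  exact isAmple_pullback_of_relnorm fd.modelNorm hL hA

theorem isRelAmple_modelMap {Y : Scheme.{u}} [IsAffine Y] (f : X ⟶ Y) [QuasiCompact f] {L : X.Modules}
    (hL : PicF.IsInvertible L) (hA : RelAmple.IsRelAmple (g ≫ f) ((Scheme.Modules.pullback g).obj L)) :
    RelAmple.IsRelAmple (fd.modelMap ≫ f) ((Scheme.Modules.pullback fd.modelMap).obj L) :=
  (AmpleX.isRelAmple_iff_isAmple _ _).2
    (fd.isAmple_modelMap_pullback hL ((AmpleX.isRelAmple_iff_isAmple _ _).1 hA))

end Groth.Agent.NormX.FreeData
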