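import Groth.Agent.NormX.Model

/-!
# Properties of the model: reduced, birational, an isomorphism at normal or free points
-/

noncomputable section

universe u

open CategoryTheory AlgebraicGeometry TopologicalSpace Opposite
open Groth.Agent Groth.Agent.AModX Groth.Agent.GrpdLib

set_option linter.style.haveILetI false
set_option linter.unusedSectionVars false
set_option maxHeartbeats 800000
set_option backward.isDefEq.respectTransparency false
set_option backward.isDefEq.respectTransparency.types false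

namespace Groth.Agent.NormX.FreeData

variable {X' X : Scheme.{u}} {g : X' ⟶ X} [IsFinite g] [Surjective g] [IsReduced X]
  [AlgebraicGeometry.IsNoetherian X] (fd : FreeData g)

/-- Points at which the model should be an isomorphism. -/
def Nice (y : X) : Prop :=
  (IsDomain (X.presheaf.stalk y) ∧ IsIntegrallyClosed (X.presheaf.stalk y)) ∨ y ∈ fd.F

theorem exists_res_nm {U : X.Opens} {y : X} (hy : y ∈ U) (hn : fd.Nice y) (b : Γ(X', g ⁻¹ᵁ U)) :
    ∃ (V : X.Opens) (h : V ≤ U) (t : Γ(X, V)), y ∈ V ∧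
      resR (fd.pre_mono h) (show Γ(X, fd.pre U) from fd.nm U b) = resR (fd.pre_le V) t := by
  rcases hn with ⟨h1, h2⟩ | hF
  · obtain ⟨W, hW, t, hyW, ht, -⟩ := exists_ext_normal fd.hdense fd.hD b hy h1 h2
    refine ⟨W, hW, t, hyW, ?_⟩
    have e1 := fd.norm_eq (fd.pre_le_F W) (fd.hres (fd.pre_le W) ht)
    rw [← e1]
    show resR (fd.pre_mono hW) (fd.norm _ _ _) = _
    rw [fd.norm_res, resR_resR, resR_resR]
  · refine ⟨fd.F ⊓ U, inf_le_right, resR (le_of_eq (fd.pre_eq U).symm) (show Γ(X, fd.pre U) from fd.nm U b),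
      ⟨hF, hy⟩, ?_⟩
    rw [resR_resR]

theorem exists_res_of_mem_nsub {U : X.Opens} (hU : ∀ y ∈ U, fd.Nice y) {s : Γ(AlgGlue.push fd.F.ι, U)}
    (hs : s ∈ fd.nsub.mem U) : ∃ a : Γ(X, U), resR (fd.pre_le U) a = (show Γ(X, fd.pre U) from s) := by
  classical
  have hl : ∀ y : U, ∃ (V : X.Opens) (h : V ≤ U) (t : Γ(X, V)), y.1 ∈ V ∧
      resR (fd.pre_mono h) (show Γ(X, fd.pre U) from s) = resR (fd.pre_le V) t := by
    rintro ⟨y, hy⟩
    obtain ⟨V, hV, hyV, hVs⟩ := hs y hy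
    suffices key : ∀ σ ∈ fd.nspan V, ∃ (W : X.Opens) (h : W ≤ V) (t : Γ(X, W)), y ∈ W ∧
        resR (fd.pre_mono h) (show Γ(X, fd.pre V) from σ) = resR (fd.pre_le W) t by
      obtain ⟨W, hW, t, hyW, e⟩ := key _ hVs
      refine ⟨W, hW.trans hV, t, hyW, ?_⟩
      rw [← e]
      exact (resR_resR (fd.pre_mono hV) (fd.pre_mono hW) _).symm
    intro σ hσ
    induction hσ using Submodule.span_induction with
    | mem x hx =>
      obtain ⟨b, rfl⟩ := hx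
      exact fd.exists_res_nm hyV (hU y hy) b
    | zero => exact ⟨V, le_rfl, 0, hyV, (map_zero _).trans (map_zero _).symm⟩
    | add a b _ _ ha hb =>
      obtain ⟨W₁, h₁, t₁, hy₁, e₁⟩ := ha
      obtain ⟨W₂, h₂, t₂, hy₂, e₂⟩ := hb
      refine ⟨W₁ ⊓ W₂, inf_le_left.trans h₁, resR inf_le_left t₁ + resR inf_le_right t₂, ⟨hy₁, hy₂⟩, ?_⟩
      have f₁ := congrArg (resR (fd.pre_mono (inf_le_left : W₁ ⊓ W₂ ≤ W₁))) e₁
      have f₂ := congrArg (resR (fd.pre_mono (inf_le_right : W₁ ⊓ W₂ ≤ W₂))) e₂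
      rw [resR_resR, resR_resR] at f₁ f₂
      refine (map_add (resR (fd.pre_mono (inf_le_left.trans h₁)))
        (show Γ(X, fd.pre V) from a) (show Γ(X, fd.pre V) from b)).trans ?_
      rw [f₁, f₂, map_add, resR_resR, resR_resR]
    | smul c a _ ha =>
      obtain ⟨W, hW, t, hyW, e⟩ := ha
      refine ⟨W, hW, resR hW c * t, hyW, ?_⟩
      show resR (fd.pre_mono hW) ((show Γ(X, fd.pre V) from fd.F.ι.app V c) * (show Γ(X, fd.pre V) from a)) = _
      rw [map_mul, map_mul, e]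
      congr 1
      rw [Scheme.Opens.ι_app]
      exact (resR_resR _ _ c).trans (resR_resR _ _ c).symm
  choose V hV t hyV e using hl
  obtain ⟨a, ha, -⟩ := AModX.existsUnique_glue (M := Coh.structureModule X) V hV
    (fun y hy => ⟨⟨y, hy⟩, hyV ⟨y, hy⟩⟩) t fun i j => by
      refine sub_eq_zero.1 (fd.eq_zero_of_res ?_)
      show resR _ (resR inf_le_left (t i) - resR inf_le_right (t j)) = 0
      rw [map_sub, sub_eq_zero, resR_resR, resR_resR]
      have f₁ := congrArg (resR (fd.pre_mono (inf_le_left : V i ⊓ V j ≤ V i))) (e i)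
      have f₂ := congrArg (resR (fd.pre_mono (inf_le_right : V i ⊓ V j ≤ V j))) (e j)
      rw [resR_resR, resR_resR] at f₁ f₂
      exact f₁.symm.trans f₂
  refine ⟨a, AModX.eq_of_locally (M := Coh.structureModule X) (V := fd.pre U) _ _ fun z hz => ?_⟩
  refine ⟨fd.pre (V ⟨z, fd.pre_le U hz⟩), fd.pre_mono (hV _),
    fd.mem_pre (fd.pre_le_F U hz) (hyV ⟨z, _⟩), ?_⟩
  show resR _ (resR (fd.pre_le U) a) = resR _ _
  rw [resR_resR, e, ← show resR (hV ⟨z, fd.pre_le U hz⟩) a = t _ from ha _, resR_resR]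

theorem bijective_diagMap (U : X.affineOpens) (hU : ∀ y ∈ U.1, fd.Nice y) :
    Function.Bijective ((AlgGlue.diagMap fd.F.ι fd.Nfam).app (op U.1)).hom := by
  have hφ : ∀ a : Γ(X, U.1), fd.F.ι.app U.1 a = resR (fd.pre_le U.1) a := fun a => by
    rw [Scheme.Opens.ι_app]
    rfl
  refine ⟨fun a b hab => ?_, fun x => ?_⟩
  · refine sub_eq_zero.1 (fd.eq_zero_of_res ?_)
    rw [map_sub, sub_eq_zero, ← hφ, ← hφ]
    exact congrArg Subtype.val hab
  · suffices key : ∀ y ∈ AlgGlue.sub fd.F.ι fd.Nfam U.1, y ∈ (fd.F.ι.app U.1).hom.range by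
      obtain ⟨a, ha⟩ := key x.1 x.2
      exact ⟨a, Subtype.ext ha⟩
    refine fun y hy => (Subring.closure_le.2 ?_) hy
    rintro z (⟨a, rfl⟩ | hz)
    · exact ⟨a, rfl⟩
    · obtain ⟨i, s, hs, rfl⟩ := Set.mem_iUnion.1 hz
      obtain ⟨a, ha⟩ := fd.exists_res_of_mem_nsub hU hs
      exact ⟨a, (hφ a).trans ha⟩

theorem isIso_modelMap_restrict (W : X.Opens) (hW : ∀ y ∈ W, fd.Nice y) : IsIso (fd.modelMap ∣_ W) := by
  let p := fd.modelMap
  let κ := {V : X.affineOpens // V.1 ≤ W}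
  have hcov : (⨆ V : κ, W.ι ⁻¹ᵁ V.1.1) = ⊤ := top_le_iff.1 fun w _ => by
    obtain ⟨_, ⟨V, hV, rfl⟩, hwV, hVW⟩ := X.isBasis_affineOpens.exists_subset_of_mem_open w.2 W.2
    exact Opens.mem_iSup.2 ⟨⟨⟨V, hV⟩, hVW⟩, hwV⟩
  refine (IsZariskiLocalAtTarget.iff_of_iSup_eq_top (P := MorphismProperty.isomorphisms Scheme.{u}) _ hcov).2
    fun V => ?_
  refine ((MorphismProperty.isomorphisms Scheme.{u}).arrow_mk_iso_iff
    (morphismRestrictRestrict p W (W.ι ⁻¹ᵁ V.1.1))).2 ?_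
  rw [show W.ι ''ᵁ (W.ι ⁻¹ᵁ V.1.1) = V.1.1 by
    rw [Scheme.Hom.image_preimage_eq_opensRange_inf, Scheme.Opens.opensRange_ι, inf_eq_right.2 V.2]]
  let e := IsOpenImmersion.isoOfRangeEq (p ⁻¹ᵁ V.1.1).ι (AlgGlue.chart fd.F.ι fd.Nfam fd.hNfam V.1)
      (by simpa using congr($(AlgGlue.proj_preimage fd.F.ι fd.Nfam fd.hNfam V.1).1))
  haveI : IsIso ((AlgGlue.diagMap fd.F.ι fd.Nfam).app (op V.1.1)) :=
    (ConcreteCategory.isIso_iff_bijective _).2 (fd.bijective_diagMap V.1 fun y hy => hW y (V.2 hy))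
  have key : e.inv ≫ (p ∣_ V.1.1) ≫ V.1.2.isoSpec.hom =
      Spec.map ((AlgGlue.diagMap fd.F.ι fd.Nfam).app (op V.1.1)) := by
    rw [← cancel_mono V.1.2.fromSpec]
    simp [IsAffineOpen.isoSpec_hom, e, p, AlgGlue.chart_proj]
  show IsIso (p ∣_ V.1.1)
  have h2 : p ∣_ V.1.1 = e.hom ≫ Spec.map ((AlgGlue.diagMap fd.F.ι fd.Nfam).app (op V.1.1)) ≫ V.1.2.isoSpec.inv := by
    rw [← key]; simp
  rw [h2]
  infer_instance

instance isReduced_model : IsReduced fd.model := by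
  haveI : ∀ U : X.affineOpens, _root_.IsReduced (AlgGlue.sub fd.F.ι fd.Nfam U.1) := fun U =>
    isReduced_of_injective (AlgGlue.sub fd.F.ι fd.Nfam U.1).subtype Subtype.val_injective
  haveI : ∀ U, IsReduced ((AlgGlue.glueData fd.F.ι fd.Nfam fd.hNfam).cover.X U) := fun U =>
    show IsReduced (Spec (CommRingCat.of (AlgGlue.sub fd.F.ι fd.Nfam U.1))) from inferInstance
  exact IsReduced.of_openCover (X := fd.model) (AlgGlue.glueData fd.F.ι fd.Nfam fd.hNfam).cover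

/-- The map of the free locus to the model. -/
abbrev toModel : (fd.F : Scheme.{u}) ⟶ fd.model := AlgGlue.toSpace fd.F.ι fd.Nfam fd.hNfam

theorem exists_mem_range_toModel {O : fd.model.Opens} (hO : O ≠ ⊥) : ∃ w, fd.toModel w ∈ O := by
  obtain ⟨z, hz⟩ := (Opens.ne_bot_iff_nonempty _).1 hO
  obtain ⟨_, ⟨U, hU, rfl⟩, hzU, -⟩ :=
    X.isBasis_affineOpens.exists_subset_of_mem_open (Set.mem_univ (fd.modelMap z)) isOpen_univ
  obtain ⟨σ, hσ, hzσ⟩ := (hU.preimage fd.modelMap).exists_basicOpen_le ⟨z, hz⟩ hzU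
  have hne : fd.toModel.app (fd.modelMap ⁻¹ᵁ U) σ ≠ 0 := fun h => by
    have h0 : σ = 0 := AlgGlue.toSpace_app_injective fd.F.ι fd.Nfam fd.hNfam ⟨U, hU⟩ (h.trans (map_zero _).symm)
    rw [h0, Scheme.basicOpen_zero] at hzσ
    exact hzσ
  obtain ⟨w, hw⟩ := (Opens.ne_bot_iff_nonempty _).1 (mt (basicOpen_eq_bot_iff _).1 hne)
  rw [← Scheme.preimage_basicOpen] at hw
  exact ⟨w, hσ hw⟩

theorem dense_preimage_free : Dense ((fd.modelMap ⁻¹ᵁ fd.F : fd.model.Opens) : Set fd.model) := by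
  refine dense_iff_inter_open.2 fun O hO ⟨z, hz⟩ => ?_
  obtain ⟨w, hw⟩ := fd.exists_mem_range_toModel (O := ⟨O, hO⟩) ((Opens.ne_bot_iff_nonempty _).2 ⟨z, hz⟩)
  refine ⟨fd.toModel w, hw, ?_⟩
  show fd.modelMap (fd.toModel w) ∈ fd.F
  rw [← Scheme.Hom.comp_apply, AlgGlue.toSpace_proj]
  exact w.2

/-- Pullback of functions on the model to the free locus. -/
def pl (O : X.Opens) : Γ(fd.model, fd.modelMap ⁻¹ᵁ O) →+* Γ(X, fd.pre O) :=
  (fd.toModel.appLE (fd.modelMap ⁻¹ᵁ O) (fd.F.ι ⁻¹ᵁ O)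
    (by rw [← Scheme.Hom.comp_preimage, AlgGlue.toSpace_proj])).hom

theorem pl_injective (O : X.Opens) : Function.Injective (fd.pl O) := by
  rw [injective_iff_map_eq_zero]
  intro σ hσ
  by_contra hne
  obtain ⟨w, hw⟩ := fd.exists_mem_range_toModel (mt (basicOpen_eq_bot_iff σ).1 hne)
  have hwO : w ∈ fd.F.ι ⁻¹ᵁ O := by
    show fd.F.ι w ∈ O
    rw [← AlgGlue.toSpace_proj fd.F.ι fd.Nfam fd.hNfam, Scheme.Hom.comp_apply]
    exact Scheme.basicOpen_le _ σ hw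
  have h1 : w ∈ fd.F.toScheme.basicOpen (fd.toModel.app (fd.modelMap ⁻¹ᵁ O) σ) := by
    rw [← Scheme.preimage_basicOpen]; exact hw
  have h2 : w ∈ fd.F.toScheme.basicOpen (show Γ(fd.F.toScheme, fd.F.ι ⁻¹ᵁ O) from fd.pl O σ) := by
    show w ∈ fd.F.toScheme.basicOpen (fd.F.toScheme.presheaf.map (homOfLE _).op (fd.toModel.app _ σ))
    rw [Scheme.basicOpen_res]
    exact ⟨hwO, h1⟩
  rw [show (show Γ(fd.F.toScheme, fd.F.ι ⁻¹ᵁ O) from fd.pl O σ) = 0 from hσ, Scheme.basicOpen_zero] at h2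
  exact h2

theorem pl_res {O O' : X.Opens} (h : O' ≤ O) (σ : Γ(fd.model, fd.modelMap ⁻¹ᵁ O)) :
    fd.pl O' (resR (fd.modelMap.preimage_mono h) σ) = resR (fd.pre_mono h) (fd.pl O σ) := by
  have h1 := congr($(Scheme.Hom.map_appLE fd.toModel (e := (by rw [← Scheme.Hom.comp_preimage, AlgGlue.toSpace_proj] : fd.F.ι ⁻¹ᵁ O' ≤ fd.toModel ⁻¹ᵁ fd.modelMap ⁻¹ᵁ O'))
    (homOfLE (fd.modelMap.preimage_mono h)).op) σ)
  have h2 := congr($(Scheme.Hom.appLE_map fd.toModel (e := (by rw [← Scheme.Hom.comp_preimage, AlgGlue.toSpace_proj] : fd.F.ι ⁻¹ᵁ O ≤ fd.toModel ⁻¹ᵁ fd.modelMap ⁻¹ᵁ O))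
    (homOfLE (fd.F.ι.preimage_mono h)).op) σ)
  exact h1.trans h2.symm

theorem pl_app (O : X.Opens) (a : Γ(X, O)) : fd.pl O (fd.modelMap.app O a) = resR (fd.pre_le O) a := by
  have h1 := congr($(Scheme.Hom.comp_appLE fd.toModel fd.modelMap O (fd.F.ι ⁻¹ᵁ O)
    (by rw [AlgGlue.toSpace_proj])) a)
  refine h1.symm.trans ?_
  simp only [AlgGlue.toSpace_proj, Scheme.Opens.ι_appLE]
  rfl

theorem exists_pl_eq_nm {U : X.Opens} (hU : IsAffineOpen U) (b : Γ(X', g ⁻¹ᵁ U)) :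
    ∃ σ, fd.pl U σ = (show Γ(X, fd.pre U) from fd.nm U b) := by
  obtain ⟨σ, hσ⟩ := AlgGlue.mem_range_toSpace_app fd.F.ι fd.Nfam fd.hNfam ⟨U, hU⟩
    (AlgGlue.gen_mem fd.F.ι fd.Nfam (i := PUnit.unit) (fd.nm_mem_nsub U b))
  refine ⟨σ, ?_⟩
  show fd.F.toScheme.presheaf.map _ (fd.toModel.app _ σ) = _
  rw [hσ, ← CommRingCat.comp_apply, ← Functor.map_comp, Subsingleton.elim (_ ≫ _) (𝟙 (op (fd.F.ι ⁻¹ᵁ U))),
    CategoryTheory.Functor.map_id]
  rfl

end Groth.Agent.NormX.FreeData
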