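import Groth.Agent.NormX.ModelNorm
import Groth.Agent.NormX.FreeRed
import Groth.Agent.H23.RedSub
import Groth.Agent.KZ.LFRes

/-!
# The finite model over the reduction
-/

noncomputable section

universe u

open CategoryTheory CategoryTheory.Limits AlgebraicGeometry TopologicalSpace Opposite
open Groth.Agent Groth.Agent.AModX

set_option linter.style.haveILetI false
set_option backward.isDefEq.respectTransparency false
set_option backward.isDefEq.respectTransparency.types false

namespace Groth.Agent.NormX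

theorem bijective_stalkMap_nilradical {X : Scheme.{u}} (x₀ : X.nilradical.subscheme)
    [IsDomain (X.presheaf.stalk (X.nilradical.subschemeι x₀))] :
    Function.Bijective (X.nilradical.subschemeι.stalkMap x₀) := by
  refine ⟨(injective_iff_map_eq_zero _).2 fun a ha => ?_, X.nilradical.subschemeι.stalkMap_surjective x₀⟩
  let i := X.nilradical.subschemeι
  obtain ⟨U, hxU, s, rfl⟩ := X.presheaf.exists_germ_eq a
  rw [Scheme.Hom.germ_stalkMap_apply] at ha
  obtain ⟨O, hxO, a₁, a₂, he⟩ := TopCat.Presheaf.germ_eq X.nilradical.subscheme.presheaf x₀ (U := i ⁻¹ᵁ U) (V := i ⁻¹ᵁ U) hxU hxU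
    (i.app U s) 0 (ha.trans (map_zero _).symm)
  obtain ⟨O', hO', hOO'⟩ := i.isClosedEmbedding.isInducing.isOpen_iff.1 O.isOpen
  have hxO' : i x₀ ∈ O' := by rw [← SetLike.mem_coe, ← hOO'] at hxO; exact hxO
  obtain ⟨V, hV, hxV, hVO, hVU⟩ : ∃ V : X.Opens, IsAffineOpen V ∧ i x₀ ∈ V ∧ (V : Set X) ⊆ O' ∧ V ≤ U := by
    obtain ⟨_, ⟨V, hV, rfl⟩, hxV, hle⟩ := X.isBasis_affineOpens.exists_subset_of_mem_open
      (show i x₀ ∈ O' ∩ U from ⟨hxO', hxU⟩) (hO'.inter U.2)
    exact ⟨V, hV, hxV, fun z hz => (hle hz).1, fun z hz => (hle hz).2⟩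
  have hVO₀ : i ⁻¹ᵁ V ≤ O := fun z hz => show z ∈ (O : Set _) from hOO' ▸ hVO hz
  have h0 : i.app V (resR hVU s) = 0 := by
    have := congrArg (X.nilradical.subscheme.presheaf.map (homOfLE hVO₀).op) he
    rw [map_zero, map_zero, ← CommRingCat.comp_apply, ← Functor.map_comp] at this
    rw [← this]
    exact ConcreteCategory.congr_hom (i.naturality (homOfLE hVU).op) s
  have hmem : resR hVU s ∈ X.nilradical.subschemeι.ker.ideal ⟨V, hV⟩ := by
    rw [Scheme.Hom.ker_apply, RingHom.mem_ker]
    exact h0
  rw [Scheme.IdealSheafData.ker_subschemeι, show X.nilradical.ideal ⟨V, hV⟩ = nilradical Γ(X, V) from rfl,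
    mem_nilradical] at hmem
  have := hmem.map (X.presheaf.germ V _ hxV).hom
  rw [← X.presheaf.germ_res_apply (homOfLE hVU) _ hxV]
  exact this.eq_zero

/-- Over a Noetherian scheme, a finite surjection which is normal or free over `W` dominates, over the
reduction, a finite surjection which is an isomorphism over `W` and along which ampleness descends to it. -/
theorem exists_model {X X' : Scheme.{u}} [AlgebraicGeometry.IsNoetherian X] (g : X' ⟶ X) [IsFinite g]
    [Surjective g] (W : X.Opens)
    (hW : ∀ x ∈ W, (IsDomain (X.presheaf.stalk x) ∧ IsIntegrallyClosed (X.presheaf.stalk x)) ∨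
      ∃ (U : X.Opens) (n : ℕ), x ∈ U ∧ Nonempty
        (((Coh.push g).obj (Coh.structureModule X')).restrict U.ι ≅ FlatMod.freeMod (U : Scheme.{u}) n)) :
    ∃ (Z : Scheme.{u}) (h : Z ⟶ X.nilradical.subscheme) (_ : IsFinite h) (_ : Surjective h),
      IsIso (h ∣_ (X.nilradical.subschemeι ⁻¹ᵁ W)) ∧
        ∀ L : X.Modules, PicF.IsInvertible L → CohB1.IsAmple ((Scheme.Modules.pullback g).obj L) →
          CohB1.IsAmple ((Scheme.Modules.pullback h).obj ((Scheme.Modules.pullback X.nilradical.subschemeι).obj L)) := by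
  let i := X.nilradical.subschemeι
  haveI : IsReduced X.nilradical.subscheme := H23.RedSub.isReduced_nilradical X
  haveI : IsLocallyNoetherian X.nilradical.subscheme := LocallyOfFiniteType.isLocallyNoetherian i
  haveI : CompactSpace X.nilradical.subscheme := QuasiCompact.compactSpace_of_compactSpace i
  haveI : AlgebraicGeometry.IsNoetherian X.nilradical.subscheme := { }
  haveI : IsLocallyNoetherian X' := LocallyOfFiniteType.isLocallyNoetherian g
  let g₀ := pullback.snd g i
  obtain ⟨fd⟩ := nonempty_freeData g₀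
  haveI : IsFinite fd.modelMap := fd.isFinite_modelMap
  haveI hs : Surjective fd.modelMap := ⟨fun y => by
    have hsub : (fd.F : Set X.nilradical.subscheme) ⊆ Set.range fd.modelMap := fun z hz => by
      haveI := fd.isIso_modelMap_restrict fd.F fun y hy => Or.inr hy
      obtain ⟨w, hw⟩ := (fd.modelMap ∣_ fd.F).homeomorph.surjective ⟨z, hz⟩
      refine ⟨(fd.modelMap ⁻¹ᵁ fd.F).ι w, ?_⟩
      rw [← Scheme.Hom.comp_apply, ← morphismRestrict_ι]
      exact congrArg Subtype.val hw
    exact (fd.modelMap.isClosedMap.isClosed_range.closure_subset_iff.2 hsub) (fd.dense y)⟩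
  refine ⟨fd.model, fd.modelMap, inferInstance, hs, fd.isIso_modelMap_restrict _ fun y hy => ?_, fun L hL hA => ?_⟩
  · rcases hW (i y) hy with ⟨h1, h2⟩ | ⟨U, n, hxU, ⟨e⟩⟩
    · left
      let e := RingEquiv.ofBijective (i.stalkMap y).hom (bijective_stalkMap_nilradical y)
      exact ⟨e.symm.toMulEquiv.isDomain _, IsIntegrallyClosed.of_equiv e⟩
    · right
      obtain ⟨T, hyT, hT⟩ := exists_free_nhd_baseChange (IsPullback.of_hasPullback g i) e hxU
      exact fd.free y T hyT hT
  · refine fd.isAmple_modelMap_pullback (PicLoc.isInvertible_pullback _ hL) ?_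
    have e : (Scheme.Modules.pullback g₀).obj ((Scheme.Modules.pullback i).obj L) ≅
        (Scheme.Modules.pullback (pullback.fst g i)).obj ((Scheme.Modules.pullback g).obj L) :=
      (Scheme.Modules.pullbackComp g₀ i).app L ≪≫
        (Scheme.Modules.pullbackCongr pullback.condition.symm).app L ≪≫
        ((Scheme.Modules.pullbackComp (pullback.fst g i) g).app L).symm
    exact AmpleX.isAmple_of_iso e.symm (isAmple_pullback_affine _ hA)

end Groth.Agent.NormX
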