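import Groth.Agent.NormX.Nilp
import Groth.Agent.NormX.ModelRed
import Groth.Agent.NormX.Compactify
import Groth.Agent.QCoh.ProperOver2

/-!
# Descent of ampleness along a finite surjection which is nice outside a proper closed set
-/

noncomputable section

universe u

open CategoryTheory CategoryTheory.Limits AlgebraicGeometry TopologicalSpace Opposite
open Groth.Agent Groth.Agent.H23.PicMul

set_option linter.style.haveILetI false
set_option backward.isDefEq.respectTransparency false
set_option backward.isDefEq.respectTransparency.types false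

namespace Groth.Agent.NormX

/-- Ampleness descends along a finite surjection which is normal or free outside a set proper over the affine
Noetherian base. -/
theorem isAmple_of_nice {A : Type u} [CommRing A] [IsNoetherianRing A] {X X' : Scheme.{u}}
    (p : X ⟶ Spec (CommRingCat.of A)) [LocallyOfFiniteType p] [QuasiCompact p] (g : X' ⟶ X) [IsFinite g]
    [Surjective g] (W : X.Opens) (hZ : ClSub.IsProperOver p ((W : Set X)ᶜ))
    (hW : ∀ x ∈ W, (IsDomain (X.presheaf.stalk x) ∧ IsIntegrallyClosed (X.presheaf.stalk x)) ∨
      ∃ (U : X.Opens) (n : ℕ), x ∈ U ∧ Nonempty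
        (((Coh.push g).obj (Coh.structureModule X')).restrict U.ι ≅ FlatMod.freeMod (U : Scheme.{u}) n))
    {L : X.Modules} (hL : PicF.IsInvertible L) (hA : CohB1.IsAmple ((Scheme.Modules.pullback g).obj L)) :
    CohB1.IsAmple L := by
  haveI : X'.IsSeparated := AmpleX.isSeparated_of_isAmple hA
  haveI : X.IsSeparated := LimChev.isSeparated_of_surjective g
  haveI : IsLocallyNoetherian X := LocallyOfFiniteType.isLocallyNoetherian p
  haveI : CompactSpace X := QuasiCompact.compactSpace_of_compactSpace p
  haveI : AlgebraicGeometry.IsNoetherian X := { }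
  obtain ⟨Z, h, hfin, hsurj, hiso, hd⟩ := exists_model g W hW
  haveI := hfin
  haveI := hsurj
  haveI := hiso
  refine isAmple_of_nilradical hL ?_
  let i := X.nilradical.subschemeι
  refine isAmple_of_iso_outside_proper (i ≫ p) h (i ⁻¹ᵁ W) ?_ (PicLoc.isInvertible_pullback _ hL) (hd L hL hA)
  exact QCoh.IsProperOver.preimage (q := p) rfl hZ

end Groth.Agent.NormX
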