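import Groth.Agent.NormX.Thicken
import Groth.Agent.AmpleX.RelAffine
import Groth.Agent.H23.RedSub

/-!
# Ampleness is insensitive to nilpotent thickenings
-/

noncomputable section

universe u

open CategoryTheory CategoryTheory.Limits AlgebraicGeometry TopologicalSpace Opposite
open Groth.Agent Groth.Agent.AModX Groth.Agent.AmpleX

set_option linter.style.haveILetI false
set_option backward.isDefEq.respectTransparency false
set_option backward.isDefEq.respectTransparency.types false

namespace Groth.Agent.NormX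

theorem isSeparated_of_isClosedImmersion {Z X : Scheme.{u}} (j : Z ⟶ X) [IsClosedImmersion j] [X.IsSeparated] :
    Z.IsSeparated := ⟨by rw [← terminal.comp_from j]; infer_instance⟩

/-- Sections killed by `i'` multiply to zero if the square of the ideal of `i' ≫ j` dies on `X₁`. -/
theorem sqZero_of_ker_sq_le {X₀ X₁ X : Scheme.{u}} (i' : X₀ ⟶ X₁) (j : X₁ ⟶ X) [IsClosedImmersion j]
    [QuasiCompact i'] (h : ∀ W : X.affineOpens, (i' ≫ j).ker.ideal W ^ 2 ≤ j.ker.ideal W) : SqZero i' := by
  intro U a b ha hb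
  refine TopCat.Sheaf.eq_of_locally_eq' X₁.sheaf (fun W : {W : X.affineOpens // j ⁻¹ᵁ W.1 ≤ U} => j ⁻¹ᵁ W.1.1) U
    (fun W => homOfLE W.2) (fun z hz => ?_) (a * b) 0 fun W => ?_
  · obtain ⟨O, hO, hOU⟩ := j.isClosedEmbedding.isInducing.isOpen_iff.1 U.isOpen
    have hzO : j z ∈ O := by rw [← SetLike.mem_coe, ← hOU] at hz; exact hz
    obtain ⟨_, ⟨W, hW, rfl⟩, hzW, hWO⟩ := X.isBasis_affineOpens.exists_subset_of_mem_open hzO hO
    exact Opens.mem_iSup.2 ⟨⟨⟨W, hW⟩, fun w hw => show w ∈ (U : Set X₁) from hOU ▸ hWO hw⟩, hzW⟩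
  · obtain ⟨W, hWU⟩ := W
    show resR hWU (a * b) = resR hWU 0
    rw [map_mul, map_zero]
    obtain ⟨a', ha'⟩ := j.app_surjective W.1 W.2 (resR hWU a)
    obtain ⟨b', hb'⟩ := j.app_surjective W.1 W.2 (resR hWU b)
    have hk : ∀ (c' : Γ(X, W.1)), i'.app _ (j.app W.1 c') = 0 → c' ∈ (i' ≫ j).ker.ideal W := fun c' hc' => by
      rw [Scheme.Hom.ker_apply, RingHom.mem_ker]
      exact hc'
    have hmem := h W (by
      rw [pow_two]
      exact Ideal.mul_mem_mul (hk a' (by rw [ha']; exact app_res_zero hWU ha))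
        (hk b' (by rw [hb']; exact app_res_zero hWU hb)))
    rw [Scheme.Hom.ker_apply, RingHom.mem_ker, map_mul] at hmem
    rw [← ha', ← hb']
    exact hmem

/-- Ampleness is insensitive to a thickening with nilpotent ideal. -/
theorem isAmple_of_ker_pow : ∀ (k : ℕ) {X₀ X : Scheme.{u}} (i : X₀ ⟶ X) [IsClosedImmersion i] [Surjective i]
    [CompactSpace X] [X.IsSeparated] {L : X.Modules}, i.ker ^ (2 ^ k) = ⊥ → PicF.IsInvertible L →
    CohB1.IsAmple ((Scheme.Modules.pullback i).obj L) → CohB1.IsAmple L := by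
  intro k
  induction k with
  | zero =>
    intro X₀ X i _ _ _ _ L hk hL hA
    refine isAmple_of_sqZero (i := i) (sqZero_of_ker_sq_le i (𝟙 X) fun W => ?_) hL hA
    have := congrArg (fun I : X.IdealSheafData => I.ideal W) hk
    simp only [pow_zero, pow_one, Scheme.IdealSheafData.ideal_bot,
      Pi.bot_apply] at this
    rw [show (i ≫ 𝟙 X).ker = i.ker by rw [Category.comp_id], this, pow_two, Ideal.bot_mul]
    exact bot_le
  | succ k ih =>
    intro X₀ X i _ _ _ _ L hk hL hA
    let J := i.ker ^ 2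
    let j := J.subschemeι
    have hle : J ≤ i.ker := fun W => by
      simp only [J, Scheme.IdealSheafData.ideal_pow, Pi.pow_apply]
      exact Ideal.pow_le_self two_ne_zero
    let i' : X₀ ⟶ J.subscheme := i.toImage ≫ Scheme.IdealSheafData.inclusion hle
    have hij : i' ≫ j = i := by
      simp only [i', j, Category.assoc, Scheme.IdealSheafData.inclusion_subschemeι]
      exact i.toImage_imageι
    haveI : IsClosedImmersion i' := by
      haveI : IsClosedImmersion (i' ≫ j) := hij ▸ ‹IsClosedImmersion i›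
      exact IsClosedImmersion.of_comp i' j
    haveI : Surjective j := ⟨fun x => by
      obtain ⟨z, hz⟩ := i.surjective x
      exact ⟨i' z, by rw [← hz, ← hij]; rfl⟩⟩
    haveI : Surjective i' := ⟨fun z => by
      obtain ⟨w, hw⟩ := i.surjective (j z)
      exact ⟨w, j.isClosedEmbedding.injective (by rw [← hw, ← hij]; rfl)⟩⟩
    haveI := isSeparated_of_isClosedImmersion j
    haveI : CompactSpace J.subscheme := QuasiCompact.compactSpace_of_compactSpace j
    refine ih j ?_ hL (isAmple_of_sqZero (i := i') (sqZero_of_ker_sq_le i' j fun W => ?_)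
      (PicLoc.isInvertible_pullback _ hL) ?_)
    · refine Scheme.IdealSheafData.ext (funext fun W => ?_)
      have := congrArg (fun I : X.IdealSheafData => I.ideal W) hk
      simp only [Scheme.IdealSheafData.ker_subschemeι, j, J, Scheme.IdealSheafData.ideal_pow,
        Pi.pow_apply] at this ⊢
      rw [← pow_mul, ← pow_succ']
      exact this
    · rw [hij]
      simp [j, J]
    · exact isAmple_of_iso ((Scheme.Modules.pullbackComp i' j).app L ≪≫
        (Scheme.Modules.pullbackCongr hij).app L).symm hA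

/-- Ampleness can be tested on the reduction. -/
theorem isAmple_of_nilradical {X : Scheme.{u}} [AlgebraicGeometry.IsNoetherian X] [X.IsSeparated] {L : X.Modules}
    (hL : PicF.IsInvertible L) (hA : CohB1.IsAmple ((Scheme.Modules.pullback X.nilradical.subschemeι).obj L)) :
    CohB1.IsAmple L := by
  classical
  haveI : Surjective X.nilradical.subschemeι := ⟨fun x => by
    have : x ∈ Set.range X.nilradical.subschemeι := by
      rw [Scheme.IdealSheafData.range_subschemeι, Scheme.support_nilradical]; trivial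
    exact this⟩
  obtain ⟨S, hS⟩ := isCompact_univ.elim_finite_subcover (fun W : X.affineOpens => (W.1 : Set X)) (fun W => W.1.2)
    fun x _ => by
      obtain ⟨_, ⟨W, hW, rfl⟩, hxW, -⟩ := X.isBasis_affineOpens.exists_subset_of_mem_open
        (Set.mem_univ x) isOpen_univ
      exact Set.mem_iUnion.2 ⟨⟨W, hW⟩, hxW⟩
  have hn : ∀ W : S, ∃ n, X.nilradical.ideal W.1 ^ n = ⊥ := fun W => by
    haveI : IsNoetherianRing Γ(X, W.1.1) := IsLocallyNoetherian.component_noetherian W.1
    rw [show X.nilradical.ideal W.1 = nilradical Γ(X, W.1.1) from rfl]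
    exact IsNoetherianRing.isNilpotent_nilradical _
  choose n hn using hn
  obtain ⟨k, hk⟩ : ∃ k, ∀ W, n W ≤ 2 ^ k := ⟨Finset.univ.sup n, fun W =>
    (Finset.le_sup (Finset.mem_univ W)).trans Nat.lt_two_pow_self.le⟩
  refine isAmple_of_ker_pow k _ ?_ hL hA
  rw [Scheme.IdealSheafData.ker_subschemeι]
  refine Scheme.IdealSheafData.ext_of_iSup_eq_top (fun W : S => W.1) ?_ fun W => ?_
  · refine top_le_iff.1 fun x _ => ?_
    obtain ⟨W, hW, hxW⟩ := Set.mem_iUnion₂.1 (hS (Set.mem_univ x))
    exact Opens.mem_iSup.2 ⟨⟨W, hW⟩, hxW⟩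
  · rw [Scheme.IdealSheafData.ideal_pow, Pi.pow_apply]
    exact le_bot_iff.1 ((Ideal.pow_le_pow_right (hk W)).trans (hn W).le)

end Groth.Agent.NormX
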