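import Groth.Agent.AmpleX.Sect
import Groth.Agent.AmpleX.Separated
import Groth.Agent.QCoh.ClosedPush
import Groth.Agent.LimChev.Main
import Groth.Agent.InvX.GenLocusPull

/-!
# Ampleness is insensitive to square-zero thickenings
-/

noncomputable section

universe u

open CategoryTheory AlgebraicGeometry TopologicalSpace Opposite
open Groth.Agent Groth.Agent.AModX Groth.Agent.AmpleX Groth.Agent.H23.PicMul

set_option linter.style.haveILetI false
set_option linter.unusedSectionVars false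
set_option maxHeartbeats 1000000
set_option backward.isDefEq.respectTransparency false
set_option backward.isDefEq.respectTransparency.types false

namespace Groth.Agent.NormX

variable {X₀ X : Scheme.{u}} (i : X₀ ⟶ X) [IsClosedImmersion i] [Surjective i]

/-- The ideal of `i` squares to zero. -/
def SqZero : Prop :=
  ∀ (U : X.Opens) (a b : Γ(X, U)), i.app U a = 0 → i.app U b = 0 → a * b = 0

variable {i}

theorem basicOpen_add_of_app_eq_zero (h : SqZero i) {U : X.Opens} (a n : Γ(X, U)) (hn : i.app U n = 0) :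
    X.basicOpen (a + n) = X.basicOpen a := by
  have hnil : ∀ x (hx : x ∈ U), X.presheaf.germ U x hx n ∈ IsLocalRing.maximalIdeal (X.presheaf.stalk x) :=
    fun x hx => (IsLocalRing.maximalIdeal.isMaximal _).isPrime.mem_of_pow_mem 2 (by
      rw [← map_pow, sq, h U n n hn hn, map_zero]; exact zero_mem _)
  have key : ∀ {c d : Γ(X, U)}, (∀ x (hx : x ∈ U), X.presheaf.germ U x hx (d - c) ∈
      IsLocalRing.maximalIdeal (X.presheaf.stalk x)) → X.basicOpen c ≤ X.basicOpen d := fun {c d} hcd x hx => by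
    have hxU := X.basicOpen_le c hx
    refine (X.mem_basicOpen d x hxU).2 ?_
    by_contra hu
    rw [← mem_nonunits_iff, ← IsLocalRing.mem_maximalIdeal] at hu
    have := sub_mem hu (hcd x hxU)
    rw [map_sub, sub_sub_cancel, IsLocalRing.mem_maximalIdeal, mem_nonunits_iff] at this
    exact this ((X.mem_basicOpen c x hxU).1 hx)
  refine le_antisymm (key fun x hx => ?_) (key fun x hx => ?_)
  · rw [show a - (a + n) = -n by ring, map_neg]
    exact neg_mem (hnil x hx)
  · rw [show a + n - a = n by ring]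
    exact hnil x hx

omit [IsClosedImmersion i] [Surjective i] in
theorem app_res_zero {U V : X.Opens} (h : V ≤ U) {a : Γ(X, U)} (ha : i.app U a = 0) :
    i.app V (resR h a) = 0 := by
  show i.app V (X.presheaf.map (homOfLE h).op a) = 0
  rw [← CommRingCat.comp_apply, Scheme.Hom.naturality, CommRingCat.comp_apply, ha]
  exact map_zero _

theorem mul_zero' (h : SqZero i) {U : X.Opens} {a b c : Γ(X, U)} (hab : i.app U (a - b) = 0)
    (hc : i.app U c = 0) (k : ℕ) : a ^ k * c = b ^ k * c := by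
  induction k with
  | zero => rw [pow_zero, pow_zero]
  | succ k ih =>
    have := h U _ _ hab hc
    rw [pow_succ', pow_succ', mul_assoc, mul_assoc, ih, ← sub_eq_zero, ← sub_mul, mul_left_comm, this, mul_zero]

theorem pow_succ_sub (h : SqZero i) {U : X.Opens} {a b : Γ(X, U)} (hab : i.app U (a - b) = 0) (k : ℕ) :
    a ^ (k + 1) - b ^ (k + 1) = (k + 1 : ℕ) * (b ^ k * (a - b)) := by
  induction k with
  | zero => ring
  | succ k ih =>
    have h1 : a ^ (k + 1) * (a - b) = b ^ (k + 1) * (a - b) := mul_zero' h hab hab (k + 1)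
    have h2 : a ^ (k + 1 + 1) - b ^ (k + 1 + 1) = a ^ (k + 1) * (a - b) + b * (a ^ (k + 1) - b ^ (k + 1)) := by
      ring
    rw [h2, h1, ih]
    push_cast
    ring

/-- A power of a section with affine locus lifts along a square-zero thickening. -/
theorem exists_lift_section [CompactSpace X] [X.IsSeparated] (h : SqZero i) {N : X.Modules}
    (hN : PicF.IsInvertible N) (hNq : Coh.IsQCoh N) (s₀ : Γ((Scheme.Modules.pullback i).obj N, i ⁻¹ᵁ ⊤))
    {V : X.Opens} (hV : i ⁻¹ᵁ V = locus s₀) (hVa : IsAffineOpen V) :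
    ∃ (K : ℕ) (_ : 0 < K) (T : Γ(CohB1.tensorPow N K, ⊤)), locus T = V := by
  classical
  have hl : ∀ x : X, ∃ (U : X.Opens) (e : Γ(N, U)), IsAffineOpen U ∧ x ∈ U ∧ InvX.IsFrame e := fun x => by
    obtain ⟨U₀, hxU₀, e₀, he₀⟩ := InvX.exists_frame hN x
    obtain ⟨_, ⟨U, hU, rfl⟩, hxU, hle⟩ := X.isBasis_affineOpens.exists_subset_of_mem_open hxU₀ U₀.2
    exact ⟨U, res N hle e₀, hU, hxU, he₀.res _⟩
  choose U e hU hxU he using hl
  obtain ⟨S, hS⟩ := isCompact_univ.elim_finite_subcover (fun x => (U x : Set X)) (fun x => (U x).2)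
    fun x _ => Set.mem_iUnion.2 ⟨x, hxU x⟩
  have hlift : ∀ x, ∃ a : Γ(X, U x),
      res _ (i.preimage_mono (le_top : U x ≤ ⊤)) s₀ = i.app (U x) a • InvX.pullElt i (e x) := fun x => by
    obtain ⟨σ, hσ⟩ := (QCoh.unit_app_closed i hNq (hU x)).1 (res _ (i.preimage_mono (le_top : U x ≤ ⊤)) s₀)
    obtain ⟨a, ha⟩ := (he x).exists_coord le_rfl σ
    rw [res_self] at ha
    refine ⟨a, ?_⟩
    rw [← InvX.pullElt_smul, ← ha]
    exact hσ.symm
  choose a ha using hlift
  obtain ⟨t, ht⟩ := (QCoh.unit_app_closed i hNq hVa).1 (res _ (i.preimage_mono (le_top : V ≤ ⊤)) s₀)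
  have hDeq : ∀ x, U x ⊓ V = X.basicOpen (a x) := fun x => by
    have h1 := locus_inf s₀ (i.preimage_mono (le_top : U x ≤ ⊤)) (InvX.isFrame_pullElt i (he x)) (ha x)
    rw [← hV, ← Scheme.preimage_basicOpen] at h1
    refine Opens.ext (Set.ext fun z => ?_)
    obtain ⟨z₀, rfl⟩ := i.surjective z
    have := congrArg (fun O : X₀.Opens => z₀ ∈ O) h1
    exact ⟨fun hz => this.mp ⟨hz.2, hz.1⟩, fun hz => ⟨(this.mpr hz).2, (this.mpr hz).1⟩⟩
  have hc : ∀ x, ∃ c : Γ(X, X.basicOpen (a x)), i.app (X.basicOpen (a x)) c = 0 ∧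
      res N ((hDeq x).ge.trans inf_le_right) t =
        (resR (X.basicOpen_le (a x)) (a x) + c) • res N (X.basicOpen_le (a x)) (e x) := fun x => by
    obtain ⟨c, hc⟩ := ((he x).res (X.basicOpen_le (a x))).exists_coord le_rfl (res N ((hDeq x).ge.trans inf_le_right) t)
    rw [res_self] at hc
    refine ⟨c - resR (X.basicOpen_le (a x)) (a x), ?_, by rw [add_sub_cancel]; exact hc⟩
    rw [map_sub, sub_eq_zero]
    refine (InvX.isFrame_pullElt i ((he x).res (X.basicOpen_le (a x)))).coord_unique le_rfl ?_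
    simp only [res_self]
    rw [← InvX.pullElt_smul, ← InvX.pullElt_smul, ← hc, ← res_smul, ← InvX.res_pullElt i (X.basicOpen_le (a x)),
      ← InvX.res_pullElt i ((hDeq x).ge.trans inf_le_right), InvX.pullElt_smul, ← ha]
    refine Eq.trans (congrArg (res _ _) (show InvX.pullElt i t = _ from ht)) ?_
    rw [res_res, res_res]
  choose c hci hct using hc
  have hf : ∀ x, ∃ (k : ℕ) (f : Γ(X, U x)), i.app (U x) f = 0 ∧
      resR (X.basicOpen_le (a x)) f = resR (X.basicOpen_le (a x)) (a x) ^ k * c x := fun x => by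
    letI := (resR (X.basicOpen_le (a x))).toAlgebra
    haveI : IsLocalization.Away (a x) Γ(X, X.basicOpen (a x)) := (hU x).isLocalization_basicOpen (a x)
    obtain ⟨⟨f, ⟨_, k, rfl⟩⟩, hf⟩ := IsLocalization.surj (Submonoid.powers (a x)) (c x)
    have hf' : resR (X.basicOpen_le (a x)) f = resR (X.basicOpen_le (a x)) (a x) ^ k * c x := by
      refine hf.symm.trans ?_
      rw [show algebraMap Γ(X, U x) Γ(X, X.basicOpen (a x)) = resR (X.basicOpen_le (a x)) from rfl, map_pow,
        mul_comm]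
    have h0 : X₀.presheaf.map (homOfLE (i.preimage_mono (X.basicOpen_le (a x)))).op (i.app (U x) f) = 0 := by
      have hn : ∀ (W : X.Opens) (hW : W ≤ U x), X₀.presheaf.map (homOfLE (i.preimage_mono hW)).op (i.app (U x) f) =
          i.app W (resR hW f) := fun W hW =>
        (congrArg (fun φ => φ f) (Scheme.Hom.naturality i (homOfLE hW).op)).symm
      rw [hn _ (X.basicOpen_le (a x))]
      rw [hf', map_mul, hci, mul_zero]
    haveI : IsAffine (U x).toScheme := hU x
    have h1 : X₀.presheaf.map (homOfLE (X₀.basicOpen_le (i.app (U x) (a x)))).op (i.app (U x) f) = 0 := by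
      have := congrArg (X₀.presheaf.map (eqToHom (Scheme.preimage_basicOpen i (a x)).symm).op) h0
      rw [map_zero, ← CommRingCat.comp_apply, ← Functor.map_comp] at this
      exact this
    letI := (X₀.presheaf.map (homOfLE (X₀.basicOpen_le (i.app (U x) (a x)))).op).hom.toAlgebra
    haveI := ((hU x).preimage i).isLocalization_basicOpen (i.app (U x) (a x))
    obtain ⟨⟨_, l, rfl⟩, hl⟩ := (IsLocalization.map_eq_zero_iff (Submonoid.powers (i.app (U x) (a x)))
      Γ(X₀, X₀.basicOpen (i.app (U x) (a x))) _).1 h1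
    refine ⟨l + k, a x ^ l * f, by rw [map_mul, map_pow]; exact hl, ?_⟩
    rw [map_mul, map_pow, hf', pow_add, mul_assoc]
  choose k f hfi hfc using hf
  -- a common exponent
  let k₀ := S.sup k
  let f₀ : ∀ x : S, Γ(X, U x) := fun x => a x ^ (k₀ - k x) * f x
  have hf₀i : ∀ x : S, i.app (U x) (f₀ x) = 0 := fun x => by rw [map_mul, hfi, mul_zero]
  have hf₀c : ∀ x : S, resR (X.basicOpen_le (a x.1)) (f₀ x) = resR (X.basicOpen_le (a x.1)) (a x.1) ^ k₀ * c x.1 :=
    fun x => by
      rw [map_mul, map_pow, hfc, ← mul_assoc, ← pow_add, Nat.sub_add_cancel (Finset.le_sup x.2)]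
  -- the cocycle
  have hcoc : ∀ x y : S, ∃ u : Γ(X, U x ⊓ U y), res N inf_le_left (e x.1) = u • res N inf_le_right (e y.1) ∧
      i.app (U x ⊓ U y) (resR inf_le_left (a x.1) * u - resR inf_le_right (a y.1)) = 0 := fun x y => by
    obtain ⟨u, hu⟩ := (he y.1).exists_coord (inf_le_right : U x ⊓ U y ≤ U y) (res N inf_le_left (e x.1))
    refine ⟨u, hu, ?_⟩
    rw [map_sub, sub_eq_zero]
    refine (InvX.isFrame_pullElt i ((he y.1).res (inf_le_right : U x ⊓ U y ≤ U y))).coord_unique le_rfl ?_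
    simp only [res_self]
    rw [← InvX.pullElt_smul, ← InvX.pullElt_smul, mul_smul, ← hu, ← res_smul, ← res_smul,
      ← InvX.res_pullElt i (inf_le_left : U x ⊓ U y ≤ U x), ← InvX.res_pullElt i (inf_le_right : U x ⊓ U y ≤ U y),
      InvX.pullElt_smul, InvX.pullElt_smul, ← ha, ← ha, res_res, res_res]
  choose u hu hud using hcoc
  let d : ∀ x y : S, Γ(X, U x ⊓ U y) := fun x y => resR inf_le_left (a x.1) * u x y - resR inf_le_right (a y.1)
  let Z : ∀ (_ : ℕ) (x y : S), Γ(X, U x ⊓ U y) := fun l x y =>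
    resR inf_le_right (a y.1) ^ (k₀ + l) * d x y +
      u x y ^ (k₀ + l + 1) * resR inf_le_left (a x.1 ^ l * f₀ x) - resR inf_le_right (a y.1 ^ l * f₀ y)
  have hZ : ∀ (l : ℕ) (x y : S), Z l x y = resR inf_le_right (a y.1) ^ l * Z 0 x y := fun l x y => by
    have e1 : (resR inf_le_left (a x.1) * u x y) ^ l * resR inf_le_left (f₀ x) =
        resR inf_le_right (a y.1) ^ l * resR inf_le_left (f₀ x) :=
      mul_zero' h (hud x y) (app_res_zero _ (hf₀i x)) l
    simp only [Z, map_mul, map_pow, pow_zero, one_mul, add_zero]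
    linear_combination (u x y ^ (k₀ + 1)) * e1
  have hvan : ∀ x y : S, ∃ l, resR inf_le_right (a y.1) ^ l * Z 0 x y = 0 := fun x y => by
    let W := U x ⊓ U y
    let a' : Γ(X, W) := resR inf_le_right (a y.1)
    have hWa : IsAffineOpen W := (hU _).inf (hU _)
    have hbo : X.basicOpen a' = W ⊓ X.basicOpen (a y.1) := Scheme.basicOpen_res _ _ _
    let R := X.basicOpen a'
    have hx' : R ≤ X.basicOpen (a x.1) := by
      rw [← hDeq]
      refine le_inf ((X.basicOpen_le a').trans inf_le_left) ?_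
      exact (hbo.le.trans inf_le_right).trans ((hDeq y.1).ge.trans inf_le_right)
    have hy' : R ≤ X.basicOpen (a y.1) := hbo.le.trans inf_le_right
    let ρ := resR (X.basicOpen_le a')
    have hx : ρ (resR inf_le_left (f₀ x)) = resR hx' (resR (X.basicOpen_le _) (a x.1) ^ k₀ * c x.1) := by
      rw [← hf₀c, resR_resR, resR_resR]
    have hy : ρ (resR inf_le_right (f₀ y)) = resR hy' (resR (X.basicOpen_le _) (a y.1) ^ k₀ * c y.1) := by
      rw [← hf₀c, resR_resR, resR_resR]
    let cx : Γ(X, R) := resR hx' (c x.1)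
    let cy : Γ(X, R) := resR hy' (c y.1)
    let A : Γ(X, R) := resR ((X.basicOpen_le a').trans inf_le_left) (a x.1)
    let B : Γ(X, R) := resR ((X.basicOpen_le a').trans inf_le_right) (a y.1)
    let w : Γ(X, R) := ρ (u x y)
    have hcd : (A + cx) * w = B + cy := by
      refine ((he y.1).res ((X.basicOpen_le a').trans inf_le_right)).coord_unique le_rfl ?_
      simp only [res_self]
      have h1 := congrArg (res N hx') (hct x.1)
      have h2 := congrArg (res N hy') (hct y.1)
      rw [res_smul, res_res, res_res, map_add, resR_resR] at h1 h2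
      have h3 := congrArg (res N (X.basicOpen_le a')) (hu x y)
      rw [res_smul, res_res, res_res] at h3
      rw [mul_smul, ← h3, ← h1, h2]
    have hd0 : i.app R (A * w - B) = 0 := by
      have := app_res_zero (i := i) (X.basicOpen_le a') (hud x y)
      rw [map_sub ρ, map_mul ρ, resR_resR, resR_resR] at this
      exact this
    have e1 : (A * w) ^ k₀ * cx = B ^ k₀ * cx := mul_zero' h hd0 (app_res_zero hx' (hci x.1)) k₀
    have h0 : ρ (Z 0 x y) = 0 := by
      have eA : ρ (resR inf_le_left (a x.1)) = A := resR_resR _ _ _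
      have eB : ρ (resR inf_le_right (a y.1)) = B := resR_resR _ _ _
      have eA' : resR hx' (resR (X.basicOpen_le _) (a x.1)) = A := resR_resR _ _ _
      have eB' : resR hy' (resR (X.basicOpen_le _) (a y.1)) = B := resR_resR _ _ _
      simp only [Z, d, pow_zero, one_mul, add_zero, map_sub, map_add, map_mul, map_pow, hx, hy, eA, eB, eA', eB']
      linear_combination w * e1 + B ^ k₀ * hcd
    letI := (resR (X.basicOpen_le a')).toAlgebra
    haveI : IsLocalization.Away a' Γ(X, X.basicOpen a') := hWa.isLocalization_basicOpen a'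
    obtain ⟨⟨_, l, rfl⟩, hl⟩ := (IsLocalization.map_eq_zero_iff (Submonoid.powers a') Γ(X, X.basicOpen a') _).1 h0
    exact ⟨l, hl⟩
  choose l hl using hvan
  let L := Finset.univ.sup fun p : S × S => l p.1 p.2
  let K := k₀ + L + 1
  let τ : ∀ x : S, Γ(X, U x) := fun x => a x.1 ^ K + (K : Γ(X, U x)) * (a x.1 ^ L * f₀ x)
  obtain ⟨T, hT, -⟩ := AModX.existsUnique_glue (M := CohB1.tensorPow N K) (fun x : S => U x.1) (fun _ => le_top)
    (fun z _ => by
      obtain ⟨x, hx, hzx⟩ := Set.mem_iUnion₂.1 (hS (Set.mem_univ z))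
      exact ⟨⟨x, hx⟩, hzx⟩)
    (fun x => τ x • powElt (e x.1) K) fun x y => by
      rw [res_smul, res_smul, res_powElt, res_powElt, hu, powElt_smul, smul_smul]
      congr 1
      have h1 : Z L x y = 0 := by
        obtain ⟨j, hj⟩ := Nat.exists_eq_add_of_le (Finset.le_sup (f := fun p : S × S => l p.1 p.2) (Finset.mem_univ (x, y)))
        rw [hZ, show (L : ℕ) = l x y + j from hj, pow_add, mul_assoc, mul_left_comm, hl, mul_zero]
      have h2 := pow_succ_sub h (hud x y) (k₀ + L)
      simp only [τ, K, Z, d] at h1 h2 ⊢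
      simp only [map_add, map_mul, map_pow, map_natCast] at h1 h2 ⊢
      linear_combination h2 + (((k₀ + L + 1 : ℕ) : Γ(X, U x ⊓ U y))) * h1
  refine ⟨K, Nat.succ_pos _, T, Opens.ext (Set.ext fun z => ?_)⟩
  obtain ⟨x, hx, hzx⟩ := Set.mem_iUnion₂.1 (hS (Set.mem_univ z))
  have h1 := locus_inf T le_top (isFrame_powElt (he x) K) (hT ⟨x, hx⟩)
  rw [basicOpen_add_of_app_eq_zero h _ _ (by rw [map_mul, map_mul, show i.app (U x) (f₀ ⟨x, hx⟩) = 0 from hf₀i ⟨x, hx⟩, mul_zero, mul_zero]),
    X.basicOpen_pow (f := a x) (Nat.succ_pos _), ← hDeq] at h1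
  have h2 := congrArg (fun O : X.Opens => z ∈ O) h1
  exact ⟨fun hzT => (h2.mp ⟨hzT, hzx⟩).2, fun hzV => (h2.mpr ⟨hzx, hzV⟩).1⟩

/-- Ampleness is insensitive to a square-zero thickening. -/
theorem isAmple_of_sqZero [CompactSpace X] [X.IsSeparated] (h : SqZero i) {L : X.Modules} (hL : PicF.IsInvertible L)
    (hA : CohB1.IsAmple ((Scheme.Modules.pullback i).obj L)) : CohB1.IsAmple L := by
  refine isAmple_iff.2 ⟨hL, inferInstance, fun z => ?_⟩
  obtain ⟨z₀, rfl⟩ := i.surjective z
  obtain ⟨-, -, hx⟩ := isAmple_iff.1 hA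
  obtain ⟨m, hm, s, hzs, hs⟩ := hx z₀
  have hcl : PicF.cl (CohB1.tensorPow ((Scheme.Modules.pullback i).obj L) m) =
      PicF.cl ((Scheme.Modules.pullback i).obj (CohB1.tensorPow L m)) := by
    rw [cl_tensorPow]
    refine Eq.trans ?_ (show PicF.pullCl i (PicF.cl (CohB1.tensorPow L m)) = _ from rfl)
    rw [cl_tensorPow, pullCl_pow]
    rfl
  obtain ⟨s₀, hs₀⟩ := exists_locus_cl hcl (InvX.one s)
  rw [← genLocus_eq_locus] at hs₀
  let G := CohB1.genLocus _ s
  let V : X.Opens := ⟨i '' (G : Set X₀), by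
    rw [← isClosed_compl_iff, ← Set.image_compl_eq ⟨i.isClosedEmbedding.injective, i.surjective⟩]
    exact i.isClosedEmbedding.isClosedMap _ G.isOpen.isClosed_compl⟩
  have hpre : i ⁻¹ᵁ V = G := Opens.ext (Set.preimage_image_eq _ i.isClosedEmbedding.injective)
  have hVa : IsAffineOpen V := by
    haveI : IsAffine (i ⁻¹ᵁ V).toScheme := hpre ▸ hs
    haveI : Surjective (i ∣_ V) := MorphismProperty.of_isPullback (isPullback_morphismRestrict i V).flip ‹Surjective i›
    exact LimChev.isAffine_of_surjective (i ∣_ V)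
  have hm' := InvX.isInvertible_tensorPow hL m
  obtain ⟨K, hK, T, hT⟩ := exists_lift_section h hm' (ProjUPX.isQCoh_of_isInvertible hm')
    (show Γ((Scheme.Modules.pullback i).obj (CohB1.tensorPow L m), i ⁻¹ᵁ ⊤) from s₀) (V := V)
    (hpre.trans hs₀.symm) hVa
  obtain ⟨T', hT'⟩ := exists_locus_cl (N := CohB1.tensorPow L (m * K))
    (show PicF.cl (CohB1.tensorPow (CohB1.tensorPow L m) K) = _ by
      rw [cl_tensorPow, cl_tensorPow, cl_tensorPow, ← pow_mul]) T
  refine ⟨m * K, Nat.mul_pos hm hK, InvX.ofSect T', ?_⟩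
  rw [genLocus_eq_locus, InvX.one_ofSect, hT', hT]
  exact ⟨⟨z₀, hzs, rfl⟩, hVa⟩

end Groth.Agent.NormX
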